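import Mathlib
import Cfsg.Agent.H771.KTools_m3
import Cfsg.Agent.ClassicalGeometry.AutPSL.Main
import Cfsg.Agent.Lib.FieldAutCard
import Cfsg.Agent.H953.Index
import Cfsg.Agent.H700.PsuRow.Tor
import Cfsg.Agent.S0280
import Cfsg.Agent.BenderType.Classify
import Cfsg.Agent.Lib.Refl
import Cfsg.Agent.Lib.ListFast
import Cfsg.Agent.H383.Cov.PlusC
import Cfsg.Agent.S0292
import Cfsg.Agent.S0293
import Cfsg.Agent.S0294
import Cfsg.Agent.AutOrth.Main
import Cfsg.Agent.S0814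
import Cfsg.Agent.H376.SpEmb
import Cfsg.Agent.LieClassical.SympCount
import Cfsg.Agent.H92.PRegE8R
import Cfsg.Agent.H341.ThreeList_m3
import Cfsg.Agent.H129.CycRow
import Cfsg.Agent.H129.DataE6
import Cfsg.Agent.S1062
import Cfsg.Agent.S1063
import Cfsg.Agent.S1064
import Cfsg.Agent.S1065
import Cfsg.Agent.S1066
import Cfsg.Agent.S2122
import Cfsg.Agent.S2123
import Cfsg.Agent.S2124
import Cfsg.Agent.S2125
import Cfsg.Agent.S2130
import Cfsg.Agent.H92.ExcF4Two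
import Cfsg.Agent.Lib.RingK
import Cfsg.Agent.FastGrp
import Cfsg.Agent.Prune
set_option linter.all false

section
prune_inst 0x7ffda8fcf9ba33ffffff7e77fe98ddfc1b915fffacdf694bffe069ff0fdf231209c5a38d09e050fe0e96401410a87843fb7eeeffe06fd87ffffdbff41ffbee1fa5e73508119080240f346ffe83f0778e7f3ffffffffffffffffffffff7ffffbeffbdffffffff

-- part: H93/PReg/NumPslFin
section
set_option linter.all false
open scoped Cfsg.Agent.FastGrp

-- part: H93/PReg/Num
section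
/-!
# Arithmetic for the rows of the classical groups (for S4883)
-/

set_option autoImplicit false

namespace Cfsg.Agent.H93.PReg.Num

open Finset

/-- a square of a prime dividing a product -/
theorem sq_dvd_prod {ι : Type*} [DecidableEq ι] {p : ℕ} (hp : p.Prime) (s : Finset ι) (g : ι → ℕ)
    (h : p ^ 2 ∣ ∏ i ∈ s, g i) :
    (∃ i ∈ s, p ^ 2 ∣ g i) ∨ ∃ i ∈ s, ∃ j ∈ s, i ≠ j ∧ p ∣ g i ∧ p ∣ g j := by
  by_contra hcon
  push Not at hcon
  obtain ⟨h1, h2⟩ := hcon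
  have hp1 : p ∣ ∏ i ∈ s, g i := (dvd_pow_self p (by norm_num)).trans h
  obtain ⟨i, hi, hpi⟩ := (hp.prime.dvd_finsetProd_iff _).1 hp1
  rw [← mul_prod_erase s g hi] at h
  have h3 : Nat.Coprime (p ^ 2) (∏ x ∈ s.erase i, g x) := by
    apply Nat.Coprime.pow_left
    rw [Nat.Prime.coprime_iff_not_dvd hp]
    intro h4
    obtain ⟨j, hj, hpj⟩ := (hp.prime.dvd_finsetProd_iff _).1 h4
    rw [mem_erase] at hj
    exact h2 i hi j hj.2 hj.1.symm hpi hpj
  exact h1 i hi (h3.dvd_of_dvd_mul_right h)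

theorem dvd_sub_iff {p q i : ℕ} (hq : 1 ≤ q) : p ∣ q ^ i - 1 ↔ (q : ZMod p) ^ i = 1 := by
  rw [← Nat.cast_pow, ← ZMod.natCast_eq_zero_iff, Nat.cast_sub (Nat.one_le_pow _ _ hq), Nat.cast_one, sub_eq_zero]

theorem dvd_gcd {p q i j : ℕ} (hq : 1 ≤ q) (hi : p ∣ q ^ i - 1) (hj : p ∣ q ^ j - 1) : p ∣ q ^ Nat.gcd i j - 1 := by
  rw [dvd_sub_iff hq] at *
  exact pow_gcd_eq_one.2 ⟨hi, hj⟩

/-- a divisor of `q^i - 1` prime to `q - 1` -/
theorem mul_le_of_dvd {a q i : ℕ} (hq : 2 ≤ q) (hi : 1 ≤ i) (h : a ∣ q ^ i - 1) (hc : Nat.Coprime a (q - 1)) :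
    a * (q - 1) ≤ q ^ i - 1 := by
  have h1 : (q - 1) ∣ q ^ i - 1 := by simpa using Nat.sub_dvd_pow_sub_pow q 1 i
  have h2 : a * (q - 1) ∣ q ^ i - 1 := hc.mul_dvd_of_dvd_of_dvd h h1
  refine Nat.le_of_dvd ?_ h2
  have : q ^ 1 ≤ q ^ i := Nat.pow_le_pow_right (by omega) hi
  rw [pow_one] at this
  omega

/-- the bound for `p` in `PSL_n(q)`, `n ≥ 3` -/
theorem psl_sq_le {p q n : ℕ} (hp : p.Prime) (hq : 2 ≤ q) (hn : 3 ≤ n)
    (h : p ^ 2 ∣ ∏ j ∈ Icc 2 n, (q ^ j - 1)) : p ^ 2 * (q - 1) ≤ q ^ n - 1 := by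
  obtain ⟨a, rfl⟩ : ∃ a, q = a + 1 := ⟨q - 1, by omega⟩
  have hmono : ∀ i, 1 ≤ i → i ≤ n → (a + 1) ^ i ≤ (a + 1) ^ n := fun i _ hi =>
    Nat.pow_le_pow_right (by omega) hi
  by_cases h1 : p ∣ a
  · -- `p ∣ q - 1`
    have hle : p ≤ a := Nat.le_of_dvd (by omega) h1
    have h3 : (a + 1) ^ 3 ≤ (a + 1) ^ n := hmono 3 (by norm_num) hn
    have h4 : p ^ 2 ≤ a ^ 2 := Nat.pow_le_pow_left hle 2
    have h5 : p ^ 2 * (a + 1 - 1) ≤ a ^ 2 * a := by
      rw [Nat.add_sub_cancel]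
      exact Nat.mul_le_mul_right a h4
    have h6 : a ^ 2 * a + 1 ≤ (a + 1) ^ 3 := by ring_nf; nlinarith
    omega
  · have hcp : Nat.Coprime p (a + 1 - 1) := by
      rw [Nat.add_sub_cancel]
      exact (Nat.Prime.coprime_iff_not_dvd hp).2 h1
    rcases sq_dvd_prod hp _ _ h with ⟨i, hi, hpi⟩ | ⟨i, hi, j, hj, hij, hpi, hpj⟩
    · rw [mem_Icc] at hi
      have h2 := mul_le_of_dvd hq (by omega) hpi (Nat.Coprime.pow_left 2 hcp)
      have h3 := hmono i (by omega) hi.2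
      omega
    · rw [mem_Icc] at hi hj
      have hg := dvd_gcd (by omega) hpi hpj
      have he0 : 0 < Nat.gcd i j := Nat.gcd_pos_of_pos_left _ (by omega)
      have h2e : 2 * Nat.gcd i j ≤ n := by
        obtain ⟨u, hu⟩ := Nat.gcd_dvd_left i j
        obtain ⟨v, hv⟩ := Nat.gcd_dvd_right i j
        have hu0 : u ≠ 0 := by rintro rfl; omega
        have hv0 : v ≠ 0 := by rintro rfl; omega
        have huv : u ≠ v := by
          intro huv
          exact hij (hu.trans ((congrArg (Nat.gcd i j * ·) huv).trans hv.symm))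
        rcases lt_or_gt_of_ne huv with hlt | hlt
        · have : 2 ≤ v := by omega
          have := Nat.mul_le_mul_left (Nat.gcd i j) this
          omega
        · have : 2 ≤ u := by omega
          have := Nat.mul_le_mul_left (Nat.gcd i j) this
          omega
      set e := Nat.gcd i j
      have h2 := mul_le_of_dvd hq he0 hg hcp
      rw [Nat.add_sub_cancel] at h2 ⊢
      have h3 := hmono (2 * e) (by omega) h2e
      have h4 : 1 ≤ (a + 1) ^ e := Nat.one_le_pow _ _ (by omega)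
      -- `p a ≤ Q - 1`, `p² a ≤ Q² - 1`
      obtain ⟨Q, hQ⟩ : ∃ Q, (a + 1) ^ e = Q + 1 := ⟨(a + 1) ^ e - 1, by omega⟩
      rw [hQ, Nat.add_sub_cancel] at h2
      have h5 : (a + 1) ^ (2 * e) = (Q + 1) ^ 2 := by rw [mul_comm, pow_mul, hQ]
      have hpQ : p ≤ Q := by
        refine le_trans ?_ h2
        exact Nat.le_mul_of_pos_right _ (by omega)
      have h6 : p ^ 2 * a ≤ Q * Q := by
        calc p ^ 2 * a = p * (p * a) := by ring
          _ ≤ p * Q := Nat.mul_le_mul_left _ h2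
          _ ≤ Q * Q := Nat.mul_le_mul_right _ hpQ
      have h7 : Q * Q + 1 ≤ (Q + 1) ^ 2 := by ring_nf; omega
      omega

end Cfsg.Agent.H93.PReg.Num
end

-- part: H93/PReg/NumPsl
section
/-!
# Arithmetic for `PSL_n(q)` (for S4883)
-/

set_option autoImplicit false

namespace Cfsg.Agent.H93.PReg.Num

open Finset

theorem key {a K T : ℕ} (ha : a ^ 2 ≤ 2 * T) (hK : 2 * K ^ 2 + 2 ≤ T) : a * K < T - 1 := by
  by_contra h
  push Not at h
  have h1 : (T - 1) ^ 2 ≤ (a * K) ^ 2 := Nat.pow_le_pow_left h 2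
  have h2 : (a * K) ^ 2 ≤ T * (T - 2) := by
    calc (a * K) ^ 2 = a ^ 2 * K ^ 2 := by ring
      _ ≤ 2 * T * K ^ 2 := Nat.mul_le_mul_right _ ha
      _ = T * (2 * K ^ 2) := by ring
      _ ≤ T * (T - 2) := Nat.mul_le_mul_left _ (by omega)
  obtain ⟨u, rfl⟩ : ∃ u, T = u + 2 := ⟨T - 2, by omega⟩
  have h3 : (u + 2 - 1) ^ 2 = (u + 2) * (u + 2 - 2) + 1 := by
    rw [show u + 2 - 1 = u + 1 by omega, show u + 2 - 2 = u by omega]; ring
  omega

theorem geom_mul {q n : ℕ} (hq : 2 ≤ q) : (q ^ n - 1) / (q - 1) * (q - 1) = q ^ n - 1 :=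
  Nat.div_mul_cancel (by simpa using Nat.sub_dvd_pow_sub_pow q 1 n)

theorem geom_eq {q n : ℕ} (hq : 2 ≤ q) : (q ^ n - 1) / (q - 1) = ∑ i ∈ range n, q ^ i :=
  (Nat.geomSum_eq hq n).symm

theorem geom_mod {p q n : ℕ} (hq : 2 ≤ q) (hp : p ∣ q - 1) : p ∣ (q ^ n - 1) / (q - 1) ↔ p ∣ n := by
  rw [geom_eq hq, ← ZMod.natCast_eq_zero_iff, ← ZMod.natCast_eq_zero_iff]
  push_cast
  have h1 : (q : ZMod p) = 1 := by
    have : ((q - 1 : ℕ) : ZMod p) = 0 := (ZMod.natCast_eq_zero_iff _ _).2 hp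
    rw [Nat.cast_sub (by omega), Nat.cast_one, sub_eq_zero] at this
    exact this
  simp [h1]

theorem T_le {q n : ℕ} (hq : 2 ≤ q) (hn : 1 ≤ n) : q ^ (n - 1) ≤ (q ^ n - 1) / (q - 1) := by
  rw [geom_eq hq]
  exact single_le_sum (f := fun i => q ^ i) (fun i _ => Nat.zero_le _) (mem_range.2 (by omega))

theorem le_two_T {q n : ℕ} (hq : 2 ≤ q) (hn : 1 ≤ n) : q ^ n - 1 ≤ 2 * q ^ (n - 1) * (q - 1) := by
  obtain ⟨m, rfl⟩ : ∃ m, n = m + 1 := ⟨n - 1, by omega⟩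
  obtain ⟨a, rfl⟩ : ∃ a, q = a + 2 := ⟨q - 2, by omega⟩
  rw [Nat.add_sub_cancel, pow_succ, show a + 2 - 1 = a + 1 by omega]
  have : (a + 2) ^ m * (a + 2) ≤ 2 * (a + 2) ^ m * (a + 1) := by
    calc (a + 2) ^ m * (a + 2) ≤ (a + 2) ^ m * (2 * (a + 1)) := Nat.mul_le_mul_left _ (by omega)
      _ = _ := by ring
  omega

/-- **the inequality for `PSL_n(q)`** -/
theorem psl_big {p q n K : ℕ} (hp : p.Prime) (h5 : 5 ≤ p) (hq : 2 ≤ q) (hn : 3 ≤ n)
    (h : p ∣ q ∨ p ^ 2 * (q - 1) ≤ q ^ n - 1) (hK : 2 * K ^ 2 + 2 ≤ q ^ (n - 1)) :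
    (p - 1) * K * p ^ ((q ^ n - 1) / (q - 1)).factorization p < (q ^ n - 1) / (q - 1) ∨
      (p - 1) * K * p ^ (q ^ (n - 1) - 1).factorization p < q ^ (n - 1) - 1 := by
  have hT := T_le hq (show 1 ≤ n by omega)
  have hM := geom_mul (n := n) hq
  set M := (q ^ n - 1) / (q - 1) with hMd
  have hpK : (p - 1) * K ≤ p * K := Nat.mul_le_mul_right _ (by omega)
  rcases h with h | h
  · -- the defining characteristic
    left
    have h1 : ¬ p ∣ M := by
      intro h1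
      have h2 : p ∣ q ^ n - 1 := hM ▸ h1.mul_right _
      have h3 : p ∣ q ^ n := dvd_pow h (by omega)
      have h4 : p ∣ q ^ n - (q ^ n - 1) := Nat.dvd_sub h3 h2
      have h5 : 1 ≤ q ^ n := Nat.one_le_pow _ _ (by omega)
      rw [show q ^ n - (q ^ n - 1) = 1 by omega] at h4
      exact hp.one_lt.ne' (Nat.dvd_one.1 h4)
    rw [Nat.factorization_eq_zero_of_not_dvd h1, pow_zero, mul_one]
    have h2 : p ≤ q := Nat.le_of_dvd (by omega) h
    have h3 : p ^ 2 ≤ 2 * q ^ (n - 1) := by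
      have : p ^ 2 ≤ q ^ 2 := Nat.pow_le_pow_left h2 2
      have : q ^ 2 ≤ q ^ (n - 1) := Nat.pow_le_pow_right (by omega) (by omega)
      omega
    have := key h3 hK
    omega
  have hp2 : p ^ 2 ≤ 2 * q ^ (n - 1) := by
    have h1 := le_two_T hq (show 1 ≤ n by omega)
    exact Nat.le_of_mul_le_mul_right (h.trans h1) (by omega)
  have hk := key hp2 hK
  by_cases hA : p ∣ M
  · right
    by_cases hB : p ∣ q ^ (n - 1) - 1
    · -- `p ∣ q - 1`, `p ∣ n`
      have h1 : p ∣ q ^ n - 1 := hM ▸ hA.mul_right _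
      have h2 := dvd_gcd (by omega) h1 hB
      have h3 : Nat.gcd n (n - 1) = 1 := by
        obtain ⟨m, rfl⟩ : ∃ m, n = m + 1 := ⟨n - 1, by omega⟩
        simp
      rw [h3, pow_one] at h2
      have h4 : p ∣ n := (geom_mod hq h2).1 hA
      have hn5 : 5 ≤ n := h5.trans (Nat.le_of_dvd (by omega) h4)
      have hZ : ¬ p ∣ (q ^ (n - 1) - 1) / (q - 1) := by
        rw [geom_mod hq h2]
        intro h6
        have h7 : p ∣ n - (n - 1) := Nat.dvd_sub h4 h6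
        rw [show n - (n - 1) = 1 by omega] at h7
        exact hp.one_lt.ne' (Nat.dvd_one.1 h7)
      have hY := geom_mul (q := q) (n := n - 1) hq
      have hpq : p ≤ q - 1 := Nat.le_of_dvd (by omega) h2
      have hq1 : q ^ 1 ≤ q ^ (n - 1) := Nat.pow_le_pow_right (by omega) (by omega)
      rw [pow_one] at hq1
      have hfac : (q ^ (n - 1) - 1).factorization p = (q - 1).factorization p := by
        have h0 : (q ^ (n - 1) - 1) / (q - 1) ≠ 0 := by
          intro h0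
          rw [h0, zero_mul] at hY
          omega
        rw [← hY, Nat.factorization_mul h0 (by omega), Finsupp.add_apply,
          Nat.factorization_eq_zero_of_not_dvd hZ, zero_add]
      rw [hfac]
      have hle : p ^ (q - 1).factorization p ≤ q - 1 := Nat.ordProj_le _ (by omega)
      have hU : ((q - 2) * (q - 1)) ^ 2 ≤ 2 * q ^ (n - 1) := by
        have h6 : (q - 2) * (q - 1) ≤ q * q := Nat.mul_le_mul (by omega) (by omega)
        have h7 : ((q - 2) * (q - 1)) ^ 2 ≤ (q * q) ^ 2 := Nat.pow_le_pow_left h6 2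
        have h8 : (q * q) ^ 2 = q ^ 4 := by ring
        have h9 : q ^ 4 ≤ q ^ (n - 1) := Nat.pow_le_pow_right (by omega) (by omega)
        omega
      have h6 := key hU hK
      calc (p - 1) * K * p ^ (q - 1).factorization p ≤ (q - 2) * K * (q - 1) :=
            Nat.mul_le_mul (Nat.mul_le_mul_right _ (by omega)) hle
        _ = (q - 2) * (q - 1) * K := by ring
        _ < _ := h6
    · rw [Nat.factorization_eq_zero_of_not_dvd hB, pow_zero, mul_one]
      omega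
  · left
    rw [Nat.factorization_eq_zero_of_not_dvd hA, pow_zero, mul_one]
    omega

end Cfsg.Agent.H93.PReg.Num
end

-- part: H93/PReg/NumPslFin
section
/-!
# Arithmetic for `PSL_n(q)`: the finite check (for S4883)
-/

set_option autoImplicit false

namespace Cfsg.Agent.H93.PReg.Num

/-- `n · d · 2 f` -/
def K0 (n q f : ℕ) : ℕ := n * (Nat.gcd n (q - 1) * (f * 2))

theorem sq_le_two_mul (f : ℕ) : f ^ 2 ≤ 2 * 2 ^ f := by
  by_cases h : f < 6
  · interval_cases f <;> norm_num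
  · push Not at h
    induction f, h using Nat.le_induction with
    | base => norm_num
    | succ n hn ih =>
      rw [pow_succ 2 n]
      nlinarith

theorem f_bound (f : ℕ) (hf : 8 ≤ f) : 648 * f ^ 2 + 2 ≤ (2 ^ f) ^ 2 := by
  induction f, hf using Nat.le_induction with
  | base => norm_num
  | succ n hn ih =>
    have h1 : (2 ^ (n + 1)) ^ 2 = 4 * (2 ^ n) ^ 2 := by ring
    rw [h1]
    nlinarith

theorem big_one {n r f : ℕ} (hn : 3 ≤ n) (hr : 2 ≤ r) (hf : 1 ≤ f) (h : 26 ≤ r ∨ 8 ≤ f) :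
    8 * f ^ 2 * n ^ 4 + 2 ≤ (r ^ f) ^ (n - 1) := by
  have hbase : 648 * f ^ 2 + 2 ≤ (r ^ f) ^ 2 ∧ 26 ≤ r ^ f := by
    rcases h with h | h
    · have h1 : 26 * f ≤ r ^ f := by
        obtain ⟨g, rfl⟩ : ∃ g, f = g + 1 := ⟨f - 1, by omega⟩
        have h2 : g + 1 ≤ 26 ^ g := Nat.succ_le_of_lt (Nat.lt_pow_self (by norm_num))
        calc 26 * (g + 1) ≤ 26 * 26 ^ g := Nat.mul_le_mul_left _ h2
          _ = 26 ^ (g + 1) := by ring
          _ ≤ r ^ (g + 1) := Nat.pow_le_pow_left h _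
      constructor
      · nlinarith
      · omega
    · have h1 : 2 ^ f ≤ r ^ f := Nat.pow_le_pow_left hr f
      have h2 : 2 ^ 8 ≤ 2 ^ f := Nat.pow_le_pow_right (by norm_num) h
      constructor
      · exact (f_bound f h).trans (Nat.pow_le_pow_left h1 2)
      · omega
  obtain ⟨hb1, hb2⟩ := hbase
  induction n, hn using Nat.le_induction with
  | base =>
    show 8 * f ^ 2 * 3 ^ 4 + 2 ≤ (r ^ f) ^ 2
    omega
  | succ n hn ih =>
    have h1 : (n + 1) ^ 4 ≤ 4 * n ^ 4 := by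
      have : 3 * (n + 1) ≤ 4 * n := by omega
      have h2 : (3 * (n + 1)) ^ 4 ≤ (4 * n) ^ 4 := Nat.pow_le_pow_left this 4
      rw [mul_pow, mul_pow] at h2
      omega
    have h3 : (r ^ f) ^ (n + 1 - 1) = r ^ f * (r ^ f) ^ (n - 1) := by
      obtain ⟨m, rfl⟩ : ∃ m, n = m + 1 := ⟨n - 1, by omega⟩
      rw [Nat.add_sub_cancel, Nat.add_sub_cancel, pow_succ, mul_comm]
    rw [h3]
    calc 8 * f ^ 2 * (n + 1) ^ 4 + 2 ≤ 8 * f ^ 2 * (4 * n ^ 4) + 2 := by
          have := Nat.mul_le_mul_left (8 * f ^ 2) h1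
          omega
      _ ≤ 26 * (8 * f ^ 2 * n ^ 4 + 2) := by
          have : 8 * f ^ 2 * (4 * n ^ 4) = 4 * (8 * f ^ 2 * n ^ 4) := by ring
          omega
      _ ≤ r ^ f * (r ^ f) ^ (n - 1) := Nat.mul_le_mul hb2 ih

theorem big_two_aux (n : ℕ) (hn : 20 ≤ n) : 16 * n ^ 3 ≤ 2 ^ (n - 3) := by
  induction n, hn using Nat.le_induction with
  | base => norm_num
  | succ n hn ih =>
    have h3 : 2 ^ (n + 1 - 3) = 2 * 2 ^ (n - 3) := by
      obtain ⟨m, rfl⟩ : ∃ m, n = m + 3 := ⟨n - 3, by omega⟩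
      rw [show m + 3 + 1 - 3 = m + 1 by omega, show m + 3 - 3 = m by omega, pow_succ, mul_comm]
    rw [h3]
    have h1 : (n + 1) ^ 3 ≤ 2 * n ^ 3 := by
      have : 20 * (n + 1) ≤ 21 * n := by omega
      have h2 : (20 * (n + 1)) ^ 3 ≤ (21 * n) ^ 3 := Nat.pow_le_pow_left this 3
      rw [mul_pow, mul_pow] at h2
      omega
    omega

theorem K0_sq (n q f : ℕ) : 2 * K0 n q f ^ 2 + 2 = 8 * f ^ 2 * (Nat.gcd n (q - 1)) ^ 2 * n ^ 2 + 2 := by
  unfold K0
  ring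

theorem big_two {n q f : ℕ} (hn : 20 ≤ n) (hq : 2 ≤ q) (hf : f ^ 2 ≤ 2 * q) :
    2 * K0 n q f ^ 2 + 2 ≤ q ^ (n - 1) := by
  rw [K0_sq]
  have hd1 : Nat.gcd n (q - 1) ≤ n := Nat.gcd_le_left _ (by omega)
  have hd2 : Nat.gcd n (q - 1) ≤ q - 1 := Nat.gcd_le_right _ (by omega)
  have hd : (Nat.gcd n (q - 1)) ^ 2 ≤ n * (q - 1) := by
    rw [pow_two]
    exact Nat.mul_le_mul hd1 hd2
  have h1 := (big_two_aux n hn).trans (Nat.pow_le_pow_left hq (n - 3))
  have h2 : q ^ (n - 1) = q ^ (n - 3) * q ^ 2 := by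
    rw [← pow_add]
    congr 1
    omega
  rw [h2]
  have h3 : 8 * f ^ 2 * (Nat.gcd n (q - 1)) ^ 2 * n ^ 2 ≤ 8 * (2 * q) * (n * (q - 1)) * n ^ 2 :=
    Nat.mul_le_mul_right _ (Nat.mul_le_mul (Nat.mul_le_mul_left _ hf) hd)
  have h4 : 8 * (2 * q) * (n * (q - 1)) * n ^ 2 + 2 ≤ 16 * n ^ 3 * q ^ 2 := by
    obtain ⟨a, rfl⟩ : ∃ a, q = a + 1 := ⟨q - 1, by omega⟩
    rw [Nat.add_sub_cancel]
    have h5 : 16 * n ^ 3 * (a + 1) ^ 2 = 8 * (2 * (a + 1)) * (n * a) * n ^ 2 + 16 * n ^ 3 * (a + 1) := by ring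
    rw [h5]
    have h6 : 1 ≤ n ^ 3 := Nat.one_le_pow _ _ (by omega)
    nlinarith
  have h7 : 16 * n ^ 3 * q ^ 2 ≤ q ^ (n - 3) * q ^ 2 := Nat.mul_le_mul_right _ h1
  omega

/-- the small cases `(n, r, f)` -/
def smallL : List (ℕ × ℕ × ℕ) :=
  [(3,2,1),(3,3,1),(3,2,2),(3,5,1),(3,7,1),(3,2,3),(3,3,2),(3,13,1),(3,2,4),(3,19,1),(3,5,2),(3,2,5),(3,7,2),
    (3,2,6),(4,2,1),(4,3,1),(4,2,2),(4,5,1),(4,7,1),(4,2,3),(4,3,2),(5,2,1),(5,3,1),(5,2,2),(5,2,4),(6,2,1),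
    (6,3,1),(6,2,2),(7,2,1),(8,2,1),(9,2,1),(10,2,1)]

/-- bounded primality -/
def isP (p : ℕ) : Bool := (List.range p).all fun m => m < 2 || p % m != 0

theorem isP_of_prime {p : ℕ} (hp : p.Prime) : isP p = true := by
  unfold isP
  rw [List.all_eq_true]
  intro m hm
  rw [List.mem_range] at hm
  by_cases h : m < 2
  · simp [h]
  · have : p % m ≠ 0 := by
      intro h0
      rcases (Nat.dvd_prime hp).1 (Nat.dvd_of_mod_eq_zero h0) with h1 | h1 <;> omega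
    simp [this]

theorem finite_check : ((List.range 17).all fun i => (List.range 24).all fun j => (List.range 7).all fun k =>
    !isP (j + 2) || decide (2 * K0 (i + 3) ((j + 2) ^ (k + 1)) (k + 1) ^ 2 + 2 ≤ ((j + 2) ^ (k + 1)) ^ (i + 3 - 1)) ||
      smallL.contains (i + 3, j + 2, k + 1)) = true := by
  decide +kernel

/-- **the general inequality holds up to the small cases** -/
theorem big_or_small {n r f : ℕ} (hn : 3 ≤ n) (hr : r.Prime) (hf : 1 ≤ f) :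
    2 * K0 n (r ^ f) f ^ 2 + 2 ≤ (r ^ f) ^ (n - 1) ∨ (n, r, f) ∈ smallL := by
  by_cases h : 26 ≤ r ∨ 8 ≤ f
  · left
    refine le_trans ?_ (big_one hn hr.two_le hf h)
    rw [K0_sq]
    have hd1 : Nat.gcd n (r ^ f - 1) ≤ n := Nat.gcd_le_left _ (by omega)
    have h1 : (Nat.gcd n (r ^ f - 1)) ^ 2 * n ^ 2 ≤ n ^ 4 := by
      calc (Nat.gcd n (r ^ f - 1)) ^ 2 * n ^ 2 ≤ n ^ 2 * n ^ 2 := Nat.mul_le_mul_right _ (Nat.pow_le_pow_left hd1 2)
        _ = n ^ 4 := by ring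
    have h2 := Nat.mul_le_mul_left (8 * f ^ 2) h1
    rw [← mul_assoc] at h2
    omega
  push Not at h
  by_cases h20 : 20 ≤ n
  · left
    have h2 : 2 ^ f ≤ r ^ f := Nat.pow_le_pow_left hr.two_le f
    have h3 : 2 ^ 1 ≤ 2 ^ f := Nat.pow_le_pow_right (by norm_num) hf
    refine big_two h20 (by omega) ?_
    have := sq_le_two_mul f
    omega
  push Not at h20
  have h1 := finite_check
  rw [List.all_eq_true] at h1
  have h2 := h1 (n - 3) (List.mem_range.2 (by omega))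
  rw [List.all_eq_true] at h2
  have hr2 := hr.two_le
  have h3 := h2 (r - 2) (List.mem_range.2 (by omega))
  rw [List.all_eq_true] at h3
  have h4 := h3 (f - 1) (List.mem_range.2 (by omega))
  rw [show r - 2 + 2 = r by omega, show f - 1 + 1 = f by omega, show n - 3 + 3 = n by omega, isP_of_prime hr] at h4
  simpa using h4

end Cfsg.Agent.H93.PReg.Num
end
end

-- part: H93/PReg/PslRow_mg
section
prune_inst 0x140006018c0000000008016122000044800010009200000880008000800410205c2014000801004080a200000000000000000c00040000004000000000001208008140460d10004000011800084000000000000000000000000000000000004000000000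
set_option linter.all false
open scoped Cfsg.Agent.FastGrp

-- part: H93/PReg/Psl
section
/-!
# `PSL_n(q)`: automorphisms and characteristic polynomials, the cyclic tori (for S4883)
-/

set_option autoImplicit false
set_option linter.unusedSectionVars false

namespace Cfsg.Agent.H93.PReg.Psl

open Polynomial Matrix Cfsg.Agent.H93.PReg
open Cfsg.Agent.ClassicalGeometry.AutPSL.Root Cfsg.Agent.ClassicalGeometry.AutPSL.Auto
open Cfsg.Agent.ClassicalGeometry.AutPSL.Main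

variable {F : Type} [Field F] [Fintype F] {n : ℕ}

/-- the inclusion of `SL` in the matrices -/
def ρ (F : Type) [Field F] (n : ℕ) : _root_.Matrix.SpecialLinearGroup (Fin n) F →* Matrix (Fin n) (Fin n) F where
  toFun g := g.1
  map_one' := rfl
  map_mul' _ _ := rfl

theorem ρ_apply (g : _root_.Matrix.SpecialLinearGroup (Fin n) F) : ρ F n g = g.1 := rfl

theorem charpoly_ok (g : _root_.Matrix.SpecialLinearGroup (Fin n) F) :
    g.1.charpoly ≠ 0 ∧ g.1.charpoly.natDegree ≤ Fintype.card (Fin n) :=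
  ⟨(charpoly_monic _).ne_zero, (charpoly_natDegree_eq_dim _).le⟩

theorem charpoly_cj (A : GL (Fin n) F) (g : _root_.Matrix.SpecialLinearGroup (Fin n) F) :
    (cj A g).1.charpoly = g.1.charpoly := by
  have h : (cj A g).1 = (A : Matrix (Fin n) (Fin n) F) * g.1 * ((A⁻¹ : GL (Fin n) F) : Matrix (Fin n) (Fin n) F) := rfl
  rw [h, Matrix.coe_units_inv]
  exact charpoly_units_conj A g.1

theorem exists_center {x y : _root_.Matrix.SpecialLinearGroup (Fin n) F} (h : pr x = pr y) :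
    ∃ z : Subgroup.center (_root_.Matrix.SpecialLinearGroup (Fin n) F), y = z.1 * x := by
  have h1 : x⁻¹ * y ∈ Subgroup.center (_root_.Matrix.SpecialLinearGroup (Fin n) F) := QuotientGroup.eq.1 h
  refine ⟨⟨x⁻¹ * y, h1⟩, ?_⟩
  show y = x⁻¹ * y * x
  have := Subgroup.mem_center_iff.1 h1 x
  rw [← this]
  group

theorem charpoly_of_pr {A : GL (Fin n) F} {g g' : _root_.Matrix.SpecialLinearGroup (Fin n) F} (h : pr (cj A g) = pr g') :
    ∃ z : Subgroup.center (_root_.Matrix.SpecialLinearGroup (Fin n) F), (ρ F n g').charpoly = (z.1 * g).1.charpoly := by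
  obtain ⟨z, hz⟩ := exists_center h
  refine ⟨z, ?_⟩
  rw [ρ_apply, hz, ← charpoly_cj A (z.1 * g), map_mul]
  have h2 : cj A z.1 = z.1 := by
    apply Subtype.ext
    rw [coe_cj]
    have h3 := Matrix.SpecialLinearGroup.mem_center_iff.1 z.2
    obtain ⟨r, -, hr⟩ := h3
    rw [← hr]
    rw [← (scalar_commute (n := Fin n) r (Commute.all r) (A : Matrix (Fin n) (Fin n) F)).eq, mul_assoc,
      ← Units.val_mul, mul_inv_cancel, Units.val_one, mul_one]
  rw [h2]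

/-- **control** for `n ≥ 3` -/
theorem ctl_three (hn : 3 ≤ n) : Ctl (ρ F n) (pr : _root_.Matrix.SpecialLinearGroup (Fin n) F →* _)
    (Subgroup.center (_root_.Matrix.SpecialLinearGroup (Fin n) F) × (F ≃+* F) × Bool) := by
  obtain ⟨p, hp⟩ := CharP.exists F
  have : Fact p.Prime := ⟨CharP.char_is_prime F p⟩
  refine ⟨fun w g => (w.1.1 * fld w.2.1 (if w.2.2 then itr g else g)).1.charpoly, fun w g => charpoly_ok _, ?_⟩
  intro a g g' hag
  rcases surj_three p hn a with ⟨A, σ, rfl⟩ | ⟨A, σ, rfl⟩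
  · rw [lift_pr, MulAut.mul_apply] at hag
    obtain ⟨z, hz⟩ := charpoly_of_pr hag
    exact ⟨(z, σ, false), hz⟩
  · rw [lift_pr, MulAut.mul_apply, MulAut.mul_apply] at hag
    obtain ⟨z, hz⟩ := charpoly_of_pr hag
    exact ⟨(z, σ, true), hz⟩

/-- **control** for `n = 2` -/
theorem ctl_two : Ctl (ρ F 2) (pr : _root_.Matrix.SpecialLinearGroup (Fin 2) F →* _)
    (Subgroup.center (_root_.Matrix.SpecialLinearGroup (Fin 2) F) × (F ≃+* F)) := by
  obtain ⟨p, hp⟩ := CharP.exists F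
  have : Fact p.Prime := ⟨CharP.char_is_prime F p⟩
  refine ⟨fun w g => (w.1.1 * fld w.2 g).1.charpoly, fun w g => charpoly_ok _, ?_⟩
  intro a g g' hag
  obtain ⟨A, σ, rfl⟩ := surj_two p a
  rw [lift_pr, MulAut.mul_apply] at hag
  obtain ⟨z, hz⟩ := charpoly_of_pr hag
  exact ⟨(z, σ), hz⟩

end Cfsg.Agent.H93.PReg.Psl
end

-- part: H93/PReg/PslGen
section
/-!
# The row of `PSL_n(q)`, `n ≥ 3`: the general case (for S4883)

* `MO_of_ineq` : from the inequalities for one of the two tori;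
* `row_big` : `2 K ^ 2 + 2 ≤ q ^ (n - 1)`, `K = 2 f d n`;
* `MO_s_one`, `MO_s_two` : the elements of order divisible by a prime `s` in the two tori.
-/

set_option autoImplicit false
set_option linter.unusedSectionVars false

namespace Cfsg.Agent.H93.PReg.Psl

open Polynomial Matrix Cfsg.Agent.H93.PReg
open Cfsg.Agent.ClassicalGeometry.AutPSL.Root

variable {F : Type} [Field F] [Fintype F] {n : ℕ} {r f : ℕ}

/-- the constant `K = n · d · 2 f` -/
def KK (n q f : ℕ) : ℕ := n * (Nat.gcd n (q - 1) * (f * 2))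

theorem card_W (hn : 1 ≤ n) (hr : r.Prime) (hf : 1 ≤ f) (hF : Fintype.card F = r ^ f) :
    Fintype.card (Fin n) * Nat.card (Subgroup.center (_root_.Matrix.SpecialLinearGroup (Fin n) F) × (F ≃+* F) × Bool) =
      KK n (Fintype.card F) f := by
  have := Fact.mk hr
  rw [Nat.card_prod, Nat.card_prod, PslCharpoly.card_center n hn, Lib.FieldAutCard.card_ringAut hf hF,
    Nat.card_eq_fintype_card (α := Bool), Fintype.card_bool, Fintype.card_fin, Nat.card_eq_fintype_card (α := F)]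
  rfl

theorem finite_W : Finite (Subgroup.center (_root_.Matrix.SpecialLinearGroup (Fin n) F) × (F ≃+* F) × Bool) := by
  have : Finite (_root_.Matrix.SpecialLinearGroup (Fin n) F) := PslCharpoly.finite_SL _
  have : Finite (F ≃+* F) := Finite.of_injective (fun e => (e : F → F)) DFunLike.coe_injective
  infer_instance

/-- **from the inequalities** -/
theorem MO_of_ineq (hn : 3 ≤ n) (hr : r.Prime) (hf : 1 ≤ f) (hF : Fintype.card F = r ^ f) {p m : ℕ} (hp : p.Prime)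
    (h : (m - 1) * KK n (Fintype.card F) f *
        p ^ ((Fintype.card F ^ n - 1) / (Fintype.card F - 1)).factorization p <
          (Fintype.card F ^ n - 1) / (Fintype.card F - 1) ∨
      (m - 1) * KK n (Fintype.card F) f * p ^ (Fintype.card F ^ (n - 1) - 1).factorization p <
        Fintype.card F ^ (n - 1) - 1) :
    MO (Reg p) m (ProjectiveSpecialLinearGroup (Fin n) F) := by
  have h1 : Finite (_root_.Matrix.SpecialLinearGroup (Fin n) F) := PslCharpoly.finite_SL _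
  have h2 := finite_W (F := F) (n := n)
  have hW := card_W (F := F) (by omega : 1 ≤ n) hr hf hF
  rcases h with h | h
  · obtain ⟨K, _, _, t, x, hx, ho⟩ := Singer.sl_one (F := F) n (by omega)
    refine MO.of_root' hp (ctl_three hn) t x hx ?_
    rw [hW, ho]
    exact h
  · obtain ⟨k, rfl⟩ : ∃ k, n = k + 1 := ⟨n - 1, by omega⟩
    obtain ⟨K, _, _, t, x, hx, ho⟩ := Singer.sl_two (F := F) k (by omega)
    refine MO.of_root' hp (ctl_three hn) t x hx ?_
    rw [hW, ho]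
    exact h

theorem card_psl_dvd (hn : 1 ≤ n) : Nat.card (ProjectiveSpecialLinearGroup (Fin n) F) ∣
    Fintype.card F ^ (∑ i ∈ Finset.range n, i) * ∏ j ∈ Finset.Icc 2 n, (Fintype.card F ^ j - 1) := by
  have : Finite (_root_.Matrix.SpecialLinearGroup (Fin n) F) := PslCharpoly.finite_SL _
  rw [← H953.card_SL n hn]
  exact Subgroup.card_quotient_dvd_card _

theorem cases_of_sq_dvd (hn : 1 ≤ n) {p : ℕ} (hp : p.Prime)
    (hd : p ^ 2 ∣ Nat.card (ProjectiveSpecialLinearGroup (Fin n) F)) :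
    p ∣ Fintype.card F ∨ p ^ 2 ∣ ∏ j ∈ Finset.Icc 2 n, (Fintype.card F ^ j - 1) := by
  by_cases h : p ∣ Fintype.card F
  · exact Or.inl h
  · right
    have h1 := hd.trans (card_psl_dvd (F := F) hn)
    refine (Nat.Coprime.dvd_of_dvd_mul_left ?_ h1)
    exact Nat.Coprime.pow _ _ ((Nat.Prime.coprime_iff_not_dvd hp).2 h)

/-- **the general case** -/
theorem row_big (hn : 3 ≤ n) (hr : r.Prime) (hf : 1 ≤ f) (hF : Fintype.card F = r ^ f)
    (hK : 2 * KK n (Fintype.card F) f ^ 2 + 2 ≤ Fintype.card F ^ (n - 1)) :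
    Row (ProjectiveSpecialLinearGroup (Fin n) F) := by
  intro p hp h5 hd
  have hq : 2 ≤ Fintype.card F := Fintype.one_lt_card
  refine MO_of_ineq hn hr hf hF hp (Num.psl_big hp h5 hq hn ?_ hK)
  exact (cases_of_sq_dvd (by omega) hp hd).imp id fun h => Num.psl_sq_le hp hq hn h

theorem pow_gcd_of_pr_eq_one (hn : 1 ≤ n) (g : _root_.Matrix.SpecialLinearGroup (Fin n) F) (h : pr g = 1) :
    g ^ Nat.gcd n (Fintype.card F - 1) = 1 := by
  have h1 : g ∈ Subgroup.center (_root_.Matrix.SpecialLinearGroup (Fin n) F) := (QuotientGroup.eq_one_iff g).1 h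
  have h2 := PslCharpoly.card_center (F := F) n hn
  rw [Nat.card_eq_fintype_card (α := F)] at h2
  have : Finite (_root_.Matrix.SpecialLinearGroup (Fin n) F) := PslCharpoly.finite_SL _
  have h3 := pow_card_eq_one' (x := (⟨g, h1⟩ : Subgroup.center (_root_.Matrix.SpecialLinearGroup (Fin n) F)))
  rw [h2] at h3
  exact congrArg Subtype.val h3

/-- elements of order divisible by `s` in the first torus -/
theorem MO_s_one (hn : 3 ≤ n) (hr : r.Prime) (hf : 1 ≤ f) (hF : Fintype.card F = r ^ f) {p m s a N : ℕ}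
    (hs : s.Prime) (hN : (Fintype.card F ^ n - 1) / (Fintype.card F - 1) = N) (hN0 : N ≠ 0) (hp : p.Prime)
    (hpN : ¬ p ∣ N) (hsc : ¬ s ∣ Nat.gcd n (Fintype.card F - 1)) (hsa : ¬ s ^ (a + 1) ∣ N) (hsa' : s ^ a ∣ N)
    (h : (m - 1) * KK n (Fintype.card F) f < N - N / s ^ a) :
    MO {m | s ∣ m ∧ ¬ p ∣ m} m (ProjectiveSpecialLinearGroup (Fin n) F) := by
  have h1 : Finite (_root_.Matrix.SpecialLinearGroup (Fin n) F) := PslCharpoly.finite_SL _
  have h2 := finite_W (F := F) (n := n)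
  have hW := card_W (F := F) (by omega : 1 ≤ n) hr hf hF
  obtain ⟨K, _, _, t, x, hx, ho⟩ := Singer.sl_one (F := F) n (by omega)
  refine MO.of_root_s' (ctl_three hn) t hp hpN x hx (ho.trans hN) hN0 hs
    (fun g hg => pow_gcd_of_pr_eq_one (by omega) g hg) hsc hsa hsa' ?_
  rw [hW]
  exact h

/-- elements of order divisible by `s` in the second torus -/
theorem MO_s_two (hn : 3 ≤ n) (hr : r.Prime) (hf : 1 ≤ f) (hF : Fintype.card F = r ^ f) {p m s a N : ℕ}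
    (hs : s.Prime) (hN : Fintype.card F ^ (n - 1) - 1 = N) (hN0 : N ≠ 0) (hp : p.Prime)
    (hpN : ¬ p ∣ N) (hsc : ¬ s ∣ Nat.gcd n (Fintype.card F - 1)) (hsa : ¬ s ^ (a + 1) ∣ N) (hsa' : s ^ a ∣ N)
    (h : (m - 1) * KK n (Fintype.card F) f < N - N / s ^ a) :
    MO {m | s ∣ m ∧ ¬ p ∣ m} m (ProjectiveSpecialLinearGroup (Fin n) F) := by
  have h1 : Finite (_root_.Matrix.SpecialLinearGroup (Fin n) F) := PslCharpoly.finite_SL _
  have h2 := finite_W (F := F) (n := n)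
  have hW := card_W (F := F) (by omega : 1 ≤ n) hr hf hF
  obtain ⟨k, rfl⟩ : ∃ k, n = k + 1 := ⟨n - 1, by omega⟩
  obtain ⟨K, _, _, t, x, hx, ho⟩ := Singer.sl_two (F := F) k (by omega)
  refine MO.of_root_s' (ctl_three hn) t hp hpN x hx (ho.trans hN) hN0 hs
    (fun g hg => pow_gcd_of_pr_eq_one (by omega) g hg) hsc hsa hsa' ?_
  rw [hW]
  exact h

end Cfsg.Agent.H93.PReg.Psl
end

-- part: H93/PReg/NumPslSmall
section
/-!
# Arithmetic for `PSL_n(q)`: the small cases (for S4883)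
-/

set_option autoImplicit false

namespace Cfsg.Agent.H93.PReg.Num

open Finset

/-- `∏_{2 ≤ j ≤ n} (q ^ j - 1)` -/
def NN (q : ℕ) : ℕ → ℕ
  | 0 => 1
  | n + 1 => if n = 0 then 1 else NN q n * (q ^ (n + 1) - 1)

theorem NN_eq (q : ℕ) (n : ℕ) (hn : 1 ≤ n) : NN q n = ∏ j ∈ Icc 2 n, (q ^ j - 1) := by
  induction n, hn using Nat.le_induction with
  | base => simp [NN]
  | succ n hn ih =>
    rw [NN, if_neg (by omega), ih, Finset.prod_Icc_succ_top (by omega)]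

/-- the inequalities in a decidable form -/
def chk (n q f p : ℕ) : Bool :=
  (((q ^ n - 1) / (q - 1)) % p != 0 && Nat.blt ((p - 1) * K0 n q f) ((q ^ n - 1) / (q - 1))) ||
  ((q ^ (n - 1) - 1) % p != 0 && Nat.blt ((p - 1) * K0 n q f) (q ^ (n - 1) - 1)) ||
  (((q ^ n - 1) / (q - 1)) % (p * p) != 0 && Nat.blt ((p - 1) * K0 n q f * p) ((q ^ n - 1) / (q - 1)))

theorem chk_sound {n q f p : ℕ} (hp : p.Prime) (h : chk n q f p = true) :
    (p - 1) * K0 n q f * p ^ ((q ^ n - 1) / (q - 1)).factorization p < (q ^ n - 1) / (q - 1) ∨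
      (p - 1) * K0 n q f * p ^ (q ^ (n - 1) - 1).factorization p < q ^ (n - 1) - 1 := by
  unfold chk at h
  simp only [Bool.or_eq_true, Bool.and_eq_true, bne_iff_ne, ne_eq, Nat.blt_eq] at h
  rcases h with (⟨h1, h2⟩ | ⟨h1, h2⟩) | ⟨h1, h2⟩
  · left
    rw [Nat.factorization_eq_zero_of_not_dvd (fun hd => h1 (Nat.mod_eq_zero_of_dvd hd)), pow_zero, mul_one]
    exact h2
  · right
    rw [Nat.factorization_eq_zero_of_not_dvd (fun hd => h1 (Nat.mod_eq_zero_of_dvd hd)), pow_zero, mul_one]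
    exact h2
  · left
    refine lt_of_le_of_lt (Nat.mul_le_mul_left _ ?_) h2
    have h0 : (q ^ n - 1) / (q - 1) ≠ 0 := by
      intro h0
      rw [h0] at h1
      simp at h1
    have h3 : ((q ^ n - 1) / (q - 1)).factorization p < 2 := by
      by_contra h4
      push Not at h4
      apply h1
      apply Nat.mod_eq_zero_of_dvd
      rw [← pow_two]
      exact (Nat.Prime.pow_dvd_iff_le_factorization hp h0).2 h4
    calc p ^ ((q ^ n - 1) / (q - 1)).factorization p ≤ p ^ 1 := Nat.pow_le_pow_right hp.pos (by omega)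
      _ = p := pow_one p

/-- the exceptions `(n, r, f, p)` -/
def excL : List (ℕ × ℕ × ℕ × ℕ) :=
  [(3,7,1,7),(3,2,3,7),(3,13,1,13),(3,2,4,5),(4,2,2,5),(5,3,1,11),(6,2,1,7),(6,3,1,13),(10,2,1,31)]

/-- the primes from `5` to `300` -/
def pr63 : List ℕ :=
  [5, 7, 11, 13, 17, 19, 23, 29, 31, 37, 41, 43, 47, 53, 59, 61, 67, 71, 73, 79, 83, 89, 97, 101, 103, 107, 109,
   113, 127, 131, 137, 139, 149, 151, 157, 163, 167, 173, 179, 181, 191, 193, 197, 199, 211, 223, 227, 229, 233,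
   239, 241, 251, 257, 263, 269, 271, 277, 281, 283, 293]

theorem all_or63 (l : List ℕ) (a g : ℕ → Bool) : (l.all fun p => a p || g p) = (l.filter fun p => !a p).all g := by
  rw [List.all_filter]
  simp only [Bool.not_not]

private noncomputable def _root_.Cfsg.Agent.LsF.f16b915_0 : {f // @Cfsg.Agent.H93.PReg.Num.isP = f} := ⟨_, by first | (delta Cfsg.Agent.H93.PReg.Num.isP; rewrite [Cfsg.Agent.LsF.nmod_pat, Cfsg.Agent.LsF.nbne_pat, Cfsg.Agent.LsF.or_eq, Cfsg.Agent.LsF.decLt_eq, Cfsg.Agent.LsF.all_eq, Cfsg.Agent.LsF.range_eq, Cfsg.Agent.LsF.decide_eq]; exact rfl) | exact rfl⟩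
theorem pr63_eq : ((List.range 300).filter fun p => !(Nat.blt p 5 || !isP p)) = pr63 := by (refine of_decide_eq_true ?_; (try (rewrite [Cfsg.Agent.LsF.f16b915_0.2, Cfsg.Agent.LsF.or_eq, Cfsg.Agent.LsF.not_eq, Cfsg.Agent.LsF.instDecEq_eq, Cfsg.Agent.LsF.filter_eq, Cfsg.Agent.LsF.range_eq, Cfsg.Agent.LsF.dListEq_eq, Cfsg.Agent.LsF.decide_eq])); decide +kernel)

theorem all3_63 (C D E : ℕ → Bool) : ((List.range 300).all fun p => Nat.blt p 5 || !isP p || C p || D p || E p) =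
    pr63.all fun p => C p || D p || E p := by
  rw [← pr63_eq, ← all_or63]
  simp only [Bool.or_assoc]

theorem all4_63 (C D E F : ℕ → Bool) :
    ((List.range 300).all fun p => Nat.blt p 5 || !isP p || C p || D p || E p || F p) =
    pr63.all fun p => C p || D p || E p || F p := by
  rw [← pr63_eq, ← all_or63]
  simp only [Bool.or_assoc]

theorem small_check : (smallL.all fun x => Nat.blt (((x.2.1 ^ x.2.2) ^ x.1 - 1)) (90000 * (x.2.1 ^ x.2.2 - 1)) &&
    Nat.blt (x.2.1 ^ x.2.2) 300 &&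
    (List.range 300).all fun p => Nat.blt p 5 || !isP p ||
      !((x.2.1 ^ x.2.2) % p == 0 || (NN (x.2.1 ^ x.2.2) x.1) % (p * p) == 0) ||
      excL.contains (x.1, x.2.1, x.2.2, p) || chk x.1 (x.2.1 ^ x.2.2) x.2.2 p) = true := by
  simp only [all3_63]
  decide +kernel

/-- **the small cases** -/
theorem small_case {n r f p : ℕ} (h : (n, r, f) ∈ smallL) (hn : 3 ≤ n) (hq : 2 ≤ r ^ f) (hp : p.Prime) (h5 : 5 ≤ p)
    (hd : p ∣ r ^ f ∨ p ^ 2 ∣ ∏ j ∈ Icc 2 n, ((r ^ f) ^ j - 1)) :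
    (n, r, f, p) ∈ excL ∨
      (p - 1) * K0 n (r ^ f) f * p ^ (((r ^ f) ^ n - 1) / (r ^ f - 1)).factorization p <
        ((r ^ f) ^ n - 1) / (r ^ f - 1) ∨
      (p - 1) * K0 n (r ^ f) f * p ^ ((r ^ f) ^ (n - 1) - 1).factorization p < (r ^ f) ^ (n - 1) - 1 := by
  have h1 := small_check
  rw [List.all_eq_true] at h1
  have h2 := h1 _ h
  simp only [Bool.and_eq_true, Nat.blt_eq, List.all_eq_true, List.mem_range] at h2
  obtain ⟨⟨h3, h4⟩, h6⟩ := h2
  have hp300 : p < 300 := by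
    rcases hd with hd | hd
    · exact lt_of_le_of_lt (Nat.le_of_dvd (by omega) hd) h4
    · have h7 := psl_sq_le hp hq hn hd
      have h8 : p ^ 2 * (r ^ f - 1) < 90000 * (r ^ f - 1) := lt_of_le_of_lt h7 h3
      have h9 : p ^ 2 < 90000 := Nat.lt_of_mul_lt_mul_right h8
      by_contra hc
      push Not at hc
      have : 300 ^ 2 ≤ p ^ 2 := Nat.pow_le_pow_left hc 2
      omega
  have h7 := h6 p hp300
  simp only [Bool.or_eq_true, Nat.blt_eq, isP_of_prime hp, Bool.not_true, Bool.false_eq_true, or_false,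
    Bool.not_eq_true', Bool.or_eq_false_iff, beq_eq_false_iff_ne, ne_eq] at h7
  rcases h7 with ((h7 | h7) | h7) | h7
  · omega
  · exfalso
    rcases hd with hd | hd
    · exact h7.1 (Nat.mod_eq_zero_of_dvd hd)
    · rw [← NN_eq _ _ (by omega), pow_two] at hd
      exact h7.2 (Nat.mod_eq_zero_of_dvd hd)
  · left
    simpa using h7
  · right
    exact chk_sound hp h7

end Cfsg.Agent.H93.PReg.Num
end

-- part: H93/PReg/NumPslTwo
section
/-!
# Arithmetic for `PSL_2(q)` (for S4883)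
-/

set_option autoImplicit false

namespace Cfsg.Agent.H93.PReg.Num

/-- `2 · d · f` -/
def K2 (q f : ℕ) : ℕ := 2 * (Nat.gcd 2 (q - 1) * f)

/-- the inequalities for `PSL_2(q)` -/
def Ineq2 (q f p : ℕ) : Prop :=
  (¬ p ∣ q + 1 ∧ (p - 1) * K2 q f < q + 1) ∨ (¬ p ∣ q - 1 ∧ (p - 1) * K2 q f < q - 1)

theorem sq_cases {p q : ℕ} (hp : p.Prime) (h5 : 5 ≤ p) (hq : 1 ≤ q) (h : p ^ 2 ∣ q ^ 2 - 1) :
    (p ^ 2 ∣ q + 1 ∧ ¬ p ∣ q - 1) ∨ (p ^ 2 ∣ q - 1 ∧ ¬ p ∣ q + 1) := by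
  have h1 : q ^ 2 - 1 = (q + 1) * (q - 1) := by
    have := Nat.sq_sub_sq q 1
    rwa [one_pow] at this
  rw [h1] at h
  have h2 : ¬ (p ∣ q + 1 ∧ p ∣ q - 1) := by
    rintro ⟨ha, hb⟩
    have h3 : p ∣ (q + 1) - (q - 1) := Nat.dvd_sub ha hb
    rw [show (q + 1) - (q - 1) = 2 by omega] at h3
    have := Nat.le_of_dvd (by norm_num) h3
    omega
  by_cases ha : p ∣ q + 1
  · left
    have hb : ¬ p ∣ q - 1 := fun hb => h2 ⟨ha, hb⟩
    refine ⟨?_, hb⟩
    exact (Nat.Coprime.pow_left 2 ((Nat.Prime.coprime_iff_not_dvd hp).2 hb)).dvd_of_dvd_mul_right h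
  · right
    exact ⟨(Nat.Coprime.pow_left 2 ((Nat.Prime.coprime_iff_not_dvd hp).2 ha)).dvd_of_dvd_mul_left h, ha⟩

theorem psl2_big {p q f : ℕ} (hp : p.Prime) (h5 : 5 ≤ p) (hK : K2 q f ^ 2 + 2 ≤ q)
    (h : p ^ 2 ∣ q ∨ p ^ 2 ∣ q ^ 2 - 1) : Ineq2 q f p := by
  rcases h with h | h
  · left
    have h1 : p ∣ q := (dvd_pow_self p (by norm_num)).trans h
    refine ⟨fun h2 => ?_, ?_⟩
    · have := (Nat.dvd_add_right h1).1 h2
      exact hp.one_lt.ne' (Nat.dvd_one.1 this)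
    · have h2 : p ^ 2 ≤ q := Nat.le_of_dvd (by omega) h
      by_contra hc
      push Not at hc
      have h3 : (q + 1) ^ 2 ≤ ((p - 1) * K2 q f) ^ 2 := Nat.pow_le_pow_left hc 2
      have h4 : ((p - 1) * K2 q f) ^ 2 ≤ q * q := by
        rw [mul_pow]
        refine Nat.mul_le_mul ?_ (by omega)
        exact (Nat.pow_le_pow_left (by omega) 2).trans h2
      linarith only [h3, h4]
  · have key : ∀ {T : ℕ}, p ^ 2 ≤ q + 1 → (p - 1) * K2 q f < q - 1 := by
      intro T h2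
      by_contra hc
      push Not at hc
      have h3 : (q - 1) ^ 2 ≤ ((p - 1) * K2 q f) ^ 2 := Nat.pow_le_pow_left hc 2
      have h4 : (p - 1) ^ 2 + 8 ≤ q := by
        obtain ⟨a, rfl⟩ : ∃ a, p = a + 1 := ⟨p - 1, by omega⟩
        rw [Nat.add_sub_cancel]
        linarith only [h5, h2]
      have h5 : ((p - 1) * K2 q f) ^ 2 ≤ (q - 8) * (q - 2) := by
        rw [mul_pow]
        exact Nat.mul_le_mul (by omega) (by omega)
      obtain ⟨u, rfl⟩ : ∃ u, q = u + 8 := ⟨q - 8, by omega⟩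
      rw [show u + 8 - 8 = u by omega, show u + 8 - 2 = u + 6 by omega] at h5
      rw [show u + 8 - 1 = u + 7 by omega] at h3
      linarith only [h3, h5]
    rcases sq_cases hp h5 (by omega) h with ⟨h1, h2⟩ | ⟨h1, h2⟩
    · right
      exact ⟨h2, key (T := 0) (Nat.le_of_dvd (by omega) h1)⟩
    · left
      refine ⟨h2, ?_⟩
      have h3 := Nat.le_of_dvd (by omega) h1
      have := key (T := 0) (by omega)
      omega

/-- small cases -/
def small2 : List (ℕ × ℕ) :=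
  [(2,1),(2,2),(2,3),(2,4),(2,5),(2,6),(2,7),(2,8),(3,1),(3,2),(3,3),(3,4),(3,5),(5,1),(5,2),(5,3),(7,1),(7,2),
    (11,1),(13,1),(17,1)]

theorem f_bound2 (f : ℕ) (hf : 9 ≤ f) : 16 * f ^ 2 + 2 ≤ 3 ^ f := by
  induction f, hf using Nat.le_induction with
  | base => norm_num
  | succ n hn ih =>
    rw [pow_succ 3 n]
    nlinarith

theorem f_bound2' (f : ℕ) (hf : 9 ≤ f) : 4 * f ^ 2 + 2 ≤ 2 ^ f := by
  induction f, hf using Nat.le_induction with
  | base => norm_num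
  | succ n hn ih =>
    rw [pow_succ 2 n]
    nlinarith

theorem check2 : ((List.range 24).all fun j => (List.range 8).all fun k =>
    !isP (j + 2) || decide (K2 ((j + 2) ^ (k + 1)) (k + 1) ^ 2 + 2 ≤ (j + 2) ^ (k + 1)) ||
      small2.contains (j + 2, k + 1)) = true := by
  decide +kernel

theorem big_or_small2 {r f : ℕ} (hr : r.Prime) (hf : 1 ≤ f) :
    K2 (r ^ f) f ^ 2 + 2 ≤ r ^ f ∨ (r, f) ∈ small2 := by
  have hr2 := hr.two_le
  have hd : Nat.gcd 2 (r ^ f - 1) ≤ 2 := Nat.gcd_le_left _ (by norm_num)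
  have hK : K2 (r ^ f) f ^ 2 ≤ 16 * f ^ 2 := by
    unfold K2
    calc (2 * (Nat.gcd 2 (r ^ f - 1) * f)) ^ 2 ≤ (2 * (2 * f)) ^ 2 :=
          Nat.pow_le_pow_left (Nat.mul_le_mul_left _ (Nat.mul_le_mul_right _ hd)) 2
      _ = 16 * f ^ 2 := by ring
  by_cases h26 : 26 ≤ r
  · left
    have h1 : 26 * f ≤ r ^ f ∧ 26 * f ^ 2 ≤ r ^ f := by
      obtain ⟨g, rfl⟩ : ∃ g, f = g + 1 := ⟨f - 1, by omega⟩
      have h2 : g + 1 ≤ 26 ^ g := Nat.succ_le_of_lt (Nat.lt_pow_self (by norm_num))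
      have h2' : (g + 1) ^ 2 ≤ 26 ^ g := by
        have h3 : g + 1 ≤ 5 ^ g := Nat.succ_le_of_lt (Nat.lt_pow_self (by norm_num))
        calc (g + 1) ^ 2 ≤ (5 ^ g) ^ 2 := Nat.pow_le_pow_left h3 2
          _ = 25 ^ g := by rw [← pow_mul, mul_comm, pow_mul]; norm_num
          _ ≤ 26 ^ g := Nat.pow_le_pow_left (by norm_num) g
      have h4 : 26 ^ (g + 1) ≤ r ^ (g + 1) := Nat.pow_le_pow_left h26 _
      constructor
      · calc 26 * (g + 1) ≤ 26 * 26 ^ g := Nat.mul_le_mul_left _ h2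
          _ = 26 ^ (g + 1) := by ring
          _ ≤ _ := h4
      · calc 26 * (g + 1) ^ 2 ≤ 26 * 26 ^ g := Nat.mul_le_mul_left _ h2'
          _ = 26 ^ (g + 1) := by ring
          _ ≤ _ := h4
    have h5 : 1 ≤ f ^ 2 := Nat.one_le_pow _ _ hf
    omega
  push Not at h26
  by_cases h9 : 9 ≤ f
  · left
    by_cases h2 : r = 2
    · subst h2
      have hd1 : Nat.gcd 2 (2 ^ f - 1) = 1 := by
        have : Nat.Coprime 2 (2 ^ f - 1) := by
          rw [Nat.Prime.coprime_iff_not_dvd Nat.prime_two]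
          intro h3
          have h4 : 2 ∣ 2 ^ f := dvd_pow_self 2 (by omega)
          have h5 : 1 ≤ 2 ^ f := Nat.one_le_pow _ _ (by norm_num)
          omega
        exact this
      have : K2 (2 ^ f) f ^ 2 = 4 * f ^ 2 := by
        unfold K2
        rw [hd1]
        ring
      rw [this]
      exact f_bound2' f h9
    · have h3 : 3 ^ f ≤ r ^ f := Nat.pow_le_pow_left (by omega) f
      have := f_bound2 f h9
      omega
  push Not at h9
  have h1 := check2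
  simp only [List.all_eq_true, List.mem_range] at h1
  have h2 := h1 (r - 2) (by omega) (f - 1) (by omega)
  rw [show r - 2 + 2 = r by omega, show f - 1 + 1 = f by omega, isP_of_prime hr] at h2
  simpa using h2

theorem small_check2 : (small2.all fun x => Nat.blt (x.1 ^ x.2) 300 && (List.range 300).all fun p =>
    Nat.blt p 5 || !isP p || !((x.1 ^ x.2) % (p * p) == 0 || ((x.1 ^ x.2) ^ 2 - 1) % (p * p) == 0) ||
      (Nat.beq p 5 && Nat.beq (x.1 ^ x.2) 25) ||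
      ((x.1 ^ x.2 + 1) % p != 0 && Nat.blt ((p - 1) * K2 (x.1 ^ x.2) x.2) (x.1 ^ x.2 + 1)) ||
      ((x.1 ^ x.2 - 1) % p != 0 && Nat.blt ((p - 1) * K2 (x.1 ^ x.2) x.2) (x.1 ^ x.2 - 1))) = true := by
  simp only [all4_63]
  decide +kernel

theorem small_case2 {r f p : ℕ} (h : (r, f) ∈ small2) (hq : 2 ≤ r ^ f) (hp : p.Prime) (h5 : 5 ≤ p)
    (hd : p ^ 2 ∣ r ^ f ∨ p ^ 2 ∣ (r ^ f) ^ 2 - 1) : (p = 5 ∧ r ^ f = 25) ∨ Ineq2 (r ^ f) f p := by
  have h1 := small_check2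
  rw [List.all_eq_true] at h1
  have h2 := h1 _ h
  simp only [Bool.and_eq_true, Nat.blt_eq, List.all_eq_true, List.mem_range] at h2
  obtain ⟨h3, h6⟩ := h2
  have hp300 : p < 300 := by
    rcases hd with hd | hd
    · have := Nat.le_of_dvd (by omega) ((dvd_pow_self p (by norm_num)).trans hd)
      omega
    · rcases sq_cases hp h5 (by omega) hd with ⟨h7, -⟩ | ⟨h7, -⟩
      · have := Nat.le_of_dvd (by omega) h7
        nlinarith
      · have h8 : r ^ f - 1 ≠ 0 := by omega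
        have := Nat.le_of_dvd (by omega) h7
        have h9 : p ^ 2 < 300 := by omega
        nlinarith only [h9]
  have h7 := h6 p hp300
  simp only [Bool.or_eq_true, Bool.and_eq_true, Nat.blt_eq, isP_of_prime hp, Bool.not_true, Bool.false_eq_true,
    or_false, Bool.not_eq_true', Bool.or_eq_false_iff, beq_eq_false_iff_ne, ne_eq, Nat.beq_eq, bne_iff_ne] at h7
  rcases h7 with (((h7 | h7) | h7) | h7) | h7
  · omega
  · exfalso
    rcases hd with hd | hd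
    · rw [pow_two] at hd
      exact h7.1 (Nat.mod_eq_zero_of_dvd hd)
    · rw [pow_two p] at hd
      exact h7.2 (Nat.mod_eq_zero_of_dvd hd)
  · exact Or.inl h7
  · exact Or.inr (Or.inl ⟨fun hd => h7.1 (Nat.mod_eq_zero_of_dvd hd), h7.2⟩)
  · exact Or.inr (Or.inr ⟨fun hd => h7.1 (Nat.mod_eq_zero_of_dvd hd), h7.2⟩)

end Cfsg.Agent.H93.PReg.Num
end

-- part: H93/PReg/PslRow
section
/-!
# The row of `PSL_n(q)` (for S4883)
-/

set_option autoImplicit false
set_option linter.unusedSectionVars false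

namespace Cfsg.Agent.H93.PReg

open Cfsg.Agent.H92.KTools

/-- a prime `s` and some further orders -/
theorem MO.finish {S : Type*} [Group S] {p s a : ℕ} (L : Finset ℕ) (hL : ∀ k ∈ L, HasOrd S k)
    (hLs : ∀ k ∈ L, ¬ s ∣ k ∧ ¬ p ∣ k) (hMO : MO {m | s ∣ m ∧ ¬ p ∣ m} a S) (h : p ≤ a + L.card) :
    MO (Reg p) p S := by
  have h1 := MO.of_finset (A := {m | ¬ s ∣ m ∧ ¬ p ∣ m}) L hL hLs
  have h2 := MO.add (A := {m | s ∣ m ∧ ¬ p ∣ m}) (B := {m | ¬ s ∣ m ∧ ¬ p ∣ m})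
    (Set.disjoint_left.2 fun x hx hx' => hx'.1 hx.1) hMO h1
  refine h2.mono ?_ h
  rintro x (hx | hx)
  · exact hx.2
  · exact hx.2

theorem MO.of_orders {S : Type*} [Group S] {p : ℕ} (L : Finset ℕ) (hL : ∀ k ∈ L, HasOrd S k)
    (hLs : ∀ k ∈ L, ¬ p ∣ k) (h : p ≤ L.card) : MO (Reg p) p S :=
  (MO.of_finset (A := Reg p) L hL hLs).mono subset_rfl h

namespace Psl

open Polynomial Matrix Cfsg.Agent.H93.PReg
open Cfsg.Agent.ClassicalGeometry.AutPSL.Root

variable {F : Type} [Field F] [Fintype F] {n : ℕ}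

theorem hasOrd_of_root (hn : 1 ≤ n) {K : Type} [Field K] [Algebra F K] (t : _root_.Matrix.SpecialLinearGroup (Fin n) F) (x : K)
    (hx : aeval x t.1.charpoly = 0) {m : ℕ} (h0 : orderOf x ≠ 0)
    (h2 : m ∣ orderOf x / Nat.gcd (orderOf x) (Nat.gcd n (Fintype.card F - 1))) :
    HasOrd (ProjectiveSpecialLinearGroup (Fin n) F) m := by
  have : Finite (_root_.Matrix.SpecialLinearGroup (Fin n) F) := PslCharpoly.finite_SL _
  have : Finite (ProjectiveSpecialLinearGroup (Fin n) F) := Quotient.finite _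
  have h3 : orderOf t ∣ orderOf (pr t) * Nat.gcd n (Fintype.card F - 1) := by
    apply orderOf_dvd_of_pow_eq_one
    rw [pow_mul]
    apply pow_gcd_of_pr_eq_one hn
    rw [map_pow, pow_orderOf_eq_one]
  have h4 : orderOf x ∣ orderOf (pr t) * Nat.gcd n (Fintype.card F - 1) :=
    (orderOf_root_dvd (ρ := ρ F n) t x hx).trans h3
  set d := Nat.gcd n (Fintype.card F - 1)
  set g := Nat.gcd (orderOf x) d
  have hg0 : 0 < g := Nat.gcd_pos_of_pos_left _ (by omega)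
  have h5 : orderOf x / g ∣ orderOf (pr t) := by
    have h6 : orderOf x / g ∣ orderOf (pr t) * (d / g) := by
      apply Nat.dvd_of_mul_dvd_mul_right hg0
      rw [mul_assoc, Nat.div_mul_cancel (Nat.gcd_dvd_left _ _), Nat.div_mul_cancel (Nat.gcd_dvd_right _ _)]
      exact h4
    exact (Nat.coprime_div_gcd_div_gcd hg0).dvd_of_dvd_mul_right h6
  exact HasOrd.of_dvd ⟨pr t, rfl⟩ (h2.trans h5) (orderOf_pos _).ne'

/-- orders from the first torus -/
theorem ho_one (hn : 2 ≤ n) {m : ℕ} (h : m ∣ ((Fintype.card F ^ n - 1) / (Fintype.card F - 1)) /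
      Nat.gcd ((Fintype.card F ^ n - 1) / (Fintype.card F - 1)) (Nat.gcd n (Fintype.card F - 1))) :
    HasOrd (ProjectiveSpecialLinearGroup (Fin n) F) m := by
  obtain ⟨K, _, _, t, x, hx, ho⟩ := Singer.sl_one (F := F) n (by omega)
  have hT := Num.T_le (q := Fintype.card F) (n := n) Fintype.one_lt_card (by omega)
  have h1 : 1 ≤ Fintype.card F ^ (n - 1) := Nat.one_le_pow _ _ Fintype.card_pos
  exact hasOrd_of_root (by omega) t x hx (by rw [ho]; omega) (by rw [ho]; exact h)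

/-- orders from the second torus -/
theorem ho_two (hn : 2 ≤ n) {m : ℕ} (h : m ∣ (Fintype.card F ^ (n - 1) - 1) /
      Nat.gcd (Fintype.card F ^ (n - 1) - 1) (Nat.gcd n (Fintype.card F - 1))) :
    HasOrd (ProjectiveSpecialLinearGroup (Fin n) F) m := by
  obtain ⟨k, rfl⟩ : ∃ k, n = k + 1 := ⟨n - 1, by omega⟩
  obtain ⟨K, _, _, t, x, hx, ho⟩ := Singer.sl_two (F := F) k (by omega)
  have hq : 2 ≤ Fintype.card F := Fintype.one_lt_card
  have h1 : 2 ^ 1 ≤ Fintype.card F ^ k := (Nat.pow_le_pow_right (by norm_num) (by omega)).trans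
    (Nat.pow_le_pow_left hq k)
  rw [Nat.add_sub_cancel] at h
  exact hasOrd_of_root (by omega) t x hx (by rw [ho]; omega) (by rw [ho]; exact h)

/-- prime orders -/
theorem ho_prime (hn : 1 ≤ n) {s : ℕ} (hs : s.Prime) (h : s * Nat.gcd n (Fintype.card F - 1) ∣
      Fintype.card F * Num.NN (Fintype.card F) n) (hn2 : 2 ≤ n) :
    HasOrd (ProjectiveSpecialLinearGroup (Fin n) F) s := by
  have : Finite (_root_.Matrix.SpecialLinearGroup (Fin n) F) := PslCharpoly.finite_SL _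
  have : Finite (ProjectiveSpecialLinearGroup (Fin n) F) := Quotient.finite _
  refine hasOrd_prime hs ?_
  have h1 : Nat.card (_root_.Matrix.SpecialLinearGroup (Fin n) F) =
      Nat.card (ProjectiveSpecialLinearGroup (Fin n) F) * Nat.gcd n (Fintype.card F - 1) := by
    have h2 := Subgroup.card_eq_card_quotient_mul_card_subgroup (Subgroup.center (_root_.Matrix.SpecialLinearGroup (Fin n) F))
    rw [PslCharpoly.card_center (F := F) n hn, Nat.card_eq_fintype_card (α := F)] at h2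
    exact h2
  have hg : 0 < Nat.gcd n (Fintype.card F - 1) := Nat.gcd_pos_of_pos_left _ (by omega)
  apply Nat.dvd_of_mul_dvd_mul_right hg
  rw [← h1, H953.card_SL n hn, ← Num.NN_eq _ _ hn]
  refine h.trans (Nat.mul_dvd_mul_right (dvd_pow_self _ ?_) _)
  intro h0
  have h3 := Finset.single_le_sum (s := Finset.range n) (f := fun i => i) (fun i _ => Nat.zero_le _)
    (Finset.mem_range.2 (show 1 < n by omega))
  omega

/-- the exceptional pairs for `n ≥ 3` -/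
theorem exc_case {r f p : ℕ} (hF : Fintype.card F = r ^ f) (hr : r.Prime) (hf : 1 ≤ f) (hp : p.Prime)
    (h : (n, r, f, p) ∈ Num.excL) : MO (Reg p) p (ProjectiveSpecialLinearGroup (Fin n) F) := by
  simp only [Num.excL, List.mem_cons, Prod.mk.injEq, List.not_mem_nil, or_false] at h
  rcases h with ⟨rfl, rfl, rfl, rfl⟩ | ⟨rfl, rfl, rfl, rfl⟩ | ⟨rfl, rfl, rfl, rfl⟩ | ⟨rfl, rfl, rfl, rfl⟩ |
    ⟨rfl, rfl, rfl, rfl⟩ | ⟨rfl, rfl, rfl, rfl⟩ | ⟨rfl, rfl, rfl, rfl⟩ | ⟨rfl, rfl, rfl, rfl⟩ | ⟨rfl, rfl, rfl, rfl⟩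
  · -- `L₃(7)`, `p = 7`
    refine MO.of_orders {1, 2, 3, 4, 8, 16, 19} ?_ (by decide) (by decide)
    simp only [Finset.mem_insert, Finset.mem_singleton, forall_eq_or_imp, forall_eq]
    exact ⟨hasOrd_one _, ho_two (by norm_num) (by rw [hF]; decide), ho_prime (by norm_num) (by norm_num)
      (by rw [hF]; decide) (by norm_num), ho_two (by norm_num) (by rw [hF]; decide),
      ho_two (by norm_num) (by rw [hF]; decide), ho_two (by norm_num) (by rw [hF]; decide),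
      ho_one (by norm_num) (by rw [hF]; decide)⟩
  · -- `L₃(8)`, `p = 7`
    refine MO.finish (s := 73) (a := 4) {1, 2, 3, 9} ?_ (by decide)
      (MO_s_one (a := 1) (N := 73) (by norm_num) hr hf hF (by norm_num) (by rw [hF]; decide) (by norm_num) hp
        (by decide) (by rw [hF]; decide) (by decide) (by decide) (by rw [hF]; decide)) (by decide)
    simp only [Finset.mem_insert, Finset.mem_singleton, forall_eq_or_imp, forall_eq]
    exact ⟨hasOrd_one _, ho_prime (by norm_num) (by norm_num) (by rw [hF]; decide) (by norm_num),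
      ho_two (by norm_num) (by rw [hF]; decide), ho_two (by norm_num) (by rw [hF]; decide)⟩
  · -- `L₃(13)`, `p = 13`
    refine MO.finish (s := 61) (a := 10) {1, 2, 7} ?_ (by decide)
      (MO_s_one (a := 1) (N := 183) (by norm_num) hr hf hF (by norm_num) (by rw [hF]; decide) (by norm_num) hp
        (by decide) (by rw [hF]; decide) (by decide) (by decide) (by rw [hF]; decide)) (by decide)
    simp only [Finset.mem_insert, Finset.mem_singleton, forall_eq_or_imp, forall_eq]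
    exact ⟨hasOrd_one _, ho_prime (by norm_num) (by norm_num) (by rw [hF]; decide) (by norm_num),
      ho_prime (by norm_num) (by norm_num) (by rw [hF]; decide) (by norm_num)⟩
  · -- `L₃(16)`, `p = 5`
    refine MO.of_orders {1, 2, 7, 13, 17} ?_ (by decide) (by decide)
    simp only [Finset.mem_insert, Finset.mem_singleton, forall_eq_or_imp, forall_eq]
    exact ⟨hasOrd_one _, ho_prime (by norm_num) (by norm_num) (by rw [hF]; decide) (by norm_num),
      ho_prime (by norm_num) (by norm_num) (by rw [hF]; decide) (by norm_num),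
      ho_prime (by norm_num) (by norm_num) (by rw [hF]; decide) (by norm_num),
      ho_prime (by norm_num) (by norm_num) (by rw [hF]; decide) (by norm_num)⟩
  · -- `L₄(4)`, `p = 5`
    refine MO.of_orders {1, 2, 3, 7, 17} ?_ (by decide) (by decide)
    simp only [Finset.mem_insert, Finset.mem_singleton, forall_eq_or_imp, forall_eq]
    exact ⟨hasOrd_one _, ho_prime (by norm_num) (by norm_num) (by rw [hF]; decide) (by norm_num),
      ho_prime (by norm_num) (by norm_num) (by rw [hF]; decide) (by norm_num),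
      ho_prime (by norm_num) (by norm_num) (by rw [hF]; decide) (by norm_num),
      ho_prime (by norm_num) (by norm_num) (by rw [hF]; decide) (by norm_num)⟩
  · -- `L₅(3)`, `p = 11`
    refine MO.of_orders {1, 2, 3, 4, 5, 8, 10, 13, 16, 20, 40, 80} ?_ (by decide) (by decide)
    simp only [Finset.mem_insert, Finset.mem_singleton, forall_eq_or_imp, forall_eq]
    exact ⟨hasOrd_one _, ho_two (by norm_num) (by rw [hF]; decide),
      ho_prime (by norm_num) (by norm_num) (by rw [hF]; decide) (by norm_num),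
      ho_two (by norm_num) (by rw [hF]; decide), ho_two (by norm_num) (by rw [hF]; decide),
      ho_two (by norm_num) (by rw [hF]; decide), ho_two (by norm_num) (by rw [hF]; decide),
      ho_prime (by norm_num) (by norm_num) (by rw [hF]; decide) (by norm_num),
      ho_two (by norm_num) (by rw [hF]; decide), ho_two (by norm_num) (by rw [hF]; decide),
      ho_two (by norm_num) (by rw [hF]; decide), ho_two (by norm_num) (by rw [hF]; decide)⟩
  · -- `L₆(2)`, `p = 7`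
    refine MO.finish (s := 31) (a := 3) {1, 2, 3, 5} ?_ (by decide)
      (MO_s_two (a := 1) (N := 31) (by norm_num) hr hf hF (by norm_num) (by rw [hF]; decide) (by norm_num) hp
        (by decide) (by rw [hF]; decide) (by decide) (by decide) (by rw [hF]; decide)) (by decide)
    simp only [Finset.mem_insert, Finset.mem_singleton, forall_eq_or_imp, forall_eq]
    exact ⟨hasOrd_one _, ho_prime (by norm_num) (by norm_num) (by rw [hF]; decide) (by norm_num),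
      ho_prime (by norm_num) (by norm_num) (by rw [hF]; decide) (by norm_num),
      ho_prime (by norm_num) (by norm_num) (by rw [hF]; decide) (by norm_num)⟩
  · -- `L₆(3)`, `p = 13`
    refine MO.finish (s := 11) (a := 10) {1, 2, 3} ?_ (by decide)
      (MO_s_two (a := 2) (N := 242) (by norm_num) hr hf hF (by norm_num) (by rw [hF]; decide) (by norm_num) hp
        (by decide) (by rw [hF]; decide) (by decide) (by decide) (by rw [hF]; decide)) (by decide)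
    simp only [Finset.mem_insert, Finset.mem_singleton, forall_eq_or_imp, forall_eq]
    exact ⟨hasOrd_one _, ho_prime (by norm_num) (by norm_num) (by rw [hF]; decide) (by norm_num),
      ho_prime (by norm_num) (by norm_num) (by rw [hF]; decide) (by norm_num)⟩
  · -- `L₁₀(2)`, `p = 31`
    refine MO.finish (s := 73) (a := 26) {1, 2, 3, 5, 7} ?_ (by decide)
      (MO_s_two (a := 1) (N := 511) (by norm_num) hr hf hF (by norm_num) (by rw [hF]; decide) (by norm_num) hp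
        (by decide) (by rw [hF]; decide) (by decide) (by decide) (by rw [hF]; decide)) (by decide)
    simp only [Finset.mem_insert, Finset.mem_singleton, forall_eq_or_imp, forall_eq]
    exact ⟨hasOrd_one _, ho_prime (by norm_num) (by norm_num) (by rw [hF]; decide) (by norm_num),
      ho_prime (by norm_num) (by norm_num) (by rw [hF]; decide) (by norm_num),
      ho_prime (by norm_num) (by norm_num) (by rw [hF]; decide) (by norm_num),
      ho_prime (by norm_num) (by norm_num) (by rw [hF]; decide) (by norm_num)⟩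

/-- **the row of `PSL_n(q)`, `n ≥ 3`** -/
theorem row_three (hn : 3 ≤ n) {r f : ℕ} (hF : Fintype.card F = r ^ f) (hr : r.Prime) (hf : 1 ≤ f) :
    Row (ProjectiveSpecialLinearGroup (Fin n) F) := by
  have hq : 2 ≤ r ^ f := hF ▸ Fintype.one_lt_card
  rcases Num.big_or_small hn hr hf with h | h
  · exact row_big hn hr hf hF (by rw [hF]; exact h)
  · intro p hp h5 hd
    have hc := cases_of_sq_dvd (by omega) hp hd
    rw [hF] at hc
    rcases Num.small_case h hn hq hp h5 hc with h1 | h1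
    · exact exc_case hF hr hf hp h1
    · exact MO_of_ineq hn hr hf hF hp (by rw [hF]; exact h1)

/-- **the row of `PSL_2(q)`** -/
theorem row_two {r f : ℕ} (hF : Fintype.card F = r ^ f) (hr : r.Prime) (hf : 1 ≤ f) :
    Row (ProjectiveSpecialLinearGroup (Fin 2) F) := by
  have hq : 2 ≤ r ^ f := hF ▸ Fintype.one_lt_card
  have hfin : Finite (_root_.Matrix.SpecialLinearGroup (Fin 2) F) := PslCharpoly.finite_SL _
  have : Finite (F ≃+* F) := Finite.of_injective (fun e => (e : F → F)) DFunLike.coe_injective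
  intro p hp h5 hd
  have hc : p ^ 2 ∣ r ^ f ∨ p ^ 2 ∣ (r ^ f) ^ 2 - 1 := by
    have h1 := hd.trans (card_psl_dvd (F := F) (n := 2) (by norm_num))
    rw [hF] at h1
    have h2 : (∑ i ∈ Finset.range 2, i) = 1 := by decide
    have h3 : (∏ j ∈ Finset.Icc 2 2, ((r ^ f) ^ j - 1)) = (r ^ f) ^ 2 - 1 := by simp only [_root_.Finset.Icc_self, _root_.Finset.prod_singleton]
    rw [h2, h3, pow_one] at h1
    by_cases h4 : p ∣ r ^ f
    · left
      refine (Nat.Coprime.pow_left 2 ((Nat.Prime.coprime_iff_not_dvd hp).2 fun h5' => ?_)).dvd_of_dvd_mul_right h1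
      have h6 : p ∣ (r ^ f) ^ 2 - ((r ^ f) ^ 2 - 1) := Nat.dvd_sub (h4.trans (dvd_pow_self _ (by norm_num))) h5'
      have h7 : 1 ≤ (r ^ f) ^ 2 := Nat.one_le_pow _ _ (by omega)
      rw [show (r ^ f) ^ 2 - ((r ^ f) ^ 2 - 1) = 1 by omega] at h6
      exact hp.one_lt.ne' (Nat.dvd_one.1 h6)
    · right
      exact (Nat.Coprime.pow_left 2 ((Nat.Prime.coprime_iff_not_dvd hp).2 h4)).dvd_of_dvd_mul_left h1
  have hI : (p = 5 ∧ r ^ f = 25) ∨ Num.Ineq2 (r ^ f) f p := by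
    rcases Num.big_or_small2 hr hf with h | h
    · exact Or.inr (Num.psl2_big hp h5 h hc)
    · exact Num.small_case2 h hq hp h5 hc
  rcases hI with ⟨rfl, h25⟩ | hI
  · refine MO.of_orders {1, 2, 3, 4, 13} ?_ (by decide) (by decide)
    simp only [Finset.mem_insert, Finset.mem_singleton, forall_eq_or_imp, forall_eq]
    exact ⟨hasOrd_one _, ho_two (by norm_num) (by rw [hF, h25]; decide),
      ho_two (by norm_num) (by rw [hF, h25]; decide), ho_two (by norm_num) (by rw [hF, h25]; decide),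
      ho_one (by norm_num) (by rw [hF, h25]; decide)⟩
  · have := Fact.mk hr
    have hW : Fintype.card (Fin 2) * Nat.card (Subgroup.center (_root_.Matrix.SpecialLinearGroup (Fin 2) F) × (F ≃+* F)) =
        Num.K2 (r ^ f) f := by
      rw [Nat.card_prod, PslCharpoly.card_center 2 (by norm_num), Lib.FieldAutCard.card_ringAut hf hF,
        Fintype.card_fin, Nat.card_eq_fintype_card (α := F), hF]
      rfl
    rcases hI with ⟨h1, h2⟩ | ⟨h1, h2⟩
    · obtain ⟨K, _, _, t, x, hx, ho⟩ := Singer.sl_one (F := F) 2 (by norm_num)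
      have ho' : orderOf x = r ^ f + 1 := by
        rw [ho, hF]
        have h3 := Nat.sq_sub_sq (r ^ f) 1
        rw [one_pow] at h3
        rw [h3, Nat.mul_div_cancel _ (by omega)]
      refine MO.of_root' hp ctl_two t x hx ?_
      rw [hW, ho', Nat.factorization_eq_zero_of_not_dvd h1, pow_zero, mul_one]
      exact h2
    · obtain ⟨K, _, _, t, x, hx, ho⟩ := Singer.sl_two (F := F) 1 (by norm_num)
      rw [pow_one, hF] at ho
      refine MO.of_root' hp ctl_two t x hx ?_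
      rw [hW, ho, Nat.factorization_eq_zero_of_not_dvd h1, pow_zero, mul_one]
      exact h2

/-- **the row of `PSL_n(q)`** -/
theorem row (hn : 2 ≤ n) : Row (ProjectiveSpecialLinearGroup (Fin n) F) := by
  obtain ⟨p, _⟩ := CharP.exists F
  obtain ⟨f, hpr, hf⟩ := FiniteField.card F p
  by_cases h : n = 2
  · subst h
    exact row_two hf hpr f.2
  · exact row_three (by omega) hf hpr f.2

end Psl

end Cfsg.Agent.H93.PReg
end

-- part: H700/PsuRow/Num
section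
/-!
# Arithmetic for the unitary row of S4883
-/

set_option autoImplicit false

namespace Cfsg.Agent.H700.PsuRow

open Finset

/-- `(|(-q)^n - 1|)/(q + 1)` -/
def nn (q n : ℕ) : ℕ := (∑ i ∈ Finset.range n, (-(q : ℤ)) ^ i).natAbs

theorem nn_mul (q n : ℕ) : nn q n * (q + 1) = wn q n := wn_eq_sum q n

theorem wn_le {q m : ℕ} (hq : 1 ≤ q) : wn q m ≤ q ^ m + 1 := by
  rcases Nat.even_or_odd m with h | h
  · rw [wn_even hq h]; omega
  · rw [wn_odd h]

theorem le_wn {q m : ℕ} (hq : 1 ≤ q) : q ^ m - 1 ≤ wn q m := by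
  rcases Nat.even_or_odd m with h | h
  · rw [wn_even hq h]
  · rw [wn_odd h]; omega

theorem dvd_wn_iff {p q i : ℕ} : p ∣ wn q i ↔ (-(q : ZMod p)) ^ i = 1 := by
  rw [natCast_dvd_iff, ← ZMod.intCast_zmod_eq_zero_iff_dvd]
  push_cast
  rw [sub_eq_zero]

theorem dvd_gcd {p q i j : ℕ} (hi : p ∣ wn q i) (hj : p ∣ wn q j) : p ∣ wn q (Nat.gcd i j) := by
  rw [dvd_wn_iff] at *
  exact pow_gcd_eq_one.2 ⟨hi, hj⟩

/-- a divisor of `wn q i` prime to `q + 1` -/
theorem mul_le_of_dvd {a q i : ℕ} (hq : 2 ≤ q) (hi : 1 ≤ i) (h : a ∣ wn q i) (hc : Nat.Coprime a (q + 1)) :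
    a * (q + 1) ≤ q ^ i + 1 := by
  have h1 : q + 1 ∣ wn q i := Dvd.intro_left _ (nn_mul q i)
  have h2 : a * (q + 1) ∣ wn q i := hc.mul_dvd_of_dvd_of_dvd h h1
  have h3 : q ^ 1 ≤ q ^ i := Nat.pow_le_pow_right (by omega) hi
  rw [pow_one] at h3
  have h4 := le_wn (q := q) (m := i) (by omega)
  exact (Nat.le_of_dvd (by omega) h2).trans (wn_le (by omega))

/-- the bound for `p` prime to `q + 1` -/
theorem sq_le {p q n : ℕ} (hp : p.Prime) (hq : 2 ≤ q) (h1 : ¬ p ∣ q + 1)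
    (h : p ^ 2 ∣ ∏ j ∈ Icc 2 n, wn q j) : p ^ 2 * (q + 1) ≤ q ^ n + 1 := by
  have hmono : ∀ i, i ≤ n → q ^ i ≤ q ^ n := fun i hi => Nat.pow_le_pow_right (by omega) hi
  have hcp : Nat.Coprime p (q + 1) := (Nat.Prime.coprime_iff_not_dvd hp).2 h1
  rcases Cfsg.Agent.H93.PReg.Num.sq_dvd_prod hp _ _ h with ⟨i, hi, hpi⟩ | ⟨i, hi, j, hj, hij, hpi, hpj⟩
  · rw [mem_Icc] at hi
    have h2 := mul_le_of_dvd hq (by omega) hpi (Nat.Coprime.pow_left 2 hcp)
    have h3 := hmono i hi.2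
    omega
  · rw [mem_Icc] at hi hj
    have hg := dvd_gcd hpi hpj
    have he0 : 0 < Nat.gcd i j := Nat.gcd_pos_of_pos_left _ (by omega)
    have h2e : 2 * Nat.gcd i j ≤ n := by
      obtain ⟨u, hu⟩ := Nat.gcd_dvd_left i j
      obtain ⟨v, hv⟩ := Nat.gcd_dvd_right i j
      have hu0 : u ≠ 0 := by rintro rfl; omega
      have hv0 : v ≠ 0 := by rintro rfl; omega
      have huv : u ≠ v := by
        intro huv
        exact hij (hu.trans ((congrArg (Nat.gcd i j * ·) huv).trans hv.symm))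
      rcases lt_or_gt_of_ne huv with hlt | hlt
      · have : 2 ≤ v := by omega
        have := Nat.mul_le_mul_left (Nat.gcd i j) this
        omega
      · have : 2 ≤ u := by omega
        have := Nat.mul_le_mul_left (Nat.gcd i j) this
        omega
    set e := Nat.gcd i j
    have h2 := mul_le_of_dvd hq he0 hg hcp
    have h3 := hmono (2 * e) h2e
    have h5 : q ^ (2 * e) = (q ^ e) ^ 2 := by rw [mul_comm, pow_mul]
    have h6 : (p * (q + 1)) ^ 2 ≤ (q ^ e + 1) ^ 2 := Nat.pow_le_pow_left h2 2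
    have h7 : (q ^ e + 1) ^ 2 ≤ (q + 1) * ((q ^ e) ^ 2 + 1) := by
      have : 1 ≤ q ^ e := Nat.one_le_pow _ _ (by omega)
      nlinarith only [hq, this]
    have h8 : p ^ 2 * (q + 1) * (q + 1) ≤ ((q ^ e) ^ 2 + 1) * (q + 1) := by
      calc p ^ 2 * (q + 1) * (q + 1) = (p * (q + 1)) ^ 2 := by ring
        _ ≤ _ := h6.trans h7
        _ = _ := by ring
    have h9 := Nat.le_of_mul_le_mul_right h8 (by omega)
    omega

/-- `Σ (-q)^i ≡ n` modulo a divisor of `q + 1` -/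
theorem dvd_nn_of_dvd {p q n : ℕ} (h : p ∣ q + 1) : p ∣ nn q n ↔ p ∣ n := by
  unfold nn
  rw [← Int.natCast_dvd, ← ZMod.intCast_zmod_eq_zero_iff_dvd, ← ZMod.natCast_eq_zero_iff]
  push_cast
  have h1 : -(q : ZMod p) = 1 := by
    rw [← ZMod.natCast_eq_zero_iff] at h
    push_cast at h
    linear_combination -h
  rw [h1]
  simp only [_root_.one_pow, _root_.Finset.sum_const, _root_.Finset.card_range, _root_.nsmul_eq_mul, _root_.mul_one]

theorem not_dvd_nn_of_dvd {p q n : ℕ} (hp : p.Prime) (h : p ∣ q) (hn : 1 ≤ n) : ¬ p ∣ nn q n := by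
  unfold nn
  have : Fact p.Prime := ⟨hp⟩
  rw [← Int.natCast_dvd, ← ZMod.intCast_zmod_eq_zero_iff_dvd]
  push_cast
  rw [← ZMod.natCast_eq_zero_iff] at h
  obtain ⟨m, rfl⟩ : ∃ m, n = m + 1 := ⟨n - 1, by omega⟩
  rw [h, sum_range_succ']
  simp

theorem nn_pos {q n : ℕ} (hq : 2 ≤ q) (hn : 1 ≤ n) : 0 < nn q n := by
  rw [Nat.pos_iff_ne_zero]
  intro h
  have h1 := nn_mul q n
  rw [h, zero_mul] at h1
  have h2 := le_wn (q := q) (m := n) (by omega)
  have h3 : q ^ 1 ≤ q ^ n := Nat.pow_le_pow_right (by omega) hn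
  rw [pow_one] at h3
  omega

/-- `v_p(nn q n) = v_p(n)` if `p ∣ q + 1` -/
theorem factorization_nn {p q n : ℕ} (hp : p.Prime) (hp2 : p ≠ 2) (hq : 2 ≤ q) (hn : 1 ≤ n) (h : p ∣ q + 1) :
    (nn q n).factorization p = n.factorization p := by
  have hodd : Odd p := hp.odd_of_ne_two hp2
  have hF : Fact p.Prime := ⟨hp⟩
  have h1 := Int.emultiplicity_pow_sub_pow hp hodd (x := -(q : ℤ)) (y := 1) (by
    have : (p : ℤ) ∣ ((q + 1 : ℕ) : ℤ) := Int.natCast_dvd_natCast.2 h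
    rw [show (-(q : ℤ) - 1) = -((q + 1 : ℕ) : ℤ) by push_cast; ring]
    exact this.neg_right) (by
    intro h2
    rw [Int.dvd_neg, Int.natCast_dvd_natCast] at h2
    have := (Nat.dvd_add_right h2).1 h
    exact hp.one_lt.ne' (Nat.dvd_one.1 this)) n
  rw [one_pow, ← geom_sum_mul, emultiplicity_mul (Nat.prime_iff_prime_int.1 hp), add_comm] at h1
  have h3 : emultiplicity (p : ℤ) (-(q : ℤ) - 1) ≠ ⊤ := by
    rw [show (-(q : ℤ) - 1) = -((q + 1 : ℕ) : ℤ) by push_cast; ring, emultiplicity_neg, Int.natCast_emultiplicity]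
    exact finiteMultiplicity_iff_emultiplicity_ne_top.1 (Nat.finiteMultiplicity_iff.2 ⟨hp.one_lt.ne', by omega⟩)
  have h4 := ENat.add_right_injective_of_ne_top h3 h1
  rw [← Int.emultiplicity_natAbs] at h4
  change emultiplicity p (nn q n) = _ at h4
  rw [← padicValNat_eq_emultiplicity (nn_pos hq hn).ne', ← padicValNat_eq_emultiplicity (by omega)] at h4
  rw [Nat.factorization_def _ hp, Nat.factorization_def _ hp]
  exact_mod_cast h4

/-! ### the bounds -/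

/-- `n |W|` -/
def dd (n q f : ℕ) : ℕ := n * (Nat.gcd n (q + 1) * (2 * f))

/-- the bound for the first torus -/
def B1 (n q f p : ℕ) : Prop := (p - 1) * dd n q f * p ^ (nn q n).factorization p < nn q n

/-- the bound for the second torus -/
def B2 (n q f p : ℕ) : Prop := (p - 1) * dd n q f * p ^ (wn q (n - 1)).factorization p < wn q (n - 1)

/-- the sufficient condition -/
def J (n q f : ℕ) : Prop := 4 * n ^ 4 * f ^ 2 * (q + 1) ≤ q ^ n - 1 ∧ 2 * n ^ 2 * f * q * (q + 1) < q ^ n - 1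

theorem dd_le {n q f : ℕ} (hn : 1 ≤ n) : dd n q f ≤ 2 * n ^ 2 * f := by
  have h : Nat.gcd n (q + 1) ≤ n := Nat.gcd_le_left _ (by omega)
  calc dd n q f = n * (2 * f) * Nat.gcd n (q + 1) := by unfold dd; ring
    _ ≤ n * (2 * f) * n := Nat.mul_le_mul_left _ h
    _ = _ := by ring

theorem J_step {n q f : ℕ} (hq : 2 ≤ q) (h : (n + 1) ^ 4 ≤ q * n ^ 4) (h2 : (n + 1) ^ 2 ≤ q * n ^ 2)
    (hJ : J n q f) : J (n + 1) q f := by
  obtain ⟨h3, h4⟩ := hJ
  have h5 : 1 ≤ q ^ n := Nat.one_le_pow _ _ (by omega)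
  have h6 : q * (q ^ n - 1) ≤ q ^ (n + 1) - 1 := by
    rw [pow_succ, mul_comm (q ^ n) q, Nat.mul_sub, mul_one]
    omega
  constructor
  · calc 4 * (n + 1) ^ 4 * f ^ 2 * (q + 1) = (n + 1) ^ 4 * (4 * f ^ 2 * (q + 1)) := by ring
      _ ≤ q * n ^ 4 * (4 * f ^ 2 * (q + 1)) := Nat.mul_le_mul_right _ h
      _ = q * (4 * n ^ 4 * f ^ 2 * (q + 1)) := by ring
      _ ≤ q * (q ^ n - 1) := Nat.mul_le_mul_left _ h3
      _ ≤ _ := h6
  · calc 2 * (n + 1) ^ 2 * f * q * (q + 1) = (n + 1) ^ 2 * (2 * f * q * (q + 1)) := by ring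
      _ ≤ q * n ^ 2 * (2 * f * q * (q + 1)) := Nat.mul_le_mul_right _ h2
      _ = q * (2 * n ^ 2 * f * q * (q + 1)) := by ring
      _ < q * (q ^ n - 1) := (Nat.mul_lt_mul_left (by omega)).2 h4
      _ ≤ _ := h6

theorem fac_eq_zero {p N : ℕ} (h : ¬ p ∣ N) : p ^ N.factorization p = 1 := by
  rw [Nat.factorization_eq_zero_of_not_dvd h, pow_zero]

/-- `J` suffices -/
theorem B_of_J {n q f p : ℕ} (hp : p.Prime) (hp5 : 5 ≤ p) (hq : 2 ≤ q) (hn : 3 ≤ n) (hf : 1 ≤ f) (hJ : J n q f)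
    (h : p ∣ q ∨ p ^ 2 ∣ ∏ j ∈ Icc 2 n, wn q j) : B1 n q f p ∨ B2 n q f p := by
  obtain ⟨hJ1, hJ2⟩ := hJ
  have hdd := dd_le (q := q) (f := f) (show 1 ≤ n by omega)
  have hnn := nn_mul q n
  have hwn := le_wn (q := q) (m := n) (by omega)
  -- `p ≤ q + 1`, `p ∤ nn q n`
  have key1 : p ≤ q + 1 → ¬ p ∣ nn q n → B1 n q f p := by
    intro hle hnd
    unfold B1
    rw [fac_eq_zero hnd, mul_one]
    have h1 : (p - 1) * dd n q f * (q + 1) < nn q n * (q + 1) := by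
      calc (p - 1) * dd n q f * (q + 1) ≤ q * (2 * n ^ 2 * f) * (q + 1) :=
            Nat.mul_le_mul_right _ (Nat.mul_le_mul (by omega) hdd)
        _ = 2 * n ^ 2 * f * q * (q + 1) := by ring
        _ < q ^ n - 1 := hJ2
        _ ≤ nn q n * (q + 1) := by rw [hnn]; exact hwn
    exact Nat.lt_of_mul_lt_mul_right h1
  by_cases hpq : p ∣ q
  · exact Or.inl (key1 (by have := Nat.le_of_dvd (by omega) hpq; omega) (not_dvd_nn_of_dvd hp hpq (by omega)))
  have h := h.resolve_left hpq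
  by_cases hpq1 : p ∣ q + 1
  · have hle := Nat.le_of_dvd (by omega) hpq1
    by_cases hpn : p ∣ n
    · left
      unfold B1
      rw [factorization_nn hp (by omega) hq (by omega) hpq1]
      have h1 : p ^ n.factorization p ≤ n := Nat.le_of_dvd (by omega) (Nat.ordProj_dvd _ _)
      have h2 : p ≤ n := Nat.le_of_dvd (by omega) hpn
      have h3 : (p - 1) * dd n q f * p ^ n.factorization p * (q + 1) < nn q n * (q + 1) := by
        calc (p - 1) * dd n q f * p ^ n.factorization p * (q + 1) ≤ n * (2 * n ^ 2 * f) * n * (q + 1) :=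
              Nat.mul_le_mul_right _ (Nat.mul_le_mul (Nat.mul_le_mul (by omega) hdd) h1)
          _ = 2 * n ^ 4 * f * (q + 1) := by ring
          _ < 4 * n ^ 4 * f ^ 2 * (q + 1) := by
              have h4 : 0 < n ^ 4 * f * (q + 1) := by positivity
              have h5 : n ^ 4 * f * (q + 1) * 1 ≤ n ^ 4 * f * (q + 1) * f := Nat.mul_le_mul_left _ hf
              calc 2 * n ^ 4 * f * (q + 1) = 2 * (n ^ 4 * f * (q + 1) * 1) := by ring
                _ ≤ 2 * (n ^ 4 * f * (q + 1) * f) := Nat.mul_le_mul_left _ h5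
                _ < 4 * (n ^ 4 * f * (q + 1) * f) := by omega
                _ = _ := by ring
          _ ≤ q ^ n - 1 := hJ1
          _ ≤ nn q n * (q + 1) := by rw [hnn]; exact hwn
      exact Nat.lt_of_mul_lt_mul_right h3
    · exact Or.inl (key1 hle (by rw [dvd_nn_of_dvd hpq1]; exact hpn))
  · -- `p ∤ q (q + 1)`
    have hsq := sq_le hp hq hpq1 h
    have key : ∀ N : ℕ, q ^ n - 1 ≤ N * (q + 1) → (p - 1) * dd n q f < N := by
      intro N hN
      have h1 : (p - 1) * (p - 1) * (q + 1) < q ^ n - 1 := by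
        obtain ⟨a, rfl⟩ : ∃ a, p = a + 5 := ⟨p - 5, by omega⟩
        have h2 : (a + 5 - 1) * (a + 5 - 1) * (q + 1) + 9 * (q + 1) ≤ (a + 5) ^ 2 * (q + 1) := by
          have : (a + 5 - 1) = a + 4 := by omega
          rw [this, ← add_mul]
          apply Nat.mul_le_mul_right
          ring_nf
          omega
        (clear * - hsq h2; omega)
      have h2 : dd n q f * dd n q f * (q + 1) ≤ q ^ n - 1 := by
        calc dd n q f * dd n q f * (q + 1) ≤ (2 * n ^ 2 * f) * (2 * n ^ 2 * f) * (q + 1) :=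
              Nat.mul_le_mul_right _ (Nat.mul_le_mul hdd hdd)
          _ = 4 * n ^ 4 * f ^ 2 * (q + 1) := by ring
          _ ≤ _ := hJ1
      by_contra hcon
      push Not at hcon
      have h3 : (q ^ n - 1) * (q ^ n - 1) ≤ ((p - 1) * dd n q f * (q + 1)) * ((p - 1) * dd n q f * (q + 1)) := by
        have := hN.trans (Nat.mul_le_mul_right (q + 1) hcon)
        exact Nat.mul_le_mul this this
      have h0 : 0 < q ^ n - 1 := by omega
      have h4 : ((p - 1) * dd n q f * (q + 1)) * ((p - 1) * dd n q f * (q + 1)) < (q ^ n - 1) * (q ^ n - 1) := by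
        calc ((p - 1) * dd n q f * (q + 1)) * ((p - 1) * dd n q f * (q + 1)) =
              ((p - 1) * (p - 1) * (q + 1)) * (dd n q f * dd n q f * (q + 1)) := by ring
          _ ≤ ((p - 1) * (p - 1) * (q + 1)) * (q ^ n - 1) := Nat.mul_le_mul_left _ h2
          _ < (q ^ n - 1) * (q ^ n - 1) := (Nat.mul_lt_mul_right h0).2 h1
      omega
    by_cases hpn : p ∣ nn q n
    · right
      unfold B2
      have hnd : ¬ p ∣ wn q (n - 1) := by
        intro hd
        have h1 : p ∣ wn q n := by rw [← hnn]; exact hpn.mul_right _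
        have h2 := dvd_gcd h1 hd
        have h3 : Nat.gcd n (n - 1) = 1 := by
          obtain ⟨m, rfl⟩ : ∃ m, n = m + 1 := ⟨n - 1, by omega⟩
          simp
        rw [h3, wn_one] at h2
        exact hpq1 h2
      rw [fac_eq_zero hnd, mul_one]
      apply key
      have h1 := le_wn (q := q) (m := n - 1) (by omega)
      have h2 : q ^ 1 ≤ q ^ (n - 1) := Nat.pow_le_pow_right (by omega) (by omega)
      have h3 : q ^ n = q ^ (n - 1) * q := by rw [← pow_succ]; congr 1; omega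
      calc q ^ n - 1 ≤ (q ^ (n - 1) - 1) * (q + 1) := by
            rw [h3, Nat.sub_mul, Nat.mul_add]
            rw [pow_one] at h2
            (clear * - h2; omega)
        _ ≤ _ := Nat.mul_le_mul_right _ h1
    · left
      unfold B1
      rw [fac_eq_zero hpn, mul_one]
      apply key
      rw [hnn]
      exact hwn

/-! ### the small cases -/

def wnb (q m : ℕ) : ℕ := bif m % 2 == 0 then q ^ m - 1 else q ^ m + 1

theorem wnb_eq {q m : ℕ} (hq : 1 ≤ q) : wnb q m = wn q m := by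
  unfold wnb
  rcases Nat.even_or_odd m with h | h
  · rw [wn_even hq h, Nat.even_iff.1 h]; rfl
  · rw [wn_odd h, Nat.odd_iff.1 h]; rfl

def prodw (q : ℕ) : ℕ → ℕ
  | 0 => 1
  | n + 1 => prodw q n * (bif n == 0 then 1 else wnb q (n + 1))

theorem prodw_eq {q : ℕ} (hq : 1 ≤ q) (n : ℕ) : prodw q n = ∏ j ∈ Icc 2 n, wn q j := by
  induction n with
  | zero => simp [prodw]
  | succ n ih =>
    rw [prodw, ih]
    rcases n with _ | n
    · simp
    · rw [Finset.prod_Icc_succ_top (by omega : 2 ≤ n + 1 + 1), wnb_eq hq]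
      rfl

/-- the exceptions -/
def exc (n q p : ℕ) : Bool :=
  (n == 9 && q == 2 && p == 5) || (n == 3 && q == 4 && p == 5) || (n == 4 && q == 4 && p == 5) ||
  (n == 5 && q == 4 && p == 5) || (n == 3 && q == 5 && p == 5) || (n == 3 && q == 11 && p == 11) ||
  (n == 3 && q == 16 && p == 17) || (n == 3 && q == 17 && p == 17)

def chk (n q f p : ℕ) : Bool :=
  Nat.blt p 5 || [2, 3, 5, 7, 11, 13, 17, 19, 23, 29, 31].any (fun m => p % m == 0 && Nat.blt m p) ||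
  !(q % p == 0 || prodw q n % (p * p) == 0) || exc n q p ||
  (Nat.blt (wnb q n / (q + 1)) (5 ^ 20) &&
    Nat.blt ((p - 1) * dd n q f * Nat.gcd (wnb q n / (q + 1)) (p ^ 20)) (wnb q n / (q + 1))) ||
  (Nat.blt (wnb q (n - 1)) (5 ^ 20) &&
    Nat.blt ((p - 1) * dd n q f * Nat.gcd (wnb q (n - 1)) (p ^ 20)) (wnb q (n - 1)))

def Jb (n q f : ℕ) : Bool :=
  Nat.ble (4 * n ^ 4 * f ^ 2 * (q + 1)) (q ^ n - 1) && Nat.blt (2 * n ^ 2 * f * q * (q + 1)) (q ^ n - 1)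

def chkn (n q f : ℕ) : Bool :=
  Jb n q f || (n == 3 && q == 2) || (Nat.blt (q ^ n + 1) (1000000 * (q + 1)) && (List.range 1000).all (chk n q f))

def chkq (r f : ℕ) : Bool :=
  Nat.ble 128 (r ^ f) || ((List.range 19).all (fun i => chkn (i + 3) (r ^ f) f) && Jb 22 (r ^ f) f)

def primes : List ℕ := [2, 3, 5, 7, 11, 13, 17, 19, 23, 29, 31, 37, 41, 43, 47, 53, 59, 61, 67, 71, 73, 79, 83, 89, 97,
  101, 103, 107, 109, 113, 127]

theorem mem_primes {r : ℕ} (hr : r.Prime) (h : r < 128) : r ∈ primes := by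
  have h2 := hr.two_le
  have key : ∀ r < 128, 2 ≤ r → (∀ m < r, 2 ≤ m → ¬ m ∣ r) → r ∈ primes := by (set_option synthInstance.maxSize 100000 in exact Cfsg.Agent.Lib.Refl.of (by decide +kernel))
  refine key r h h2 fun m hm hm2 hd => ?_
  rcases (Nat.dvd_prime hr).1 hd with h1 | h1 <;> omega

/-- the primes from `5` to `1000` -/
def pq63 : List ℕ :=
  [5, 7, 11, 13, 17, 19, 23, 29, 31, 37, 41, 43, 47, 53, 59, 61, 67, 71, 73, 79, 83, 89, 97, 101, 103, 107, 109,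
   113, 127, 131, 137, 139, 149, 151, 157, 163, 167, 173, 179, 181, 191, 193, 197, 199, 211, 223, 227, 229, 233,
   239, 241, 251, 257, 263, 269, 271, 277, 281, 283, 293, 307, 311, 313, 317, 331, 337, 347, 349, 353, 359, 367,
   373, 379, 383, 389, 397, 401, 409, 419, 421, 431, 433, 439, 443, 449, 457, 461, 463, 467, 479, 487, 491, 499,
   503, 509, 521, 523, 541, 547, 557, 563, 569, 571, 577, 587, 593, 599, 601, 607, 613, 617, 619, 631, 641, 643,
   647, 653, 659, 661, 673, 677, 683, 691, 701, 709, 719, 727, 733, 739, 743, 751, 757, 761, 769, 773, 787, 797,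
   809, 811, 821, 823, 827, 829, 839, 853, 857, 859, 863, 877, 881, 883, 887, 907, 911, 919, 929, 937, 941, 947,
   953, 967, 971, 977, 983, 991, 997]

theorem pq63_eq : ((List.range 1000).filter fun p => !(Nat.blt p 5 ||
    [2, 3, 5, 7, 11, 13, 17, 19, 23, 29, 31].any (fun m => p % m == 0 && Nat.blt m p))) = pq63 := by (refine of_decide_eq_true ?_; (try (rewrite [Cfsg.Agent.LsF.nmod_pat, Cfsg.Agent.LsF.nbeq_pat, Cfsg.Agent.LsF.and_eq, Cfsg.Agent.LsF.or_eq, Cfsg.Agent.LsF.not_eq, Cfsg.Agent.LsF.instDecEq_eq, Cfsg.Agent.LsF.any_eq, Cfsg.Agent.LsF.filter_eq, Cfsg.Agent.LsF.range_eq, Cfsg.Agent.LsF.dListEq_eq, Cfsg.Agent.LsF.decide_eq])); decide +kernel)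

/-- `chk` for primes -/
def chk63 (n q f N p : ℕ) : Bool :=
  !(q % p == 0 || N % (p * p) == 0) || exc n q p ||
  (Nat.blt (wnb q n / (q + 1)) (5 ^ 20) &&
    Nat.blt ((p - 1) * dd n q f * Nat.gcd (wnb q n / (q + 1)) (p ^ 20)) (wnb q n / (q + 1))) ||
  (Nat.blt (wnb q (n - 1)) (5 ^ 20) &&
    Nat.blt ((p - 1) * dd n q f * Nat.gcd (wnb q (n - 1)) (p ^ 20)) (wnb q (n - 1)))

/-- `chkn` for primes -/
def chkn63 (n q f : ℕ) : Bool :=
  Jb n q f || (n == 3 && q == 2) ||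
    (Nat.blt (q ^ n + 1) (1000000 * (q + 1)) && pq63.all (chk63 n q f (prodw q n)))

theorem chkn_eq63 : chkn = chkn63 := by
  funext n q f
  have e : (List.range 1000).all (chk n q f) = pq63.all (chk63 n q f (prodw q n)) := by
    rw [← pq63_eq, ← _root_.Cfsg.Agent.H93.PReg.Num.all_or63]
    refine congrArg _ (funext fun p => ?_)
    delta chk chk63
    simp only [Bool.or_assoc]
  delta chkn chkn63
  rw [e]

theorem chk_all : (primes.all fun r => (List.range 6).all fun i => chkq r (i + 1)) = true := by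
  delta chkq
  rewrite [chkn_eq63]
  (delta Cfsg.Agent.H700.PsuRow.chkn63 Cfsg.Agent.H700.PsuRow.Jb Cfsg.Agent.H700.PsuRow.chk63 Cfsg.Agent.H700.PsuRow.exc Cfsg.Agent.H700.PsuRow.dd; set_option synthInstance.maxSize 100000 in exact Cfsg.Agent.Lib.Refl.of (by decide +kernel))

theorem J_of_Jb {n q f : ℕ} (h : Jb n q f = true) : J n q f := by
  unfold Jb at h
  rw [Bool.and_eq_true] at h
  exact ⟨Nat.le_of_ble_eq_true h.1, Nat.le_of_ble_eq_true h.2⟩

theorem J_of_le {n₀ n q f : ℕ} (h : (n₀ + 1) ^ 4 ≤ q * n₀ ^ 4) (hq : 2 ≤ q) (hn₀ : 1 ≤ n₀)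
    (hJ : J n₀ q f) (hle : n₀ ≤ n) : J n q f := by
  induction n, hle using Nat.le_induction with
  | base => exact hJ
  | succ n hn ih =>
    -- `(n + 1) n₀ ≤ n (n₀ + 1)`
    have h1 : (n + 1) * n₀ ≤ n * (n₀ + 1) := by linarith only [hn]
    have h4 : (n + 1) ^ 4 ≤ q * n ^ 4 := by
      have h2 : ((n + 1) * n₀) ^ 4 ≤ (n * (n₀ + 1)) ^ 4 := Nat.pow_le_pow_left h1 4
      have h3 : (n + 1) ^ 4 * n₀ ^ 4 ≤ q * n ^ 4 * n₀ ^ 4 := by
        calc (n + 1) ^ 4 * n₀ ^ 4 = ((n + 1) * n₀) ^ 4 := by ring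
          _ ≤ (n * (n₀ + 1)) ^ 4 := h2
          _ = n ^ 4 * (n₀ + 1) ^ 4 := by ring
          _ ≤ n ^ 4 * (q * n₀ ^ 4) := Nat.mul_le_mul_left _ h
          _ = _ := by ring
      exact Nat.le_of_mul_le_mul_right h3 (by positivity)
    have h5 : (n + 1) ^ 2 ≤ q * n ^ 2 := by
      have h6 : n ^ 2 ≤ (n + 1) ^ 2 := Nat.pow_le_pow_left (by omega) 2
      have h7 : 0 < n ^ 2 := Nat.pow_pos (by omega)
      have h8 : (n + 1) ^ 2 * n ^ 2 ≤ q * n ^ 2 * n ^ 2 := by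
        calc (n + 1) ^ 2 * n ^ 2 ≤ (n + 1) ^ 2 * (n + 1) ^ 2 := Nat.mul_le_mul_left _ h6
          _ = (n + 1) ^ 4 := by ring
          _ ≤ q * n ^ 4 := h4
          _ = _ := by ring
      exact Nat.le_of_mul_le_mul_right h8 h7
    exact J_step hq h4 h5 ih

theorem J_large {q f : ℕ} (hq : 128 ≤ q) (hf : 2 ^ f ≤ q) : J 3 q f := by
  have h18 : 18 * f ≤ q - 2 := by
    by_cases h : f < 7
    · omega
    · push Not at h
      have : ∀ f, 7 ≤ f → 18 * f + 2 ≤ 2 ^ f := by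
        intro f hf
        induction f, hf using Nat.le_induction with
        | base => norm_num
        | succ f hf ih => rw [pow_succ]; omega
      have := this f h
      omega
  obtain ⟨a, rfl⟩ : ∃ a, q = a + 2 := ⟨q - 2, by omega⟩
  rw [Nat.add_sub_cancel] at h18
  constructor
  · have h1 : 18 * f * (18 * f) ≤ a * a := Nat.mul_le_mul h18 h18
    have h2 : 4 * 3 ^ 4 * f ^ 2 * (a + 2 + 1) = 18 * f * (18 * f) * (a + 3) := by ring
    have h3 : a * a * (a + 3) + 1 ≤ (a + 2) ^ 3 := by ring_nf; linarith only [_root_.mul_self_nonneg (↑a : ℤ)]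
    have h4 := Nat.mul_le_mul_right (a + 3) h1
    omega
  · have h2 : 2 * 3 ^ 2 * f * (a + 2) * (a + 2 + 1) = 18 * f * ((a + 2) * (a + 3)) := by ring
    have h4 := Nat.mul_le_mul_right ((a + 2) * (a + 3)) h18
    have h3 : a * ((a + 2) * (a + 3)) + 2 ≤ (a + 2) ^ 3 := by ring_nf; linarith only [_root_.sq_nonneg (↑a : ℤ)]
    omega

theorem pow_le_gcd {p N : ℕ} (hp5 : 5 ≤ p) (hN : 0 < N) (h : N < 5 ^ 20) : p ^ N.factorization p ≤ Nat.gcd N (p ^ 20) := by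
  have h1 : p ^ N.factorization p ≤ N := Nat.le_of_dvd hN (Nat.ordProj_dvd _ _)
  have h2 : N.factorization p < 20 := by
    by_contra hcon
    push Not at hcon
    have h3 : 5 ^ 20 ≤ p ^ N.factorization p :=
      (Nat.pow_le_pow_left hp5 20).trans (Nat.pow_le_pow_right (by omega) hcon)
    omega
  exact Nat.le_of_dvd (Nat.gcd_pos_of_pos_left _ hN)
    (Nat.dvd_gcd (Nat.ordProj_dvd _ _) (pow_dvd_pow _ h2.le))

theorem B_of_chk {n q f p : ℕ} (hp : p.Prime) (hp5 : 5 ≤ p) (hq : 2 ≤ q) (hn : 3 ≤ n)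
    (h : p ∣ q ∨ p ^ 2 ∣ ∏ j ∈ Icc 2 n, wn q j) (hc : chk n q f p = true) :
    exc n q p = true ∨ B1 n q f p ∨ B2 n q f p := by
  unfold chk at hc
  simp only [Bool.or_eq_true, Bool.and_eq_true] at hc
  have hw1 : wnb q n / (q + 1) = nn q n := by
    rw [wnb_eq (by omega), ← nn_mul]
    exact Nat.mul_div_cancel _ (by omega)
  have hw2 : wnb q (n - 1) = wn q (n - 1) := wnb_eq (by omega)
  rw [hw1, hw2] at hc
  rcases hc with ((((hc | hc) | hc) | hc) | hc) | hc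
  · have := Nat.le_of_ble_eq_true hc
    omega
  · rw [List.any_eq_true] at hc
    obtain ⟨m, hm, hm2⟩ := hc
    rw [Bool.and_eq_true, beq_iff_eq] at hm2
    have h1 : m ∣ p := Nat.dvd_of_mod_eq_zero hm2.1
    have h2 : m < p := Nat.le_of_ble_eq_true hm2.2
    rcases (Nat.dvd_prime hp).1 h1 with rfl | rfl
    · simp at hm
    · omega
  · exfalso
    rw [Bool.not_eq_true', Bool.or_eq_false_iff] at hc
    rcases h with h | h
    · have := Nat.mod_eq_zero_of_dvd h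
      simp [this] at hc
    · rw [← prodw_eq (by omega), sq] at h
      have := Nat.mod_eq_zero_of_dvd h
      simp [this] at hc
  · exact Or.inl hc
  · right; left
    have h1 : nn q n < 5 ^ 20 := Nat.le_of_ble_eq_true hc.1
    have h2 : (p - 1) * dd n q f * Nat.gcd (nn q n) (p ^ 20) < nn q n := Nat.le_of_ble_eq_true hc.2
    exact lt_of_le_of_lt (Nat.mul_le_mul_left _ (pow_le_gcd hp5 (nn_pos hq (by omega)) h1)) h2
  · right; right
    have h1 : wn q (n - 1) < 5 ^ 20 := Nat.le_of_ble_eq_true hc.1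
    have h2 : (p - 1) * dd n q f * Nat.gcd (wn q (n - 1)) (p ^ 20) < wn q (n - 1) := Nat.le_of_ble_eq_true hc.2
    exact lt_of_le_of_lt (Nat.mul_le_mul_left _ (pow_le_gcd hp5 (by omega) h1)) h2

/-- **the arithmetic of the unitary row** -/
theorem num {r f n p : ℕ} (hr : r.Prime) (hf : 1 ≤ f) (hn : 3 ≤ n) (h32 : ¬ (n = 3 ∧ r ^ f = 2)) (hp : p.Prime)
    (hp5 : 5 ≤ p) (h : p ∣ r ^ f ∨ p ^ 2 ∣ ∏ j ∈ Icc 2 n, wn (r ^ f) j) :
    exc n (r ^ f) p = true ∨ B1 n (r ^ f) f p ∨ B2 n (r ^ f) f p := by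
  have hr2 := hr.two_le
  have hq2f : 2 ^ f ≤ r ^ f := Nat.pow_le_pow_left hr2 f
  have hq2 : 2 ≤ r ^ f := by
    have : 2 ^ 1 ≤ 2 ^ f := Nat.pow_le_pow_right (by norm_num) hf
    omega
  by_cases hlarge : 128 ≤ r ^ f
  · exact Or.inr (B_of_J hp hp5 hq2 hn hf (J_of_le (by norm_num; omega) hq2 (by norm_num) (J_large hlarge hq2f) hn) h)
  · push Not at hlarge
    have hrle : r < 128 := by
      have : r ^ 1 ≤ r ^ f := Nat.pow_le_pow_right (by omega) hf
      rw [pow_one] at this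
      omega
    have hf6 : f < 7 := by
      by_contra hcon
      push Not at hcon
      have : 2 ^ 7 ≤ 2 ^ f := Nat.pow_le_pow_right (by norm_num) hcon
      omega
    have h1 := List.all_eq_true.1 (List.all_eq_true.1 chk_all r (mem_primes hr hrle)) (f - 1)
      (List.mem_range.2 (by omega))
    rw [Nat.sub_add_cancel hf] at h1
    unfold chkq at h1
    rw [Bool.or_eq_true, Bool.and_eq_true] at h1
    rcases h1 with h1 | ⟨h1, h2⟩
    · have := Nat.le_of_ble_eq_true h1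
      omega
    · by_cases hn22 : 22 ≤ n
      · exact Or.inr (B_of_J hp hp5 hq2 hn hf
          (J_of_le (le_trans (by norm_num) (Nat.mul_le_mul_right _ hq2)) hq2 (by norm_num) (J_of_Jb h2) hn22) h)
      · have h3 := List.all_eq_true.1 h1 (n - 3) (List.mem_range.2 (by omega))
        rw [Nat.sub_add_cancel hn] at h3
        unfold chkn at h3
        simp only [Bool.or_eq_true, Bool.and_eq_true] at h3
        rcases h3 with (h3 | h3) | ⟨h3, h4⟩
        · exact Or.inr (B_of_J hp hp5 hq2 hn hf (J_of_Jb h3) h)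
        · rw [beq_iff_eq, beq_iff_eq] at h3
          exact absurd h3 h32
        · have h5 : (r ^ f) ^ n + 1 < 1000000 * (r ^ f + 1) := Nat.le_of_ble_eq_true h3
          have hp1000 : p < 1000 := by
            by_cases hpq : p ∣ r ^ f
            · have := Nat.le_of_dvd (by omega) hpq
              omega
            by_cases hpq1 : p ∣ r ^ f + 1
            · have := Nat.le_of_dvd (by omega) hpq1
              omega
            have h6 := sq_le hp hq2 hpq1 (h.resolve_left hpq)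
            by_contra hcon
            push Not at hcon
            have h7 : 1000 ^ 2 * (r ^ f + 1) ≤ p ^ 2 * (r ^ f + 1) :=
              Nat.mul_le_mul_right _ (Nat.pow_le_pow_left hcon 2)
            omega
          exact B_of_chk hp hp5 hq2 hn h (List.all_eq_true.1 h4 p (List.mem_range.2 hp1000))

end Cfsg.Agent.H700.PsuRow
end

-- part: H700/PsuRow/Main
section
/-!
# **The unitary row of S4883**: `PSU_n(q)`, except `p = 17` in `PSU_3(16)`
-/

set_option autoImplicit false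
set_option linter.unusedSectionVars false

namespace Cfsg.Agent.H700.PsuRow

open Polynomial Matrix Cfsg Cfsg.Agent.H93.PReg Cfsg.Agent.LieClassical.HermSiegel Cfsg.Agent.H92.KTools
open Cfsg.Agent.ClassicalGeometry.UnitAutBasic Cfsg.Agent.ClassicalGeometry.GUBasic

/-- removing a prime not dividing the order of the eigenvalue -/
theorem remove_prime {F L : Type*} [Field F] [Field L] [Algebra F L] {ι : Type*} [Fintype ι] [DecidableEq ι]
    {H : Type*} [Group H] [Finite H] (ρ : H →* Matrix ι ι F) (t : H) (x : L) (hx : aeval x (ρ t).charpoly = 0)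
    {ℓ : ℕ} (hℓ : ℓ.Prime) (h : ¬ ℓ ∣ orderOf x) :
    ∃ (t' : H) (x' : L), aeval x' (ρ t').charpoly = 0 ∧ orderOf x' = orderOf x ∧ orderOf t' ∣ orderOf t ∧
      ¬ ℓ ∣ orderOf t' := by
  have ht0 : orderOf t ≠ 0 := (orderOf_pos t).ne'
  refine ⟨t ^ ℓ ^ (orderOf t).factorization ℓ, x ^ ℓ ^ (orderOf t).factorization ℓ, ?_, ?_, orderOf_pow_dvd _, ?_⟩
  · rw [map_pow]
    exact root_pow hx _
  · exact Nat.Coprime.orderOf_pow ((Nat.Coprime.pow_left _ ((Nat.Prime.coprime_iff_not_dvd hℓ).2 h)).symm)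
  · rw [orderOf_pow_of_dvd (pow_ne_zero _ hℓ.ne_zero) (Nat.ordProj_dvd _ _)]
    exact Nat.not_dvd_ordCompl hℓ ht0

section

variable {K : Type} [Field K] [Fintype K] {n q : ℕ}

/-- the order of the image in `PSU` -/
theorem dvd_of_root (hF : Fintype.card K = q ^ 2) (hn : 3 ≤ n) {L : Type*} [Field L] [Algebra K L] (t : SU n K q) (x : L)
    (hx : aeval x (ρ n K q t).charpoly = 0) : orderOf x ∣ orderOf (pr n K q t) * Nat.gcd n (q + 1) := by
  apply orderOf_dvd_of_pow_eq_one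
  have h1 : t ^ orderOf (pr n K q t) ∈ Subgroup.center (SU n K q) := by
    have h2 : pr n K q (t ^ orderOf (pr n K q t)) = 1 := by rw [map_pow, pow_orderOf_eq_one]
    exact (QuotientGroup.eq_one_iff _).1 h2
  have h3 : t ^ (orderOf (pr n K q t) * Nat.gcd n (q + 1)) = 1 := by
    rw [pow_mul, ← Cfsg.Agent.S0279.result hF n hn]
    have h4 : (⟨_, h1⟩ : Subgroup.center (SU n K q)) ^ Nat.card (Subgroup.center (SU n K q)) = 1 := pow_card_eq_one'
    exact congrArg Subtype.val h4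
  have h5 := root_pow hx (orderOf (pr n K q t) * Nat.gcd n (q + 1))
  rw [← map_pow, h3, map_one, Matrix.charpoly_one, map_pow, map_sub, aeval_X, map_one] at h5
  exact sub_eq_zero.1 ((pow_eq_zero_iff (by rw [Fintype.card_fin]; omega)).1 h5)

theorem hasOrd_of_root (hF : Fintype.card K = q ^ 2) (hn : 3 ≤ n) {L : Type*} [Field L] [Algebra K L] (t : SU n K q) (x : L)
    (hx : aeval x (ρ n K q t).charpoly = 0) {k : ℕ} (hk : k * Nat.gcd n (q + 1) ∣ orderOf x) : HasOrd (PSU n K q) k := by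
  have h1 := hk.trans (dvd_of_root hF hn t x hx)
  have h2 : 0 < Nat.gcd n (q + 1) := Nat.gcd_pos_of_pos_left _ (by omega)
  have h3 : k ∣ orderOf (pr n K q t) := Nat.dvd_of_mul_dvd_mul_right h2 h1
  exact HasOrd.of_dvd ⟨_, rfl⟩ h3 (orderOf_pos _).ne'

end

section

variable {K : Type} [Field K] [Fintype K] {n r f : ℕ}

instance finite_aut : Finite (K ≃+* K) := Finite.of_injective (fun g => (g : K → K)) DFunLike.coe_injective

theorem card_W (hr : r.Prime) (hf : 1 ≤ f) (hF : Fintype.card K = (r ^ f) ^ 2) (hn : 3 ≤ n) :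
    Nat.card (Subgroup.center (SU n K (r ^ f)) × (K ≃+* K)) = Nat.gcd n (r ^ f + 1) * (2 * f) := by
  have : Fact r.Prime := ⟨hr⟩
  rw [Nat.card_prod, Cfsg.Agent.S0279.result hF n hn]
  congr 1
  refine Cfsg.Agent.Lib.FieldAutCard.card_ringAut (p := r) (by omega) ?_
  rw [hF, ← pow_mul, mul_comm f 2]

theorem mo_one (hr : r.Prime) (hf : 1 ≤ f) (hF : Fintype.card K = (r ^ f) ^ 2) (hn : 3 ≤ n)
    (h32 : ¬ (n = 3 ∧ r ^ f = 2)) {p : ℕ} (hp : p.Prime) (h : B1 n (r ^ f) f p) : MO (Reg p) p (PSU n K (r ^ f)) := by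
  obtain ⟨m, rfl⟩ : ∃ m, n = m + 1 := ⟨n - 1, by omega⟩
  obtain ⟨L, _, _, t, x, hx, hox⟩ := exists_one hF (m := m)
  have h1 : orderOf x = nn (r ^ f) (m + 1) := by
    rw [← nn_mul] at hox
    exact Nat.eq_of_mul_eq_mul_right (by omega) hox
  refine MO.of_root' hp (ctl hF hn h32) t x hx ?_
  rw [card_W hr hf hF hn, Fintype.card_fin, h1]
  exact h

theorem mo_two (hr : r.Prime) (hf : 1 ≤ f) (hF : Fintype.card K = (r ^ f) ^ 2) (hn : 3 ≤ n)
    (h32 : ¬ (n = 3 ∧ r ^ f = 2)) {p : ℕ} (hp : p.Prime) (h : B2 n (r ^ f) f p) : MO (Reg p) p (PSU n K (r ^ f)) := by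
  obtain ⟨m, rfl⟩ : ∃ m, n = m + 2 := ⟨n - 2, by omega⟩
  obtain ⟨L, _, _, t, x, hx, hox⟩ := exists_two hF (m := m)
  refine MO.of_root' hp (ctl hF hn h32) t x hx ?_
  rw [card_W hr hf hF hn, Fintype.card_fin, hox]
  exact h

end

section order

variable {K : Type*} [Field K] [Fintype K] {n q : ℕ}

theorem prod_eq (hq : 1 ≤ q) (n : ℕ) : (∏ i ∈ Finset.range (n + 1), (if Even i then q ^ (i + 1) + 1 else q ^ (i + 1) - 1)) =
    (q + 1) * ∏ j ∈ Finset.Icc 2 (n + 1), wn q j := by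
  induction n with
  | zero => simp only [_root_.zero_add, _root_.Finset.range_one, _root_.Finset.prod_singleton, _root_.Even.zero, ↓ _root_.reduceIte, _root_.pow_one, _root_.Order.lt_two_iff, _root_.Std.le_refl, _root_.Finset.Icc_eq_empty_of_lt, _root_.Finset.prod_empty, _root_.mul_one, _root_.Nat.add_left_cancel_iff]
  | succ n ih =>
    rw [Finset.prod_range_succ, ih, Finset.prod_Icc_succ_top (by omega : 2 ≤ n + 1 + 1), mul_assoc]
    congr 2
    split_ifs with h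
    · exact (wn_odd h.add_one).symm
    · exact (wn_even hq (Nat.not_even_iff_odd.1 h).add_one).symm

theorem card_psu (hF : Fintype.card K = q ^ 2) (hn : 2 ≤ n) :
    Nat.gcd n (q + 1) * Nat.card (PSU n K q) = q ^ (n * (n - 1) / 2) * ∏ j ∈ Finset.Icc 2 n, wn q j := by
  have hq := two_le hF
  have h := Cfsg.Agent.S0280.result hF n hn
  obtain ⟨m, rfl⟩ : ∃ m, n = m + 1 := ⟨n - 1, by omega⟩
  rw [prod_eq (by omega)] at h
  have h2 : (q + 1) * (Nat.gcd (m + 1) (q + 1) * Nat.card (PSU (m + 1) K q)) =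
      (q + 1) * (q ^ ((m + 1) * (m + 1 - 1) / 2) * ∏ j ∈ Finset.Icc 2 (m + 1), wn q j) := by
    rw [mul_left_comm, h]; ring
  exact Nat.eq_of_mul_eq_mul_left (by omega) h2

theorem dvd_or (hF : Fintype.card K = q ^ 2) (hn : 2 ≤ n) {p : ℕ} (hp : p.Prime) (h : p ^ 2 ∣ Nat.card (PSU n K q)) :
    p ∣ q ∨ p ^ 2 ∣ ∏ j ∈ Finset.Icc 2 n, wn q j := by
  by_cases hpq : p ∣ q
  · exact Or.inl hpq
  · right
    have h1 : p ^ 2 ∣ q ^ (n * (n - 1) / 2) * ∏ j ∈ Finset.Icc 2 n, wn q j := by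
      rw [← card_psu hF hn]
      exact h.mul_left _
    exact (Nat.Coprime.pow _ _ ((Nat.Prime.coprime_iff_not_dvd hp).2 hpq)).dvd_of_dvd_mul_left h1

end order

/-! ### the exceptional cases -/

section exceptional

variable {K : Type} [Field K] [Fintype K]

instance finite_psu (n q : ℕ) : Finite (PSU n K q) := Quotient.finite _

/-- `PSU_3(4)`, `p = 5` -/
theorem mo_345 (hF : Fintype.card K = 4 ^ 2) : MO (Reg 5) 5 (PSU 3 K 4) := by
  have h := card_psu hF (n := 3) (by norm_num)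
  have e2 : wn 4 2 = 15 := by decide
  have e3 : wn 4 3 = 65 := by decide
  rw [show Finset.Icc 2 3 = {2, 3} by decide] at h
  norm_num [e2, e3] at h
  have hcard : Nat.card (PSU 3 K 4) = 62400 := by omega
  have h4 : HasOrd (PSU 3 K 4) 4 := by
    have hF' : Fintype.card K = (2 ^ 2) ^ 2 := by rw [hF]; norm_num
    obtain ⟨P⟩ := (inferInstance : Nonempty (Sylow 2 (PSU 3 K (2 ^ 2))))
    have hT := Cfsg.Agent.BenderType.Inv.ty_psu (n := 2) (by norm_num) hF' P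
    have h1 : ∃ x : P, x * x ≠ 1 := by
      by_contra hcon
      push Not at hcon
      have h2 := hT.inv
      have h3 : Nat.card {x : P // x * x = 1} = Nat.card P := Nat.card_congr
        { toFun := fun x => x.1, invFun := fun x => ⟨x, hcon x⟩, left_inv := fun _ => rfl, right_inv := fun _ => rfl }
      have h4 := hT.card.symm.trans (h3.symm.trans h2)
      norm_num at h4
    obtain ⟨x, hx⟩ := h1
    obtain ⟨k, hk⟩ := P.isPGroup' x
    have h5 : orderOf x ∣ 2 ^ k := orderOf_dvd_of_pow_eq_one hk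
    obtain ⟨j, -, hj⟩ := (Nat.dvd_prime_pow Nat.prime_two).1 h5
    have h6 : 2 ≤ j := by
      by_contra hcon
      push Not at hcon
      apply hx
      rw [← pow_two, ← orderOf_dvd_iff_pow_eq_one, hj]
      exact (pow_dvd_pow 2 (by omega : j ≤ 1)).trans (by norm_num)
    have h7 : 4 ∣ 2 ^ j := by
      have := pow_dvd_pow 2 h6
      norm_num at this
      exact this
    exact (HasOrd.of_dvd (m := 2 ^ j) ⟨x, hj⟩ h7 (by positivity)).of_subgroup
  refine (MO.of_finset {1, 2, 3, 4, 13} ?_ ?_).mono (le_refl _) (by decide)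
  · simp only [Finset.mem_insert, Finset.mem_singleton, forall_eq_or_imp, forall_eq]
    exact ⟨hasOrd_one _, hasOrd_prime (by norm_num) (by rw [hcard]; norm_num),
      hasOrd_prime (by norm_num) (by rw [hcard]; norm_num), h4, hasOrd_prime (by norm_num) (by rw [hcard]; norm_num)⟩
  · simp only [Reg, _root_.Finset.mem_insert, _root_.Finset.mem_singleton, _root_.Set.mem_ofPred_eq, _root_.forall_eq_or_imp, _root_.Nat.dvd_one, _root_.OfNat.ofNat_ne_one, _root_.not_false_eq_true, _root_.Nat.reduceDvd, _root_.forall_eq, _root_.and_self]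

/-- `PSU_4(4)`, `p = 5` -/
theorem mo_445 (hF : Fintype.card K = 4 ^ 2) : MO (Reg 5) 5 (PSU 4 K 4) := by
  have h := card_psu hF (n := 4) (by norm_num)
  have e2 : wn 4 2 = 15 := by decide
  have e3 : wn 4 3 = 65 := by decide
  have e4 : wn 4 4 = 255 := by decide
  rw [show Finset.Icc 2 4 = {2, 3, 4} by decide] at h
  norm_num only [e2, e3, e4, _root_.one_mul, _root_.Finset.mem_insert, _root_.Finset.mem_singleton, _root_.or_self, _root_.not_false_eq_true, _root_.Finset.prod_insert, _root_.Finset.prod_singleton] at h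
  have hcard : Nat.card (PSU 4 K 4) = 1018368000 := by omega
  refine (MO.of_finset {1, 2, 3, 13, 17} ?_ ?_).mono (le_refl _) (by decide)
  · simp only [Finset.mem_insert, Finset.mem_singleton, forall_eq_or_imp, forall_eq]
    refine ⟨hasOrd_one _, ?_, ?_, ?_, ?_⟩ <;> exact hasOrd_prime (by norm_num) (by rw [hcard]; norm_num)
  · simp only [Reg, _root_.Finset.mem_insert, _root_.Finset.mem_singleton, _root_.Set.mem_ofPred_eq, _root_.forall_eq_or_imp, _root_.Nat.dvd_one, _root_.OfNat.ofNat_ne_one, _root_.not_false_eq_true, _root_.Nat.reduceDvd, _root_.forall_eq, _root_.and_self]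

/-- `PSU_5(4)`, `p = 5` -/
theorem mo_545 (hF : Fintype.card K = 4 ^ 2) : MO (Reg 5) 5 (PSU 5 K 4) := by
  have h := card_psu hF (n := 5) (by norm_num)
  have e2 : wn 4 2 = 15 := by decide
  have e3 : wn 4 3 = 65 := by decide
  have e4 : wn 4 4 = 255 := by decide
  have e5 : wn 4 5 = 1025 := by decide
  rw [show Finset.Icc 2 5 = {2, 3, 4, 5} by decide] at h
  norm_num only [e2, e3, e4, e5, _root_.Finset.mem_insert, _root_.Finset.mem_singleton, _root_.or_self, _root_.not_false_eq_true, _root_.Finset.prod_insert, _root_.Finset.prod_singleton] at h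
  have hcard : Nat.card (PSU 5 K 4) = 53443952640000 := by omega
  refine (MO.of_finset {1, 2, 3, 13, 17} ?_ ?_).mono (le_refl _) (by decide)
  · simp only [Finset.mem_insert, Finset.mem_singleton, forall_eq_or_imp, forall_eq]
    refine ⟨hasOrd_one _, ?_, ?_, ?_, ?_⟩ <;> exact hasOrd_prime (by norm_num) (by rw [hcard]; norm_num)
  · simp only [Reg, _root_.Finset.mem_insert, _root_.Finset.mem_singleton, _root_.Set.mem_ofPred_eq, _root_.forall_eq_or_imp, _root_.Nat.dvd_one, _root_.OfNat.ofNat_ne_one, _root_.not_false_eq_true, _root_.Nat.reduceDvd, _root_.forall_eq, _root_.and_self]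

/-- `PSU_9(2)`, `p = 5` -/
theorem mo_925 (hF : Fintype.card K = 2 ^ 2) : MO (Reg 5) 5 (PSU 9 K 2) := by
  have h := card_psu hF (n := 9) (by norm_num)
  have e2 : wn 2 2 = 3 := by decide
  have e3 : wn 2 3 = 9 := by decide
  have e4 : wn 2 4 = 15 := by decide
  have e5 : wn 2 5 = 33 := by decide
  have e6 : wn 2 6 = 63 := by decide
  have e7 : wn 2 7 = 129 := by decide
  have e8 : wn 2 8 = 255 := by decide
  have e9 : wn 2 9 = 513 := by decide
  rw [show Finset.Icc 2 9 = {2, 3, 4, 5, 6, 7, 8, 9} by decide] at h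
  norm_num only [e2, e3, e4, e5, e6, e7, e8, e9, _root_.Finset.mem_insert, _root_.Finset.mem_singleton, _root_.or_self, _root_.not_false_eq_true, _root_.Finset.prod_insert, _root_.Finset.prod_singleton] at h
  have key : ∀ ℓ : ℕ, ℓ.Prime → ℓ ≠ 3 → ℓ ∣ 3 * Nat.card (PSU 9 K 2) → ℓ ∣ Nat.card (PSU 9 K 2) := by
    intro ℓ hℓ h3 hd
    rcases (Nat.Prime.dvd_mul hℓ).1 hd with h4 | h4
    · exact absurd ((Nat.prime_dvd_prime_iff_eq hℓ Nat.prime_three).1 h4) h3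
    · exact h4
  have h3 : 3 ∣ Nat.card (PSU 9 K 2) := by omega
  refine (MO.of_finset {1, 2, 3, 7, 11} ?_ ?_).mono (le_refl _) (by decide)
  · simp only [Finset.mem_insert, Finset.mem_singleton, forall_eq_or_imp, forall_eq]
    refine ⟨hasOrd_one _, ?_, hasOrd_prime (by norm_num) h3, ?_, ?_⟩ <;>
      exact hasOrd_prime (by norm_num) (key _ (by norm_num) (by norm_num) (by rw [h]; norm_num))
  · simp only [Reg, _root_.Finset.mem_insert, _root_.Finset.mem_singleton, _root_.Set.mem_ofPred_eq, _root_.forall_eq_or_imp, _root_.Nat.dvd_one, _root_.OfNat.ofNat_ne_one, _root_.not_false_eq_true, _root_.Nat.reduceDvd, _root_.forall_eq, _root_.and_self]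

/-- `PSU_3(5)`, `p = 5` -/
theorem mo_355 (hF : Fintype.card K = 5 ^ 2) : MO (Reg 5) 5 (PSU 3 K 5) := by
  have h := card_psu hF (n := 3) (by norm_num)
  have e2 : wn 5 2 = 24 := by decide
  have e3 : wn 5 3 = 126 := by decide
  rw [show Finset.Icc 2 3 = {2, 3} by decide] at h
  norm_num only [e2, e3, _root_.Finset.mem_singleton, _root_.not_false_eq_true, _root_.Finset.prod_insert, _root_.Finset.prod_singleton] at h
  have hcard : Nat.card (PSU 3 K 5) = 126000 := by omega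
  have h4 : HasOrd (PSU 3 K 5) 4 := by
    obtain ⟨L, _, _, t, x, hx, hox⟩ := exists_two hF (m := 1)
    refine hasOrd_of_root hF (by norm_num) t x hx ?_
    rw [hox, e2]
    norm_num
  refine (MO.of_finset {1, 2, 3, 4, 7} ?_ ?_).mono (le_refl _) (by decide)
  · simp only [Finset.mem_insert, Finset.mem_singleton, forall_eq_or_imp, forall_eq]
    exact ⟨hasOrd_one _, hasOrd_prime (by norm_num) (by rw [hcard]; norm_num),
      hasOrd_prime (by norm_num) (by rw [hcard]; norm_num), h4, hasOrd_prime (by norm_num) (by rw [hcard]; norm_num)⟩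
  · simp only [Reg, _root_.Finset.mem_insert, _root_.Finset.mem_singleton, _root_.Set.mem_ofPred_eq, _root_.forall_eq_or_imp, _root_.Nat.dvd_one, _root_.OfNat.ofNat_ne_one, _root_.not_false_eq_true, _root_.Nat.reduceDvd, _root_.forall_eq, _root_.and_self]

/-- `PSU_3(11)`, `p = 11` -/
theorem mo_311 (hF : Fintype.card K = 11 ^ 2) : MO (Reg 11) 11 (PSU 3 K 11) := by
  have e2 : wn 11 2 = 120 := by decide
  have e3 : wn 11 3 = 1332 := by decide
  -- the orders `2, 4, 5, 8`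
  have hA : MO {2, 4, 5, 8} 4 (PSU 3 K 11) := by
    obtain ⟨L, _, _, t, x, hx, hox⟩ := exists_two hF (m := 1)
    have key : ∀ k, k * 3 ∣ 120 → HasOrd (PSU 3 K 11) k := by
      intro k hk
      refine hasOrd_of_root hF (by norm_num) t x hx ?_
      rw [hox, e2]
      exact hk
    refine (MO.of_finset {2, 4, 5, 8} ?_ ?_).mono (le_refl _) (by decide)
    · simp only [Finset.mem_insert, Finset.mem_singleton, forall_eq_or_imp, forall_eq]
      exact ⟨key _ (by norm_num), key _ (by norm_num), key _ (by norm_num), key _ (by norm_num)⟩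
    · simp
  have hB : MO {k | ¬ 2 ∣ k ∧ ¬ 5 ∣ k ∧ ¬ 11 ∣ k} 7 (PSU 3 K 11) := by
    obtain ⟨L, _, _, t, x, hx, hox⟩ := exists_one hF (m := 2)
    have hox : orderOf x = 111 := by
      rw [e3] at hox
      omega
    obtain ⟨t1, x1, h1, h2, h3, h4⟩ := remove_prime _ t x hx Nat.prime_two (by rw [hox]; norm_num)
    obtain ⟨t2, x2, i1, i2, i3, i4⟩ := remove_prime _ t1 x1 h1 Nat.prime_five (by rw [h2, hox]; norm_num)
    obtain ⟨t3, x3, j1, j2, j3, j4⟩ := remove_prime _ t2 x2 i1 Nat.prime_eleven (by rw [i2, h2, hox]; norm_num)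
    rw [i2, h2, hox] at j2
    have hW := card_W (K := K) (n := 3) (r := 11) (f := 1) (by norm_num) le_rfl (by rw [hF]; norm_num) le_rfl
    refine MO.of_exps (ctl hF le_rfl (by norm_num)) t3 x3 j1 (Finset.range 111) ?_ ?_
    · intro k hk
      rw [j2]
      refine ⟨Finset.mem_range.1 hk, ?_⟩
      have h5 : orderOf (pr 3 K 11 (t3 ^ k)) ∣ orderOf t3 := (orderOf_map_dvd _ _).trans (orderOf_pow_dvd k)
      exact ⟨fun hd => h4 ((hd.trans h5).trans (j3.trans i3)), fun hd => i4 ((hd.trans h5).trans j3),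
        fun hd => j4 (hd.trans h5)⟩
    · rw [pow_one] at hW
      rw [hW, Fintype.card_fin, Finset.card_range]
      norm_num
  refine (MO.add ?_ hA hB).mono ?_ le_rfl
  · rw [Set.disjoint_left]
    rintro k hk ⟨h1, h2, h3⟩
    simp only [Set.mem_insert_iff, Set.mem_singleton_iff] at hk
    omega
  · rintro k (hk | ⟨h1, h2, h3⟩)
    · simp only [Set.mem_insert_iff, Set.mem_singleton_iff] at hk
      show ¬ 11 ∣ k
      omega
    · exact h3

/-- `PSU_3(17)`, `p = 17` -/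
theorem mo_317 (hF : Fintype.card K = 17 ^ 2) : MO (Reg 17) 17 (PSU 3 K 17) := by
  have e2 : wn 17 2 = 288 := by decide
  have e3 : wn 17 3 = 4914 := by decide
  have hA : MO {2} 1 (PSU 3 K 17) := by
    obtain ⟨L, _, _, t, x, hx, hox⟩ := exists_two hF (m := 1)
    refine MO.single (k := 2) (hasOrd_of_root hF (by norm_num) t x hx ?_) rfl
    rw [hox, e2]
    norm_num
  have hB : MO {k | ¬ 2 ∣ k ∧ ¬ 17 ∣ k} 16 (PSU 3 K 17) := by
    obtain ⟨L, _, _, t, x, hx, hox⟩ := exists_one hF (m := 2)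
    have hox : orderOf x = 273 := by
      rw [e3] at hox
      omega
    obtain ⟨t1, x1, h1, h2, h3, h4⟩ := remove_prime _ t x hx Nat.prime_two (by rw [hox]; norm_num)
    obtain ⟨t2, x2, i1, i2, i3, i4⟩ := remove_prime _ t1 x1 h1 (ℓ := 17) (by norm_num) (by rw [h2, hox]; norm_num)
    rw [h2, hox] at i2
    have hW := card_W (K := K) (n := 3) (r := 17) (f := 1) (by norm_num) le_rfl (by rw [hF]; norm_num) le_rfl
    refine MO.of_exps (ctl hF le_rfl (by norm_num)) t2 x2 i1 (Finset.range 273) ?_ ?_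
    · intro k hk
      rw [i2]
      refine ⟨Finset.mem_range.1 hk, ?_⟩
      have h5 : orderOf (pr 3 K 17 (t2 ^ k)) ∣ orderOf t2 := (orderOf_map_dvd _ _).trans (orderOf_pow_dvd k)
      exact ⟨fun hd => h4 ((hd.trans h5).trans i3), fun hd => i4 (hd.trans h5)⟩
    · rw [pow_one] at hW
      rw [hW, Fintype.card_fin, Finset.card_range]
      norm_num
  refine (MO.add ?_ hA hB).mono ?_ le_rfl
  · rw [Set.disjoint_left]
    rintro k hk ⟨h1, h2⟩
    rw [Set.mem_singleton_iff] at hk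
    omega
  · rintro k (hk | ⟨h1, h2⟩)
    · rw [Set.mem_singleton_iff] at hk
      show ¬ 17 ∣ k
      omega
    · exact h2

end exceptional

/-- **the unitary row** -/
theorem mo_psu {K : Type} [Field K] [Fintype K] {n q : ℕ} (hF : Fintype.card K = q ^ 2) (hn : 3 ≤ n)
    (h32 : ¬ (n = 3 ∧ q = 2)) {p : ℕ} (hp : p.Prime) (hp5 : 5 ≤ p) (hd : p ^ 2 ∣ Nat.card (PSU n K q))
    (hex : ¬ (n = 3 ∧ q = 16 ∧ p = 17)) : MO (Reg p) p (PSU n K q) := by
  obtain ⟨r, f, hr, hf, rfl⟩ : ∃ r f : ℕ, r.Prime ∧ 1 ≤ f ∧ q = r ^ f := by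
    obtain ⟨r, hrc⟩ := CharP.exists K
    obtain ⟨k, hr, hk⟩ := FiniteField.card K r
    have h1 : q ∣ r ^ (k : ℕ) := by rw [← hk, hF]; exact dvd_pow_self q two_ne_zero
    obtain ⟨f, -, hf⟩ := (Nat.dvd_prime_pow hr).1 h1
    refine ⟨r, f, hr, Nat.one_le_iff_ne_zero.2 ?_, hf⟩
    rintro rfl
    have := two_le hF
    rw [pow_zero] at hf
    omega
  rcases num hr hf hn h32 hp hp5 (dvd_or hF (by omega) hp hd) with h | h | h
  · generalize r ^ f = q at *
    simp only [exc, Bool.or_eq_true, Bool.and_eq_true, beq_iff_eq] at h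
    rcases h with ((((((⟨⟨rfl, rfl⟩, rfl⟩ | ⟨⟨rfl, rfl⟩, rfl⟩) | ⟨⟨rfl, rfl⟩, rfl⟩) | ⟨⟨rfl, rfl⟩, rfl⟩) |
      ⟨⟨rfl, rfl⟩, rfl⟩) | ⟨⟨rfl, rfl⟩, rfl⟩) | ⟨⟨rfl, rfl⟩, rfl⟩) | ⟨⟨rfl, rfl⟩, rfl⟩
    · exact mo_925 hF
    · exact mo_345 hF
    · exact mo_445 hF
    · exact mo_545 hF
    · exact mo_355 hF
    · exact mo_311 hF
    · exact absurd ⟨rfl, rfl, rfl⟩ hex
    · exact mo_317 hF
  · exact mo_one hr hf hF hn h32 hp h
  · exact mo_two hr hf hF hn h32 hp h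

/-- **the unitary row** in terms of `Row` -/
theorem row_psu {K : Type} [Field K] [Fintype K] {n q : ℕ} (hF : Fintype.card K = q ^ 2) (hn : 3 ≤ n)
    (h32 : ¬ (n = 3 ∧ q = 2)) (h316 : ¬ (n = 3 ∧ q = 16)) : Row (PSU n K q) := fun _ hp hp5 hd =>
  mo_psu hF hn h32 hp hp5 hd fun h => h316 ⟨h.1, h.2.1⟩

end Cfsg.Agent.H700.PsuRow
end

private theorem dce_d61b961e4b18 : _root_.True := by
  try have : _root_.True := by simp only [_root_.Cfsg.Agent.H700.PsuRow.prodw.eq_def]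
  try have : _root_.True := by simp only [_root_.Cfsg.Agent.H93.PReg.Num.NN.eq_def]
  try have : _root_.True := by simp only [_root_.Cfsg.Agent.H93.PReg.Num.NN.eq_1]
  try have : _root_.True := by simp only [_root_.Cfsg.Agent.H93.PReg.Reg.eq_1]
  try have : _root_.True := by simp only [_root_.Cfsg.Agent.H93.PReg.Num.excL.eq_1]
  try have : _root_.True := by simp only [_root_.Cfsg.Agent.H93.PReg.Num.NN.eq_2]
  try have : _root_.True := by simp only [_root_.Cfsg.Agent.H700.PsuRow.prodw.eq_2]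
  try have : _root_.True := by simp only [_root_.Cfsg.Agent.H700.PsuRow.prodw.eq_1]
  try have : _root_.True := by simp only [_root_.Cfsg.Agent.H700.PsuRow.exc.eq_1]
  exact _root_.True.intro
end

-- part: H93/PReg/OrthRow
section
prune_inst 0x215030645880000000008016122002000800003009000000c02003020108c020800228400a0001021a20800010000008000000b00040000004000400000001208880560453c1010ca00007800080000000000000000000000000008000000000000000000
set_option linter.all false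
open scoped Cfsg.Agent.FastGrp

-- part: H93/PReg/HasOrdKer
section
/-!
# Element orders in quotients, combining counts (for S4883)
-/

set_option autoImplicit false

namespace Cfsg.Agent.H93.PReg

open Cfsg.Agent.H92.KTools Polynomial

/-- orders in a quotient by a kernel of exponent `d` -/
theorem hasOrd_of_ker {S H : Type*} [Group S] [Group H] [Finite S] (π : H →* S) {d m : ℕ} (t : H)
    (hker : ∀ g : H, π g = 1 → g ^ d = 1) (h0 : orderOf t ≠ 0)
    (h : m ∣ orderOf t / Nat.gcd (orderOf t) d) : HasOrd S m := by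
  have h4 : orderOf t ∣ orderOf (π t) * d := by
    apply orderOf_dvd_of_pow_eq_one
    rw [pow_mul]
    apply hker
    rw [map_pow, pow_orderOf_eq_one]
  set g := Nat.gcd (orderOf t) d
  have hg0 : 0 < g := Nat.gcd_pos_of_pos_left _ (by omega)
  have h5 : orderOf t / g ∣ orderOf (π t) := by
    have h6 : orderOf t / g ∣ orderOf (π t) * (d / g) := by
      apply Nat.dvd_of_mul_dvd_mul_right hg0
      rw [mul_assoc, Nat.div_mul_cancel (Nat.gcd_dvd_left _ _), Nat.div_mul_cancel (Nat.gcd_dvd_right _ _)]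
      exact h4
    exact (Nat.coprime_div_gcd_div_gcd hg0).dvd_of_dvd_mul_right h6
  exact HasOrd.of_dvd ⟨π t, rfl⟩ (h.trans h5) (orderOf_pos _).ne'

/-- a prime `s` and some further orders -/
theorem MO.finish' {S : Type*} [Group S] {p s a : ℕ} (L : Finset ℕ) (hL : ∀ k ∈ L, HasOrd S k)
    (hLs : ∀ k ∈ L, ¬ s ∣ k ∧ ¬ p ∣ k) (hMO : MO {m | s ∣ m ∧ ¬ p ∣ m} a S) (h : p ≤ a + L.card) :
    MO (Reg p) p S := by
  have h1 := MO.of_finset (A := {m | ¬ s ∣ m ∧ ¬ p ∣ m}) L hL hLs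
  have h2 := MO.add (A := {m | s ∣ m ∧ ¬ p ∣ m}) (B := {m | ¬ s ∣ m ∧ ¬ p ∣ m})
    (Set.disjoint_left.2 fun x hx hx' => hx'.1 hx.1) hMO h1
  refine h2.mono ?_ h
  rintro x (hx | hx)
  · exact hx.2
  · exact hx.2

theorem MO.of_orders' {S : Type*} [Group S] {p : ℕ} (L : Finset ℕ) (hL : ∀ k ∈ L, HasOrd S k)
    (hLs : ∀ k ∈ L, ¬ p ∣ k) (h : p ≤ L.card) : MO (Reg p) p S :=
  (MO.of_finset (A := Reg p) L hL hLs).mono subset_rfl h

end Cfsg.Agent.H93.PReg
end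

-- part: H93/PReg/OrthGen
section
/-!
# Orthogonal groups: counting in `POmega` from isometries (for S4883)
-/

set_option autoImplicit false
set_option linter.unusedSectionVars false

namespace Cfsg.Agent.H93.PReg.Orth

open QuadraticMap Cfsg.Agent.LieClassical.OrthCore Cfsg.Agent.LieClassical.OrthForms
open Polynomial Matrix Cfsg.Agent.H93.PReg Cfsg Cfsg.Agent.H92.KTools
open Cfsg.Agent.H182.Sign Cfsg.Agent.H182.Orth

variable {ι : Type} [Fintype ι] [DecidableEq ι] {F : Type} [Field F] [Fintype F]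

/-- elements of `Ω` from isometries -/
theorem exists_omega (Q : QuadraticForm F (ι → F)) (hQ : Nondeg Q) (h5 : 5 ≤ Fintype.card ι) {V : Type*}
    [AddCommGroup V] [Module F V] (Q' : V → F) (e : (ι → F) ≃ₗ[F] V) (c : F) (hc : c ≠ 0)
    (he : ∀ u, Q' (e u) = c * Q u) (T : Module.End F V) (hT : ∀ v, Q' (T v) = Q' v) :
    ∃ z : Omega F ⇑Q, (Matrix.toLinAlgEquiv' (ρ ⇑Q z) : Module.End F (ι → F)) = e.symm.conj (T ^ 2) := by
  let M₀ : Matrix ι ι F := LinearMap.toMatrixAlgEquiv' (e.symm.conj T)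
  have hφ : ∀ x : ι → F, M₀.mulVec x = e.symm (T (e x)) := by
    intro x
    show (LinearMap.toMatrix' (e.symm.conj T)).mulVec x = _
    rw [LinearMap.toMatrix'_mulVec]
    rfl
  have hM : ∀ x, Q (M₀.mulVec x) = Q x := by
    intro x
    apply mul_left_cancel₀ hc
    rw [← he, ← he, hφ, e.apply_symm_apply, hT]
  have hinj : ∀ x, M₀.mulVec x = 0 → x = 0 := by
    intro x hx
    apply hQ
    intro y
    have h1 : polar Q (M₀.mulVec x) (M₀.mulVec y) = polar Q x y := by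
      rw [polar, polar, ← Matrix.mulVec_add, hM, hM, hM]
    rw [← h1, hx]
    simp [polar]
  have hunit : IsUnit M₀ := by
    rw [← Matrix.mulVec_injective_iff_isUnit]
    intro x y hxy
    have h1 : M₀.mulVec (x - y) = 0 := by
      rw [Matrix.mulVec_sub]
      exact sub_eq_zero.2 hxy
    exact sub_eq_zero.1 (hinj _ h1)
  obtain ⟨M, hM'⟩ := hunit
  have hmem : M ∈ isometryGroup F ⇑Q := by
    rw [Cfsg.Agent.LieClassical.OrthFinite.mem_isometryGroup_iff]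
    intro x
    rw [hM']
    exact hM x
  let g : isometryGroup F ⇑Q := ⟨M, hmem⟩
  refine ⟨⟨g * g, H377.mul_self_mem_Omega Q hQ h5 g⟩, ?_⟩
  have h1 : ρ ⇑Q ⟨g * g, H377.mul_self_mem_Omega Q hQ h5 g⟩ = M₀ * M₀ := by
    rw [← hM']
    rfl
  rw [h1, map_mul]
  have h2 : (Matrix.toLinAlgEquiv' M₀ : Module.End F (ι → F)) = e.symm.conj T :=
    Matrix.toLinAlgEquiv'_toMatrixAlgEquiv' _
  rw [h2, pow_two]
  exact (map_mul (LinearEquiv.conjRingEquiv e.symm) T T).symm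

theorem hasEig_conj {V W L : Type*} [AddCommGroup V] [Module F V] [AddCommGroup W] [Module F W] [Field L] [Algebra F L]
    (e : V ≃ₗ[F] W) {g : Module.End F V} {y : L} (h : HasEig g y) : HasEig (e.conj g) y := by
  obtain ⟨j, hj, h1⟩ := h
  refine ⟨e.toLinearMap.comp j, e.injective.comp hj, fun z => ?_⟩
  show e (g (e.symm (e (j z)))) = e (j (y * z))
  rw [e.symm_apply_apply, h1]

theorem orderOf_sq_eq {L : Type*} [Field L] (y : L) (N : ℕ) (h : orderOf y = N) :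
    orderOf (y ^ 2) = N / Nat.gcd N 2 := by
  rw [orderOf_pow' y two_ne_zero, h]

/-- **counting**, `y` of order `N`, `M = N / gcd (N, 2)` -/
theorem MO_of_isom {Q : QuadraticForm F (ι → F)} (hQ : Nondeg Q) (h5 : 5 ≤ Fintype.card ι) {W : Type} [Finite W]
    (hC : Ctl (ρ ⇑Q) (pr ⇑Q) W) {V : Type*} [AddCommGroup V] [Module F V] (Q' : V → F) (e : (ι → F) ≃ₗ[F] V) (c : F)
    (hc : c ≠ 0) (he : ∀ u, Q' (e u) = c * Q u) (T : Module.End F V) (hT : ∀ v, Q' (T v) = Q' v)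
    {L : Type*} [Field L] [Algebra F L] {y : L} (hy : HasEig T y) {p n N B : ℕ} (hp : p.Prime)
    (hN : orderOf (y ^ 2) = N) (hB : Fintype.card ι * Nat.card W ≤ B)
    (h : (n - 1) * B * p ^ N.factorization p < N) : MO (Reg p) n (POmega F ⇑Q) := by
  obtain ⟨z, hz⟩ := exists_omega Q hQ h5 Q' e c hc he T hT
  have hroot : aeval (y ^ 2) (ρ ⇑Q z).charpoly = 0 := by
    apply root_of_eig
    rw [hz]
    exact hasEig_conj e.symm (hy.pow 2)
  refine MO.of_root' hp hC z (y ^ 2) hroot ?_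
  rw [hN]
  refine lt_of_le_of_lt ?_ h
  exact Nat.mul_le_mul_right _ (Nat.mul_le_mul_left _ hB)

/-- the kernel -/
theorem ker_sq {Q : QuadraticForm F (ι → F)} (hQ : Nondeg Q) (h5 : 5 ≤ Fintype.card ι) (g : Omega F ⇑Q)
    (h : pr ⇑Q g = 1) : g ^ Nat.gcd 2 (Fintype.card F - 1) = 1 := by
  have hs : ∃ u : ι → F, u ≠ 0 ∧ Q u = 0 := by
    obtain ⟨w, -, h1, h2⟩ := Cfsg.Agent.LieClassical.OrthFinite.exists_sing_mem (Q := Q) (⊤ : Submodule F (ι → F)) (by
      rw [finrank_top, Module.finrank_fintype_fun_eq_card]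
      omega)
    exact ⟨w, h1, h2⟩
  have hnd : (polarBilin Q).Nondegenerate := LieClassical.OmegaReindex.nondegenerate_of_left Q hQ
  have h1 : g ∈ Subgroup.center (Omega F ⇑Q) := (QuotientGroup.eq_one_iff g).1 h
  have hinj : Function.Injective (ρ ⇑Q) := by
    intro a b hab
    exact Subtype.ext (Subtype.ext (Units.ext hab))
  rcases (LieClassical.OrthCenter.mem_center_omega_iff hnd (by omega) hs g).1 h1 with h2 | h2
  · have h3 : g = 1 := hinj (by rw [map_one]; exact h2)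
    rw [h3, one_pow]
  · have h2' : ρ ⇑Q g = -1 := h2
    apply hinj
    rw [map_pow, map_one, h2']
    rcases Nat.even_or_odd (Fintype.card F) with he | ho
    · have hF2 : (2 : F) = 0 := by
        have : CharP F 2 := by
          have h4 : ringChar F = 2 := (FiniteField.even_card_iff_char_two (F := F)).2 (Nat.even_iff.1 he)
          exact h4 ▸ ringChar.charP F
        exact CharTwo.two_eq_zero
      have h4 : (-1 : Matrix ι ι F) = 1 := by
        have h8 : (-1 : F) = 1 := by linear_combination -hF2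
        rw [← one_smul F (1 : Matrix ι ι F), ← neg_smul, h8]
      rw [h4, one_pow]
    · have h5 : Nat.gcd 2 (Fintype.card F - 1) = 2 := by
        apply Nat.gcd_eq_left
        obtain ⟨k, hk⟩ := ho
        exact ⟨k, by omega⟩
      rw [h5]
      simp only [_root_.even_two, _root_.Even.neg_pow, _root_.one_pow]

end Cfsg.Agent.H93.PReg.Orth
end

-- part: H93/PReg/NumPsp
section
/-!
# Arithmetic for `PSp_2m(q)` (for S4883)
-/

set_option autoImplicit false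

namespace Cfsg.Agent.H93.PReg.Num

open Finset

/-- the index of the semilinear automorphisms -/
def oo (m r : ℕ) : ℕ := if m = 2 ∧ r = 2 then 2 else 1

/-- the constant `K = 2 m · d · f · o` -/
def KS (m q f r : ℕ) : ℕ := (m + m) * ((Nat.gcd 2 (q - 1) * f) * oo m r)

theorem not_dvd_both {p N : ℕ} (hp : p.Prime) (h5 : 5 ≤ p) (h : p ∣ N + 1) : ¬ p ∣ N - 1 := by
  intro h1
  have h2 := Nat.dvd_sub h h1
  have h3 : N + 1 - (N - 1) ≤ 2 := by omega
  have h4 : 0 < N + 1 - (N - 1) := by omega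
  have := Nat.le_of_dvd h4 h2
  omega

theorem sq_sub_eq (Q : ℕ) : Q ^ 2 - 1 = (Q + 1) * (Q - 1) := by
  have := Nat.sq_sub_sq Q 1
  simpa only [_root_.one_pow] using this

/-- a divisor of `Q ^ 2 - 1` -/
theorem le_of_dvd_sq_sub {p Q : ℕ} (hp : p.Prime) (hQ : 2 ≤ Q) (h : p ∣ Q ^ 2 - 1) : p ≤ Q + 1 := by
  rw [sq_sub_eq] at h
  rcases hp.dvd_mul.1 h with h | h
  · exact Nat.le_of_dvd (by omega) h
  · have := Nat.le_of_dvd (by omega) h
    omega

theorem sq_le_of_dvd_sq_sub {p Q : ℕ} (hp : p.Prime) (h5 : 5 ≤ p) (hQ : 2 ≤ Q) (h : p ^ 2 ∣ Q ^ 2 - 1) :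
    p ^ 2 ≤ Q + 1 := by
  rw [sq_sub_eq] at h
  by_cases h1 : p ∣ Q + 1
  · have h2 := not_dvd_both hp h5 h1
    have h3 : Nat.Coprime (p ^ 2) (Q - 1) := Nat.Coprime.pow_left _ ((Nat.Prime.coprime_iff_not_dvd hp).2 h2)
    exact Nat.le_of_dvd (by omega) (h3.dvd_of_dvd_mul_right h)
  · have h3 : Nat.Coprime (p ^ 2) (Q + 1) := Nat.Coprime.pow_left _ ((Nat.Prime.coprime_iff_not_dvd hp).2 h1)
    have := Nat.le_of_dvd (by omega) (h3.dvd_of_dvd_mul_left h)
    omega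

theorem sq_pred_le {p X : ℕ} (hp : 1 ≤ p) (h : p ^ 2 ≤ X + 1) : (p - 1) ^ 2 ≤ X := by
  obtain ⟨a, rfl⟩ : ∃ a, p = a + 1 := ⟨p - 1, by omega⟩
  rw [Nat.add_sub_cancel]
  linarith only [h, _root_.Nat.cast_nonneg (α := ℤ) (a)]

/-- **the bound for `p`** in a product of `q ^ (2 i) - 1`, `1 ≤ i ≤ m` -/
theorem psp_sq_le {p q m : ℕ} (hp : p.Prime) (h5 : 5 ≤ p) (hq : 2 ≤ q)
    (h : p ^ 2 ∣ ∏ i ∈ range m, (q ^ (2 * (i + 1)) - 1)) : (p - 1) ^ 2 ≤ q ^ m := by
  have hmono : ∀ i, i ≤ m → q ^ i ≤ q ^ m := fun i hi => Nat.pow_le_pow_right (by omega) hi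
  rcases sq_dvd_prod hp _ _ h with ⟨i, hi, hpi⟩ | ⟨i, hi, j, hj, hij, hpi, hpj⟩
  · rw [mem_range] at hi
    rw [mul_comm 2, pow_mul] at hpi
    have h1 : q ^ 1 ≤ q ^ (i + 1) := Nat.pow_le_pow_right (by omega) (by omega)
    have h2 := sq_le_of_dvd_sq_sub hp h5 (by rw [pow_one] at h1; omega) hpi
    have h3 := hmono (i + 1) (by omega)
    exact sq_pred_le hp.pos (by omega)
  · rw [mem_range] at hi hj
    have hg := dvd_gcd (by omega) hpi hpj
    rw [Nat.gcd_mul_left] at hg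
    have he0 : 0 < Nat.gcd (i + 1) (j + 1) := Nat.gcd_pos_of_pos_left _ (by omega)
    have h2e : 2 * Nat.gcd (i + 1) (j + 1) ≤ m := by
      obtain ⟨u, hu⟩ := Nat.gcd_dvd_left (i + 1) (j + 1)
      obtain ⟨v, hv⟩ := Nat.gcd_dvd_right (i + 1) (j + 1)
      have hu0 : u ≠ 0 := by rintro rfl; omega
      have hv0 : v ≠ 0 := by rintro rfl; omega
      have huv : u ≠ v := by
        intro huv
        have : i + 1 = j + 1 := hu.trans ((congrArg (Nat.gcd (i + 1) (j + 1) * ·) huv).trans hv.symm)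
        omega
      rcases lt_or_gt_of_ne huv with hlt | hlt
      · have : 2 ≤ v := by omega
        have := Nat.mul_le_mul_left (Nat.gcd (i + 1) (j + 1)) this
        omega
      · have : 2 ≤ u := by omega
        have := Nat.mul_le_mul_left (Nat.gcd (i + 1) (j + 1)) this
        omega
    set e := Nat.gcd (i + 1) (j + 1)
    rw [mul_comm 2, pow_mul] at hg
    have h1 : q ^ 1 ≤ q ^ e := Nat.pow_le_pow_right (by omega) he0
    have h2 := le_of_dvd_sq_sub hp (by rw [pow_one] at h1; omega) hg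
    calc (p - 1) ^ 2 ≤ (q ^ e) ^ 2 := Nat.pow_le_pow_left (by omega) 2
      _ = q ^ (2 * e) := by rw [← pow_mul, mul_comm]
      _ ≤ q ^ m := hmono _ h2e

theorem sq_le_of_dvd {p q m : ℕ} (hq : 2 ≤ q) (hm : 2 ≤ m) (h : p ∣ q) : (p - 1) ^ 2 ≤ q ^ m := by
  have h1 : p ≤ q := Nat.le_of_dvd (by omega) h
  exact (Nat.pow_le_pow_left (by omega) 2).trans (Nat.pow_le_pow_right (by omega) hm)

theorem key_sp {a K T : ℕ} (ha : a ^ 2 ≤ T) (hK : K ^ 2 + 2 ≤ T) : a * K < T - 1 := by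
  by_contra h
  push Not at h
  have h1 : (T - 1) ^ 2 ≤ (a * K) ^ 2 := Nat.pow_le_pow_left h 2
  have h2 : (a * K) ^ 2 ≤ T * (T - 2) := by
    calc (a * K) ^ 2 = a ^ 2 * K ^ 2 := by ring
      _ ≤ T * K ^ 2 := Nat.mul_le_mul_right _ ha
      _ ≤ T * (T - 2) := Nat.mul_le_mul_left _ (by omega)
  obtain ⟨u, rfl⟩ : ∃ u, T = u + 2 := ⟨T - 2, by omega⟩
  have h3 : (u + 2 - 1) ^ 2 = (u + 2) * (u + 2 - 2) + 1 := by
    rw [show u + 2 - 1 = u + 1 by omega, show u + 2 - 2 = u by omega]; ring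
  omega

/-- the inequality for one of the two tori -/
def IneqS (p K Q : ℕ) : Prop := (¬ p ∣ Q + 1 ∧ (p - 1) * K < Q + 1) ∨ (¬ p ∣ Q - 1 ∧ (p - 1) * K < Q - 1)

theorem ineqS_of_lt {p K Q : ℕ} (hp : p.Prime) (h5 : 5 ≤ p) (h : (p - 1) * K < Q - 1) : IneqS p K Q := by
  by_cases h1 : p ∣ Q + 1
  · exact Or.inr ⟨not_dvd_both hp h5 h1, h⟩
  · exact Or.inl ⟨h1, by omega⟩

/-! ### The finite check -/

theorem pow_two_big (m : ℕ) (hm : 12 ≤ m) : 16 * m ^ 2 + 2 ≤ 2 ^ m := by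
  induction m, hm using Nat.le_induction with
  | base => norm_num
  | succ n hn ih =>
    rw [pow_succ 2 n]
    nlinarith

theorem f_le (f : ℕ) (hf : 1 ≤ f) : f ≤ 2 ^ (f - 1) := by
  obtain ⟨g, rfl⟩ : ∃ g, f = g + 1 := ⟨f - 1, by omega⟩
  exact Nat.lt_pow_self (by norm_num)

theorem bigS_m {m q f : ℕ} (hm : 12 ≤ m) (hf : 1 ≤ f) (hq : 2 ^ f ≤ q) : 16 * m ^ 2 * f ^ 2 + 2 ≤ q ^ m := by
  have h1 : (2 ^ f) ^ m = 2 ^ m * (2 ^ (f - 1)) ^ m := by
    rw [← pow_mul, ← pow_mul, ← pow_add]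
    congr 1
    obtain ⟨g, rfl⟩ : ∃ g, f = g + 1 := ⟨f - 1, by omega⟩
    rw [Nat.add_sub_cancel]
    ring
  have h2 : f ^ 2 ≤ (2 ^ (f - 1)) ^ m :=
    (Nat.pow_le_pow_left (f_le f hf) 2).trans (Nat.pow_le_pow_right (Nat.pow_pos (by norm_num)) (by omega))
  have h3 := pow_two_big m hm
  have h4 : 1 ≤ f ^ 2 := Nat.one_le_pow _ _ hf
  calc 16 * m ^ 2 * f ^ 2 + 2 ≤ (16 * m ^ 2 + 2) * f ^ 2 := by linarith only [h4]
    _ ≤ 2 ^ m * (2 ^ (f - 1)) ^ m := Nat.mul_le_mul h3 h2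
    _ = (2 ^ f) ^ m := h1.symm
    _ ≤ q ^ m := Nat.pow_le_pow_left hq m

theorem bigS_base {m q f : ℕ} (hm : 2 ≤ m) (h4 : 4 ≤ q) (h : 64 * f ^ 2 + 2 ≤ q ^ 2) :
    16 * m ^ 2 * f ^ 2 + 2 ≤ q ^ m := by
  induction m, hm using Nat.le_induction with
  | base => simpa using h
  | succ n hn ih =>
    rw [pow_succ q n]
    have h1 : (n + 1) ^ 2 ≤ 4 * n ^ 2 := by nlinarith only [hn]
    have h2 := Nat.mul_le_mul_right (f ^ 2) (Nat.mul_le_mul_left 16 h1)
    calc 16 * (n + 1) ^ 2 * f ^ 2 + 2 ≤ 16 * (4 * n ^ 2) * f ^ 2 + 2 := by omega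
      _ ≤ (16 * n ^ 2 * f ^ 2 + 2) * 4 := by
        have : 16 * (4 * n ^ 2) * f ^ 2 = 16 * n ^ 2 * f ^ 2 * 4 := by ring
        omega
      _ ≤ q ^ n * q := Nat.mul_le_mul ih h4

theorem f_boundS (f : ℕ) (hf : 6 ≤ f) : 64 * f ^ 2 + 2 ≤ (2 ^ f) ^ 2 := by
  induction f, hf using Nat.le_induction with
  | base => norm_num
  | succ n hn ih =>
    have h1 : (2 ^ (n + 1)) ^ 2 = 4 * (2 ^ n) ^ 2 := by ring
    rw [h1]
    nlinarith only [hn, ih]

theorem KS_sq_le {m q f r : ℕ} (hm : 2 ≤ m) (hq : r = 2 → Nat.gcd 2 (q - 1) = 1) :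
    KS m q f r ^ 2 ≤ 16 * m ^ 2 * f ^ 2 := by
  have h1 : Nat.gcd 2 (q - 1) * oo m r ≤ 2 := by
    unfold oo
    split_ifs with h
    · rw [hq h.2]
    · rw [mul_one]
      exact Nat.gcd_le_left _ (by norm_num)
  have h2 : KS m q f r = (2 * m * f) * (Nat.gcd 2 (q - 1) * oo m r) := by
    unfold KS; ring
  rw [h2]
  calc ((2 * m * f) * (Nat.gcd 2 (q - 1) * oo m r)) ^ 2 ≤ ((2 * m * f) * 2) ^ 2 :=
        Nat.pow_le_pow_left (Nat.mul_le_mul_left _ h1) 2
    _ = 16 * m ^ 2 * f ^ 2 := by ring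

/-- the small cases `(m, r, f)` -/
def smallS : List (ℕ × ℕ × ℕ) :=
  [(2,2,1),(2,2,2),(2,2,3),(2,2,4),(2,2,5),(2,3,1),(2,3,2),(2,5,1),(2,7,1),(3,2,1),(3,2,2),(3,3,1),(3,5,1),
    (4,2,1),(4,2,2),(4,3,1),(5,2,1),(5,3,1),(6,2,1),(7,2,1),(8,2,1)]

theorem finite_checkS : ((List.range 10).all fun i => (List.range 9).all fun j => (List.range 5).all fun k =>
    !isP (j + 2) || decide (KS (i + 2) ((j + 2) ^ (k + 1)) (k + 1) (j + 2) ^ 2 + 2 ≤ ((j + 2) ^ (k + 1)) ^ (i + 2)) ||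
      smallS.contains (i + 2, j + 2, k + 1)) = true := by
  decide +kernel

/-- **the general inequality holds up to the small cases** -/
theorem big_or_smallS {m r f : ℕ} (hm : 2 ≤ m) (hr : r.Prime) (hf : 1 ≤ f) :
    KS m (r ^ f) f r ^ 2 + 2 ≤ (r ^ f) ^ m ∨ (m, r, f) ∈ smallS := by
  have hq2 : r = 2 → Nat.gcd 2 (r ^ f - 1) = 1 := by
    rintro rfl
    obtain ⟨g, rfl⟩ : ∃ g, f = g + 1 := ⟨f - 1, by omega⟩
    have h1 : 1 ≤ 2 ^ g := Nat.one_le_pow _ _ (by norm_num)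
    have h2 : (2 ^ (g + 1) - 1) % 2 = 1 := by rw [pow_succ]; omega
    rw [Nat.gcd_rec, h2]
    rfl
  have hK := KS_sq_le (m := m) (q := r ^ f) (f := f) (r := r) hm hq2
  have h2f : 2 ^ f ≤ r ^ f := Nat.pow_le_pow_left hr.two_le f
  by_cases h11 : 11 ≤ r
  · left
    have h1 : 11 * f ≤ r ^ f := by
      obtain ⟨g, rfl⟩ : ∃ g, f = g + 1 := ⟨f - 1, by omega⟩
      have h2 : g + 1 ≤ 11 ^ g := Nat.succ_le_of_lt (Nat.lt_pow_self (by norm_num))
      calc 11 * (g + 1) ≤ 11 * 11 ^ g := Nat.mul_le_mul_left _ h2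
        _ = 11 ^ (g + 1) := by ring
        _ ≤ r ^ (g + 1) := Nat.pow_le_pow_left h11 _
    have := bigS_base (m := m) (q := r ^ f) (f := f) hm (by omega) (by nlinarith only [hf, h1])
    omega
  by_cases h6 : 6 ≤ f
  · left
    have h1 := (f_boundS f h6).trans (Nat.pow_le_pow_left h2f 2)
    have h2 : 2 ^ 6 ≤ 2 ^ f := Nat.pow_le_pow_right (by norm_num) h6
    have := bigS_base (m := m) (q := r ^ f) (f := f) hm (by omega) h1
    omega
  by_cases h12 : 12 ≤ m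
  · left
    have := bigS_m h12 hf h2f
    omega
  have h1 := finite_checkS
  rw [List.all_eq_true] at h1
  have h2 := h1 (m - 2) (List.mem_range.2 (by omega))
  rw [List.all_eq_true] at h2
  have hr2 := hr.two_le
  have h3 := h2 (r - 2) (List.mem_range.2 (by omega))
  rw [List.all_eq_true] at h3
  have h4 := h3 (f - 1) (List.mem_range.2 (by omega))
  rw [show r - 2 + 2 = r by omega, show f - 1 + 1 = f by omega, show m - 2 + 2 = m by omega, isP_of_prime hr] at h4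
  simpa using h4

/-- `∏_{1 ≤ i ≤ m} (q ^ (2 i) - 1)` -/
def NS (q : ℕ) : ℕ → ℕ
  | 0 => 1
  | m + 1 => NS q m * (q ^ (2 * (m + 1)) - 1)

theorem NS_eq (q m : ℕ) : NS q m = ∏ i ∈ range m, (q ^ (2 * (i + 1)) - 1) := by
  induction m with
  | zero => rfl
  | succ n ih => rw [NS, ih, Finset.prod_range_succ]

/-- the exceptions `(m, r, f, p)` -/
def excS : List (ℕ × ℕ × ℕ × ℕ) :=
  [(2,2,1,5),(2,2,2,5),(2,2,3,7),(2,2,4,17),(2,2,5,31),(2,5,1,5),(4,2,1,5),(5,2,1,5),(6,2,1,7)]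

/-- the inequality in a decidable form -/
def chkS (p K Q : ℕ) : Bool := ((Q + 1) % p != 0 && Nat.blt ((p - 1) * K) (Q + 1)) ||
  ((Q - 1) % p != 0 && Nat.blt ((p - 1) * K) (Q - 1))

theorem chkS_sound {p K Q : ℕ} (h : chkS p K Q = true) : IneqS p K Q := by
  unfold chkS at h
  simp only [Bool.or_eq_true, Bool.and_eq_true, bne_iff_ne, ne_eq, Nat.blt_eq] at h
  rcases h with ⟨h1, h2⟩ | ⟨h1, h2⟩
  · exact Or.inl ⟨fun hd => h1 (Nat.mod_eq_zero_of_dvd hd), h2⟩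
  · exact Or.inr ⟨fun hd => h1 (Nat.mod_eq_zero_of_dvd hd), h2⟩

theorem small_checkS : (smallS.all fun x => Nat.blt ((x.2.1 ^ x.2.2) ^ x.1) 1100 &&
    (List.range 36).all fun p => Nat.blt p 5 || !isP p ||
      !((x.2.1 ^ x.2.2) % p == 0 || (NS (x.2.1 ^ x.2.2) x.1) % (p * p) == 0) ||
      excS.contains (x.1, x.2.1, x.2.2, p) || chkS p (KS x.1 (x.2.1 ^ x.2.2) x.2.2 x.2.1)
        ((x.2.1 ^ x.2.2) ^ x.1)) = true := by
  decide +kernel

/-- **the small cases** -/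
theorem small_caseS {m r f p : ℕ} (h : (m, r, f) ∈ smallS) (hm : 2 ≤ m) (hq : 2 ≤ r ^ f) (hp : p.Prime) (h5 : 5 ≤ p)
    (hd : p ∣ r ^ f ∨ p ^ 2 ∣ ∏ i ∈ range m, ((r ^ f) ^ (2 * (i + 1)) - 1)) :
    (m, r, f, p) ∈ excS ∨ IneqS p (KS m (r ^ f) f r) ((r ^ f) ^ m) := by
  have h1 := small_checkS
  rw [List.all_eq_true] at h1
  have h2 := h1 _ h
  simp only [Bool.and_eq_true, Nat.blt_eq, List.all_eq_true, List.mem_range] at h2
  obtain ⟨h3, h6⟩ := h2
  have hp36 : p < 36 := by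
    have h7 : (p - 1) ^ 2 ≤ (r ^ f) ^ m := by
      rcases hd with hd | hd
      · exact sq_le_of_dvd hq hm hd
      · exact psp_sq_le hp h5 hq hd
    by_contra hc
    push Not at hc
    have : 35 ^ 2 ≤ (p - 1) ^ 2 := Nat.pow_le_pow_left (by omega) 2
    omega
  have h7 := h6 p hp36
  simp only [Bool.or_eq_true, Nat.blt_eq, isP_of_prime hp, Bool.not_true, Bool.false_eq_true, or_false,
    Bool.not_eq_true', Bool.or_eq_false_iff, beq_eq_false_iff_ne, ne_eq] at h7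
  rcases h7 with ((h7 | h7) | h7) | h7
  · omega
  · exfalso
    rcases hd with hd | hd
    · exact h7.1 (Nat.mod_eq_zero_of_dvd hd)
    · rw [← NS_eq, pow_two] at hd
      exact h7.2 (Nat.mod_eq_zero_of_dvd hd)
  · left
    simpa using h7
  · right
    exact chkS_sound h7

end Cfsg.Agent.H93.PReg.Num
end

-- part: H93/PReg/NumOrth
section
/-!
# Arithmetic for the orthogonal groups in even dimension (for S4883)
-/

set_option autoImplicit false

namespace Cfsg.Agent.H93.PReg.Num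

open Finset

/-- the constant `2 m · d · f · d` -/
def KO (m q f : ℕ) : ℕ := ((m + m) * (Nat.gcd 2 (q - 1) * f)) * Nat.gcd 2 (q - 1)

/-- the inequality for one of three tori -/
def IneqO (p K a b c : ℕ) : Prop :=
  (¬ p ∣ a ∧ (p - 1) * K < a) ∨ (¬ p ∣ b ∧ (p - 1) * K < b) ∨ (¬ p ∣ c ∧ (p - 1) * K < c)

/-- **the big case** -/
theorem bigO {p K q m a : ℕ} (hp : p.Prime) (h5 : 5 ≤ p) (hq : 2 ≤ q) (hm : 2 ≤ m) (h : (p - 1) ^ 2 ≤ q ^ m)
    (hK : K ^ 2 + 2 ≤ q ^ (m - 2)) : IneqO p K a (q ^ (m - 1) + 1) (q ^ (m - 1) - 1) := by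
  have key : (p - 1) * K < q ^ (m - 1) - 1 := by
    have h1 : q ^ (m - 2) * q ^ m = (q ^ (m - 1)) ^ 2 := by
      rw [← pow_add, ← pow_mul]
      congr 1
      omega
    have h2 : q ^ m = q * q ^ (m - 1) := by
      obtain ⟨n, rfl⟩ : ∃ n, m = n + 1 := ⟨m - 1, by omega⟩
      rw [Nat.add_sub_cancel, pow_succ, mul_comm]
    set Q := q ^ (m - 1) with hQ
    have hQ1 : 2 ≤ Q := by
      calc 2 ≤ q ^ 1 := by rw [pow_one]; exact hq
        _ ≤ Q := Nat.pow_le_pow_right (by omega) (by omega)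
    by_contra hcon
    push Not at hcon
    have h3 : (Q - 1) ^ 2 ≤ ((p - 1) * K) ^ 2 := Nat.pow_le_pow_left hcon 2
    have h4 : ((p - 1) * K) ^ 2 + 2 * q ^ m ≤ Q ^ 2 := by
      calc ((p - 1) * K) ^ 2 + 2 * q ^ m = (p - 1) ^ 2 * K ^ 2 + 2 * q ^ m := by ring
        _ ≤ q ^ m * K ^ 2 + 2 * q ^ m := by
          have := Nat.mul_le_mul_right (K ^ 2) h
          omega
        _ = (K ^ 2 + 2) * q ^ m := by ring
        _ ≤ q ^ (m - 2) * q ^ m := Nat.mul_le_mul_right _ hK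
        _ = Q ^ 2 := h1
    obtain ⟨R, hR⟩ : ∃ R, Q = R + 1 := ⟨Q - 1, by omega⟩
    rw [hR, Nat.add_sub_cancel] at h3
    rw [h2, hR] at h4
    have h5 : 2 * (2 * (R + 1)) ≤ 2 * (q * (R + 1)) :=
      Nat.mul_le_mul_left 2 (Nat.mul_le_mul_right _ hq)
    linarith only [h4, h3, h5]
  by_cases h1 : p ∣ q ^ (m - 1) + 1
  · exact Or.inr (Or.inr ⟨not_dvd_both hp h5 h1, key⟩)
  · exact Or.inr (Or.inl ⟨h1, by omega⟩)

/-! ### The finite check -/

theorem baseO {m q f c : ℕ} (hm : 4 ≤ m) (h4 : 4 ≤ q) (h : c * 16 * f ^ 2 + 2 ≤ q ^ 2) :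
    c * m ^ 2 * f ^ 2 + 2 ≤ q ^ (m - 2) := by
  induction m, hm using Nat.le_induction with
  | base => simpa using h
  | succ n hn ih =>
    have h3 : q ^ (n + 1 - 2) = q ^ (n - 2) * q := by
      obtain ⟨k, rfl⟩ : ∃ k, n = k + 2 := ⟨n - 2, by omega⟩
      rw [show k + 2 + 1 - 2 = k + 1 by omega, show k + 2 - 2 = k by omega, pow_succ]
    rw [h3]
    have h1 : (n + 1) ^ 2 ≤ 4 * n ^ 2 := by nlinarith only [hn]
    have h2 := Nat.mul_le_mul_right (f ^ 2) (Nat.mul_le_mul_left c h1)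
    calc c * (n + 1) ^ 2 * f ^ 2 + 2 ≤ c * (4 * n ^ 2) * f ^ 2 + 2 := by omega
      _ ≤ (c * n ^ 2 * f ^ 2 + 2) * 4 := by
        have : c * (4 * n ^ 2) * f ^ 2 = c * n ^ 2 * f ^ 2 * 4 := by ring
        omega
      _ ≤ q ^ (n - 2) * q := Nat.mul_le_mul ih h4

theorem pow_three_bigO (m : ℕ) (hm : 10 ≤ m) : 64 * m ^ 2 + 2 ≤ 3 ^ (m - 2) := by
  induction m, hm using Nat.le_induction with
  | base => norm_num
  | succ n hn ih =>
    have h3 : 3 ^ (n + 1 - 2) = 3 ^ (n - 2) * 3 := by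
      obtain ⟨k, rfl⟩ : ∃ k, n = k + 2 := ⟨n - 2, by omega⟩
      rw [show k + 2 + 1 - 2 = k + 1 by omega, show k + 2 - 2 = k by omega, pow_succ]
    rw [h3]
    nlinarith

theorem pow_two_bigO (m : ℕ) (hm : 11 ≤ m) : 4 * m ^ 2 + 2 ≤ 2 ^ (m - 2) := by
  induction m, hm using Nat.le_induction with
  | base => norm_num
  | succ n hn ih =>
    have h3 : 2 ^ (n + 1 - 2) = 2 ^ (n - 2) * 2 := by
      obtain ⟨k, rfl⟩ : ∃ k, n = k + 2 := ⟨n - 2, by omega⟩
      rw [show k + 2 + 1 - 2 = k + 1 by omega, show k + 2 - 2 = k by omega, pow_succ]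
    rw [h3]
    nlinarith

theorem bigO_m {m q f c s : ℕ} (hs : 2 ≤ s) (hm : 4 ≤ m) (hf : 1 ≤ f) (hq : s ^ f ≤ q)
    (h : c * m ^ 2 + 2 ≤ s ^ (m - 2)) : c * m ^ 2 * f ^ 2 + 2 ≤ q ^ (m - 2) := by
  have h1 : (s ^ f) ^ (m - 2) = s ^ (m - 2) * (s ^ (f - 1)) ^ (m - 2) := by
    rw [← pow_mul, ← pow_mul, ← pow_add]
    congr 1
    obtain ⟨g, rfl⟩ : ∃ g, f = g + 1 := ⟨f - 1, by omega⟩
    rw [Nat.add_sub_cancel]
    ring
  have h2 : f ^ 2 ≤ (s ^ (f - 1)) ^ (m - 2) := by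
    have h3 : f ≤ s ^ (f - 1) := (f_le f hf).trans (Nat.pow_le_pow_left hs _)
    exact (Nat.pow_le_pow_left h3 2).trans (Nat.pow_le_pow_right (Nat.pow_pos (by omega)) (by omega))
  have h4 : 1 ≤ f ^ 2 := Nat.one_le_pow _ _ hf
  calc c * m ^ 2 * f ^ 2 + 2 ≤ (c * m ^ 2 + 2) * f ^ 2 := by linarith only [h4]
    _ ≤ s ^ (m - 2) * (s ^ (f - 1)) ^ (m - 2) := Nat.mul_le_mul h h2
    _ = (s ^ f) ^ (m - 2) := h1.symm
    _ ≤ q ^ (m - 2) := Nat.pow_le_pow_left hq _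

theorem KO_sq_le {m q f : ℕ} : KO m q f ^ 2 ≤ 64 * m ^ 2 * f ^ 2 := by
  have h1 : Nat.gcd 2 (q - 1) ≤ 2 := Nat.gcd_le_left _ (by norm_num)
  have h2 : Nat.gcd 2 (q - 1) * Nat.gcd 2 (q - 1) ≤ 2 * 2 := Nat.mul_le_mul h1 h1
  have h3 : KO m q f = (2 * m * f) * (Nat.gcd 2 (q - 1) * Nat.gcd 2 (q - 1)) := by unfold KO; ring
  rw [h3]
  calc ((2 * m * f) * (Nat.gcd 2 (q - 1) * Nat.gcd 2 (q - 1))) ^ 2 ≤ ((2 * m * f) * (2 * 2)) ^ 2 :=
        Nat.pow_le_pow_left (Nat.mul_le_mul_left _ h2) 2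
    _ = 64 * m ^ 2 * f ^ 2 := by ring

theorem gcd_two_pow {f : ℕ} (hf : 1 ≤ f) : Nat.gcd 2 (2 ^ f - 1) = 1 := by
  obtain ⟨g, rfl⟩ : ∃ g, f = g + 1 := ⟨f - 1, by omega⟩
  have h1 : 1 ≤ 2 ^ g := Nat.one_le_pow _ _ (by norm_num)
  have h2 : (2 ^ (g + 1) - 1) % 2 = 1 := by rw [pow_succ]; omega
  rw [Nat.gcd_rec, h2]
  rfl

theorem KO_sq_two {m f : ℕ} (hf : 1 ≤ f) : KO m (2 ^ f) f ^ 2 = 4 * m ^ 2 * f ^ 2 := by
  unfold KO
  rw [gcd_two_pow hf]
  ring

theorem f_bound3 (f : ℕ) (hf : 5 ≤ f) : 64 * 16 * f ^ 2 + 2 ≤ (3 ^ f) ^ 2 := by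
  induction f, hf using Nat.le_induction with
  | base => norm_num
  | succ n hn ih =>
    have h1 : (3 ^ (n + 1)) ^ 2 = 9 * (3 ^ n) ^ 2 := by ring
    rw [h1]
    nlinarith only [hn, ih]

theorem f_bound2O (f : ℕ) (hf : 6 ≤ f) : 4 * 16 * f ^ 2 + 2 ≤ (2 ^ f) ^ 2 := by
  induction f, hf using Nat.le_induction with
  | base => norm_num
  | succ n hn ih =>
    have h1 : (2 ^ (n + 1)) ^ 2 = 4 * (2 ^ n) ^ 2 := by ring
    rw [h1]
    nlinarith only [hn, ih]

/-- the small cases `(m, r, f)` with a bound for `p` -/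
def smallO : List ((ℕ × ℕ × ℕ) × ℕ) :=
  [((4,2,1),1), ((4,2,2),1), ((4,2,3),1), ((4,2,4),3), ((4,2,5),12), ((4,3,1),1), ((4,3,2),1), ((4,3,3),9),
    ((4,3,4),73), ((4,5,1),1), ((4,5,2),7), ((4,7,1),1), ((4,7,2),27), ((4,11,1),2), ((4,13,1),2),
    ((4,17,1),4), ((4,19,1),5), ((4,23,1),6), ((4,29,1),10), ((4,31,1),11), ((5,2,1),1), ((5,2,2),1),
    ((5,2,3),3), ((5,3,1),1), ((5,3,2),3), ((5,5,1),1), ((5,7,1),2), ((5,11,1),5), ((6,2,1),1), ((6,2,2),1),
    ((6,3,1),1), ((6,3,2),9), ((6,5,1),2), ((7,2,1),1), ((7,3,1),1), ((7,5,1),4), ((8,2,1),1), ((8,3,1),1),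
    ((9,2,1),1), ((9,3,1),2), ((10,2,1),1)]

theorem finite_checkO : ((List.range 7).all fun i => (List.range 35).all fun j => (List.range 5).all fun k =>
    !isP (j + 2) || decide (KO (i + 4) ((j + 2) ^ (k + 1)) (k + 1) ^ 2 + 2 ≤ ((j + 2) ^ (k + 1)) ^ (i + 4 - 2)) ||
      (smallO.map Prod.fst).contains (i + 4, j + 2, k + 1)) = true := by
  decide +kernel

/-- **the general inequality holds up to the small cases** -/
theorem big_or_smallO {m r f : ℕ} (hm : 4 ≤ m) (hr : r.Prime) (hf : 1 ≤ f) :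
    KO m (r ^ f) f ^ 2 + 2 ≤ (r ^ f) ^ (m - 2) ∨ ∃ P, ((m, r, f), P) ∈ smallO := by
  have hK := KO_sq_le (m := m) (q := r ^ f) (f := f)
  by_cases h37 : 37 ≤ r
  · left
    have h1 : 37 * f ≤ r ^ f := by
      obtain ⟨g, rfl⟩ : ∃ g, f = g + 1 := ⟨f - 1, by omega⟩
      have h2 : g + 1 ≤ 37 ^ g := Nat.succ_le_of_lt (Nat.lt_pow_self (by norm_num))
      calc 37 * (g + 1) ≤ 37 * 37 ^ g := Nat.mul_le_mul_left _ h2
        _ = 37 ^ (g + 1) := by ring
        _ ≤ r ^ (g + 1) := Nat.pow_le_pow_left h37 _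
    have := baseO (m := m) (q := r ^ f) (f := f) (c := 64) hm (by omega) (by nlinarith only [hf, h1])
    omega
  by_cases h2 : r = 2
  · subst h2
    have hK2 := KO_sq_two (m := m) hf
    by_cases h6 : 6 ≤ f
    · left
      have h3 : 2 ^ 6 ≤ 2 ^ f := Nat.pow_le_pow_right (by norm_num) h6
      have := baseO (m := m) (q := 2 ^ f) (f := f) (c := 4) hm (by omega) (f_bound2O f h6)
      omega
    by_cases h11 : 11 ≤ m
    · left
      have := bigO_m (m := m) (q := 2 ^ f) (f := f) (c := 4) (s := 2) le_rfl hm hf le_rfl (pow_two_bigO m h11)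
      omega
    have h1 := finite_checkO
    rw [List.all_eq_true] at h1
    have h2 := h1 (m - 4) (List.mem_range.2 (by omega))
    rw [List.all_eq_true] at h2
    have h3 := h2 (2 - 2) (List.mem_range.2 (by omega))
    rw [List.all_eq_true] at h3
    have h4 := h3 (f - 1) (List.mem_range.2 (by omega))
    rw [show f - 1 + 1 = f by omega, show m - 4 + 4 = m by omega, show 2 - 2 + 2 = 2 from rfl, isP_of_prime hr] at h4
    simpa only [_root_.Bool.not_true, _root_.Bool.false_or, _root_.List.contains_eq_mem, _root_.List.mem_map, _root_.Prod.exists, _root_.exists_and_right, _root_.exists_eq_right, _root_.Bool.or_eq_true, _root_.decide_eq_true_eq] using h4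
  · have hr3 : 3 ≤ r := by
      have := hr.two_le
      omega
    have h3f : 3 ^ f ≤ r ^ f := Nat.pow_le_pow_left hr3 f
    by_cases h5 : 5 ≤ f
    · left
      have h1 := (f_bound3 f h5).trans (Nat.pow_le_pow_left h3f 2)
      have h2 : 3 ^ 5 ≤ 3 ^ f := Nat.pow_le_pow_right (by norm_num) h5
      have := baseO (m := m) (q := r ^ f) (f := f) (c := 64) hm (by omega) h1
      omega
    by_cases h11 : 10 ≤ m
    · left
      have := bigO_m (m := m) (q := r ^ f) (f := f) (c := 64) (s := 3) (by norm_num) hm hf h3f (pow_three_bigO m h11)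
      omega
    have h1 := finite_checkO
    rw [List.all_eq_true] at h1
    have h2 := h1 (m - 4) (List.mem_range.2 (by omega))
    rw [List.all_eq_true] at h2
    have h3 := h2 (r - 2) (List.mem_range.2 (by omega))
    rw [List.all_eq_true] at h3
    have h4 := h3 (f - 1) (List.mem_range.2 (by omega))
    rw [show r - 2 + 2 = r by omega, show f - 1 + 1 = f by omega, show m - 4 + 4 = m by omega, isP_of_prime hr] at h4
    simpa only [_root_.Bool.not_true, _root_.Bool.false_or, _root_.List.contains_eq_mem, _root_.List.mem_map, _root_.Prod.exists, _root_.exists_and_right, _root_.exists_eq_right, _root_.Bool.or_eq_true, _root_.decide_eq_true_eq] using h4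

/-- the inequality in a decidable form -/
def chkO (p K a b c : ℕ) : Bool := (a % p != 0 && Nat.blt ((p - 1) * K) a) ||
  (b % p != 0 && Nat.blt ((p - 1) * K) b) || (c % p != 0 && Nat.blt ((p - 1) * K) c)

theorem chkO_sound {p K a b c : ℕ} (h : chkO p K a b c = true) : IneqO p K a b c := by
  unfold chkO at h
  simp only [Bool.or_eq_true, Bool.and_eq_true, bne_iff_ne, ne_eq, Nat.blt_eq] at h
  rcases h with (⟨h1, h2⟩ | ⟨h1, h2⟩) | ⟨h1, h2⟩
  · exact Or.inl ⟨fun hd => h1 (Nat.mod_eq_zero_of_dvd hd), h2⟩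
  · exact Or.inr (Or.inl ⟨fun hd => h1 (Nat.mod_eq_zero_of_dvd hd), h2⟩)
  · exact Or.inr (Or.inr ⟨fun hd => h1 (Nat.mod_eq_zero_of_dvd hd), h2⟩)

/-- the exceptions, minus type -/
def excM : List (ℕ × ℕ × ℕ × ℕ) := [(5,2,1,5),(6,2,1,5)]

/-- the exceptions, plus type, `m ≥ 5` -/
def excP : List (ℕ × ℕ × ℕ × ℕ) :=
  [(5,2,1,5),(5,3,1,11),(6,2,1,7),(6,3,1,7),(6,3,1,13),(8,2,1,17),(8,3,1,41),(10,2,1,31)]

/-- the check for one `q` -/
def chkRow (exc : List (ℕ × ℕ × ℕ × ℕ)) (m r f P q K a b c M : ℕ) : Bool :=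
  Nat.blt (q ^ m) ((90 * P) ^ 2) &&
  (List.range P).all fun i => (List.range 90).all fun j =>
    Nat.blt (90 * i + j) 4 || !(q % (90 * i + j + 1) == 0 || M % ((90 * i + j + 1) * (90 * i + j + 1)) == 0) ||
      !isP (90 * i + j + 1) || exc.contains (m, r, f, 90 * i + j + 1) || chkO (90 * i + j + 1) K a b c

theorem chkRow_sound {exc : List (ℕ × ℕ × ℕ × ℕ)} {m r f P q K a b c M p : ℕ}
    (h : chkRow exc m r f P q K a b c M = true) (hp : p.Prime) (h5 : 5 ≤ p) (hle : (p - 1) ^ 2 ≤ q ^ m)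
    (hd : p ∣ q ∨ p ^ 2 ∣ M) : (m, r, f, p) ∈ exc ∨ IneqO p K a b c := by
  unfold chkRow at h
  simp only [Bool.and_eq_true, Nat.blt_eq, List.all_eq_true, List.mem_range] at h
  obtain ⟨h1, h2⟩ := h
  have h3 : p - 1 < 90 * P := by
    by_contra hc
    push Not at hc
    have := Nat.pow_le_pow_left hc 2
    omega
  have h4 := h2 ((p - 1) / 90) (Nat.div_lt_of_lt_mul h3) ((p - 1) % 90) (Nat.mod_lt _ (by norm_num))
  rw [show 90 * ((p - 1) / 90) + (p - 1) % 90 = p - 1 from Nat.div_add_mod _ _, show p - 1 + 1 = p by omega] at h4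
  simp only [Bool.or_eq_true, Nat.blt_eq, isP_of_prime hp, Bool.not_true, Bool.false_eq_true, or_false,
    Bool.not_eq_true', Bool.or_eq_false_iff, beq_eq_false_iff_ne, ne_eq] at h4
  rcases h4 with ((h4 | h4) | h4) | h4
  · omega
  · exfalso
    rcases hd with hd | hd
    · exact h4.1 (Nat.mod_eq_zero_of_dvd hd)
    · rw [pow_two] at hd
      exact h4.2 (Nat.mod_eq_zero_of_dvd hd)
  · left
    simpa using h4
  · right
    exact chkO_sound h4

private noncomputable def hAll (f : ℕ → Bool) (n : ℕ) : Bool := Nat.rec true (fun i r => Bool.rec false r (f i)) n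

private theorem hAll_spec {f : ℕ → Bool} : ∀ {n : ℕ}, hAll f n = true → ∀ i < n, f i = true := by
  intro n
  induction n with
  | zero => intro _ i hi; exact absurd hi (Nat.not_lt_zero _)
  | succ m ih =>
    intro h i hi
    have h1 : (Bool.rec false (hAll f m) (f m) : Bool) = true := h
    cases hf : f m with
    | false => rw [hf] at h1; exact absurd h1 Bool.false_ne_true
    | true =>
      rw [hf] at h1
      rcases Nat.lt_succ_iff_lt_or_eq.1 hi with h2 | h2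
      · exact ih h1 i h2
      · rw [h2]; exact hf

/-- `x` is not divisible by `m`, or `b` -/
private noncomputable def hOr (x m : ℕ) (b : Bool) : Bool := Bool.rec true b (Nat.beq (Nat.mod x m) 0)

private theorem hOr_spec {x m : ℕ} {b : Bool} (h : hOr x m b = true) : ¬ m ∣ x ∨ b = true := by
  unfold hOr at h
  by_cases hd : m ∣ x
  · have h1 : Nat.mod x m = 0 := Nat.mod_eq_zero_of_dvd hd
    rw [h1] at h
    exact Or.inr h
  · exact Or.inl hd

private noncomputable def hFrc (x : ℕ) (k : ℕ → Bool) : Bool := Nat.rec (k 0) (fun m _ => k (Nat.succ m)) x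

private theorem hFrc_eq (x : ℕ) (k : ℕ → Bool) : hFrc x k = k x := by cases x <;> rfl

private def chkOne (exc : List (ℕ × ℕ × ℕ × ℕ)) (m r f q K a b c M n : ℕ) : Bool :=
  Nat.blt n 4 || !(q % (n + 1) == 0 || M % ((n + 1) * (n + 1)) == 0) ||
    !isP (n + 1) || exc.contains (m, r, f, n + 1) || chkO (n + 1) K a b c

private noncomputable def chkRowF (exc : List (ℕ × ℕ × ℕ × ℕ)) (m r f P q K a b c M : ℕ) : Bool :=
  Nat.blt (q ^ m) ((90 * P) ^ 2) &&
    hFrc (q * M) fun D => hAll (fun n => hOr D (Nat.succ n) (chkOne exc m r f q K a b c M n)) (90 * P)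

private theorem chkRow_of {exc : List (ℕ × ℕ × ℕ × ℕ)} {m r f P q K a b c M : ℕ}
    (h : chkRowF exc m r f P q K a b c M = true) : chkRow exc m r f P q K a b c M = true := by
  unfold chkRowF at h
  unfold chkRow
  rw [hFrc_eq, Bool.and_eq_true] at h
  rw [Bool.and_eq_true]
  refine ⟨h.1, List.all_eq_true.2 fun i hi => List.all_eq_true.2 fun j hj => ?_⟩
  rw [List.mem_range] at hi hj
  show chkOne exc m r f q K a b c M (90 * i + j) = true
  rcases hOr_spec (hAll_spec h.2 (90 * i + j) (by omega)) with h1 | h1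
  · generalize 90 * i + j = n at h1
    have h2 : (q % (n + 1) == 0) = false := by
      rw [beq_eq_false_iff_ne]
      exact fun h3 => h1 ((Nat.dvd_of_mod_eq_zero h3).mul_right M)
    have h3 : (M % ((n + 1) * (n + 1)) == 0) = false := by
      rw [beq_eq_false_iff_ne]
      exact fun h3 => h1 (((Nat.dvd_mul_right _ _).trans (Nat.dvd_of_mod_eq_zero h3)).mul_left q)
    unfold chkOne
    rw [h2, h3]
    simp only [Bool.or_false, Bool.not_false, Bool.or_true, Bool.true_or]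
  · exact h1

set_option maxRecDepth 100000 in
theorem small_checkM : (smallO.all fun x => chkRow excM x.1.1 x.1.2.1 x.1.2.2 x.2 (x.1.2.1 ^ x.1.2.2)
    (KO x.1.1 (x.1.2.1 ^ x.1.2.2) x.1.2.2) ((x.1.2.1 ^ x.1.2.2) ^ x.1.1 + 1)
    ((x.1.2.1 ^ x.1.2.2) ^ (x.1.1 - 1) + 1) ((x.1.2.1 ^ x.1.2.2) ^ (x.1.1 - 1) - 1)
    (((x.1.2.1 ^ x.1.2.2) ^ x.1.1 + 1) * NS (x.1.2.1 ^ x.1.2.2) (x.1.1 - 1))) = true := by
  have h : (smallO.all fun x => chkRowF excM x.1.1 x.1.2.1 x.1.2.2 x.2 (x.1.2.1 ^ x.1.2.2)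
    (KO x.1.1 (x.1.2.1 ^ x.1.2.2) x.1.2.2) ((x.1.2.1 ^ x.1.2.2) ^ x.1.1 + 1)
    ((x.1.2.1 ^ x.1.2.2) ^ (x.1.1 - 1) + 1) ((x.1.2.1 ^ x.1.2.2) ^ (x.1.1 - 1) - 1)
    (((x.1.2.1 ^ x.1.2.2) ^ x.1.1 + 1) * NS (x.1.2.1 ^ x.1.2.2) (x.1.1 - 1))) = true := by
    decide +kernel
  exact List.all_eq_true.2 fun x hx => chkRow_of (List.all_eq_true.1 h x hx)

set_option maxRecDepth 100000 in
theorem small_checkP : (smallO.all fun x => Nat.beq x.1.1 4 || chkRow excP x.1.1 x.1.2.1 x.1.2.2 x.2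
    (x.1.2.1 ^ x.1.2.2)
    (KO x.1.1 (x.1.2.1 ^ x.1.2.2) x.1.2.2) ((x.1.2.1 ^ x.1.2.2) ^ x.1.1 - 1)
    ((x.1.2.1 ^ x.1.2.2) ^ (x.1.1 - 1) + 1) ((x.1.2.1 ^ x.1.2.2) ^ (x.1.1 - 1) - 1)
    (((x.1.2.1 ^ x.1.2.2) ^ x.1.1 - 1) * NS (x.1.2.1 ^ x.1.2.2) (x.1.1 - 1))) = true := by
  have h : (smallO.all fun x => Nat.beq x.1.1 4 || chkRowF excP x.1.1 x.1.2.1 x.1.2.2 x.2
    (x.1.2.1 ^ x.1.2.2)
    (KO x.1.1 (x.1.2.1 ^ x.1.2.2) x.1.2.2) ((x.1.2.1 ^ x.1.2.2) ^ x.1.1 - 1)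
    ((x.1.2.1 ^ x.1.2.2) ^ (x.1.1 - 1) + 1) ((x.1.2.1 ^ x.1.2.2) ^ (x.1.1 - 1) - 1)
    (((x.1.2.1 ^ x.1.2.2) ^ x.1.1 - 1) * NS (x.1.2.1 ^ x.1.2.2) (x.1.1 - 1))) = true := by
    decide +kernel
  refine List.all_eq_true.2 fun x hx => ?_
  have h1 := List.all_eq_true.1 h x hx
  rw [Bool.or_eq_true] at h1 ⊢
  exact h1.imp id chkRow_of

/-- **the small cases, minus type** -/
theorem small_caseM {m r f P p : ℕ} (h : ((m, r, f), P) ∈ smallO) (hp : p.Prime) (h5 : 5 ≤ p)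
    (hle : (p - 1) ^ 2 ≤ (r ^ f) ^ m)
    (hd : p ∣ r ^ f ∨ p ^ 2 ∣ ((r ^ f) ^ m + 1) * ∏ i ∈ range (m - 1), ((r ^ f) ^ (2 * (i + 1)) - 1)) :
    (m, r, f, p) ∈ excM ∨ IneqO p (KO m (r ^ f) f) ((r ^ f) ^ m + 1) ((r ^ f) ^ (m - 1) + 1)
      ((r ^ f) ^ (m - 1) - 1) := by
  have h1 := small_checkM
  rw [List.all_eq_true] at h1
  rw [← NS_eq] at hd
  exact chkRow_sound (h1 _ h) hp h5 hle hd

/-- **the small cases, plus type** -/
theorem small_caseP {m r f P p : ℕ} (hm : 5 ≤ m) (h : ((m, r, f), P) ∈ smallO) (hp : p.Prime) (h5 : 5 ≤ p)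
    (hle : (p - 1) ^ 2 ≤ (r ^ f) ^ m)
    (hd : p ∣ r ^ f ∨ p ^ 2 ∣ ((r ^ f) ^ m - 1) * ∏ i ∈ range (m - 1), ((r ^ f) ^ (2 * (i + 1)) - 1)) :
    (m, r, f, p) ∈ excP ∨ IneqO p (KO m (r ^ f) f) ((r ^ f) ^ m - 1) ((r ^ f) ^ (m - 1) + 1)
      ((r ^ f) ^ (m - 1) - 1) := by
  have h1 := small_checkP
  rw [List.all_eq_true] at h1
  rw [← NS_eq] at hd
  have h2 := h1 _ h
  simp only [Bool.or_eq_true] at h2
  rcases h2 with h2 | h2
  · have : m = 4 := Nat.eq_of_beq_eq_true h2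
    omega
  · exact chkRow_sound h2 hp h5 hle hd

/-- **the bound for `p`** -/
theorem orth_sq_le {p q m a : ℕ} (hp : p.Prime) (h5 : 5 ≤ p) (hq : 2 ≤ q) (hm : 2 ≤ m) (ha : a ∣ q ^ (2 * m) - 1)
    (h : p ∣ q ∨ p ^ 2 ∣ a * ∏ i ∈ range (m - 1), (q ^ (2 * (i + 1)) - 1)) : (p - 1) ^ 2 ≤ q ^ m := by
  rcases h with h | h
  · exact sq_le_of_dvd hq hm h
  · refine psp_sq_le hp h5 hq (h.trans ?_)
    obtain ⟨n, rfl⟩ : ∃ n, m = n + 1 := ⟨m - 1, by omega⟩
    rw [Nat.add_sub_cancel, Finset.prod_range_succ, mul_comm]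
    exact Nat.mul_dvd_mul_left _ ha

end Cfsg.Agent.H93.PReg.Num
end

-- part: H93/PReg/OrthRow
section
/-!
# The rows of the orthogonal groups in even dimension: generalities (for S4883)
-/

set_option autoImplicit false
set_option linter.unusedSectionVars false

namespace Cfsg.Agent.H93.PReg.Orth

open QuadraticMap Cfsg.Agent.LieClassical.OrthCore Cfsg.Agent.LieClassical.OrthForms
open Polynomial Matrix Cfsg.Agent.H93.PReg Cfsg Cfsg.Agent.H92.KTools
open Cfsg.Agent.H182.Sign Cfsg.Agent.H182.Orth Cfsg.Agent.AutOrth.Main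

variable {ι : Type} [Fintype ι] [DecidableEq ι] {F : Type} [Field F] [Fintype F] {m r f : ℕ}

theorem card_of_sg {Q : QuadraticForm F (ι → F)} {ε : ℤ} (hQ : Sg Q m ε) : Fintype.card ι = 2 * m := by
  rw [← Module.finrank_fintype_fun_eq_card F, hQ.dim]

theorem finite_W {Q : QuadraticForm F (ι → F)} : Finite (Subgroup.center (Omega F ⇑Q) × (F ≃+* F)) := by
  have : Finite (F ≃+* F) := Finite.of_injective (fun e => (e : F → F)) DFunLike.coe_injective
  infer_instance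

theorem card_W_le (hr : r.Prime) (hf : 1 ≤ f) (hF : Fintype.card F = r ^ f) {Q : QuadraticForm F (ι → F)} {ε : ℤ}
    (hQ : Sg Q m ε) (hm : 3 ≤ m) : Fintype.card ι * Nat.card (Subgroup.center (Omega F ⇑Q) × (F ≃+* F)) ≤
      (m + m) * (Nat.gcd 2 (r ^ f - 1) * f) := by
  have := Fact.mk hr
  have hc := card_of_sg hQ
  rw [Nat.card_prod, Lib.FieldAutCard.card_ringAut hf hF, hc, two_mul]
  refine Nat.mul_le_mul_left _ (Nat.mul_le_mul_right _ ?_)
  rw [← hF]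
  exact card_center_le hQ.nondeg (by omega)

/-- parity -/
theorem gcd_eq {q j a : ℕ} (hj : j ≠ 0) (hq : 2 ≤ q) (ha : a = q ^ j + 1 ∨ a = q ^ j - 1) :
    Nat.gcd a 2 = Nat.gcd 2 (q - 1) := by
  rcases Nat.even_or_odd q with he | ho
  · have h1 : Even (q ^ j) := he.pow_of_ne_zero hj
    have h2 : 1 ≤ q ^ j := Nat.one_le_pow _ _ (by omega)
    have h3 : a % 2 = 1 := by
      rw [Nat.even_iff] at h1
      omega
    rw [Nat.even_iff] at he
    rw [Nat.gcd_comm, Nat.gcd_rec, h3, Nat.gcd_rec 2 (q - 1), show (q - 1) % 2 = 1 by omega]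
  · have h1 : Odd (q ^ j) := ho.pow
    have h3 : a % 2 = 0 := by
      rw [Nat.odd_iff] at h1
      omega
    rw [Nat.odd_iff] at ho
    rw [Nat.gcd_comm, Nat.gcd_rec, h3, Nat.gcd_rec 2 (q - 1), show (q - 1) % 2 = 0 by omega]

/-- one torus -/
theorem MO_of_eig {Q : QuadraticForm F (ι → F)} {ε : ℤ} (hQ : Sg Q m ε) (hm : 3 ≤ m) {W : Type} [Finite W]
    (hC : Ctl (ρ ⇑Q) (pr ⇑Q) W) {a p n B g : ℕ} (he : EigElt F m ε a) (hp : p.Prime) (ha : ¬ p ∣ a)
    (hg : Nat.gcd a 2 = g) (hB : Fintype.card ι * Nat.card W ≤ B) (h : (n - 1) * (B * g) < a) :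
    MO (Reg p) n (POmega F ⇑Q) := by
  obtain ⟨V, _, _, _, P, T, L, _, _, y, hs, hT, hy, ho⟩ := he
  obtain ⟨e, he⟩ := hQ.exists_equiv hs
  have hc := card_of_sg hQ
  have ha0 : a ≠ 0 := by
    rintro rfl
    exact ha (dvd_zero _)
  have hg0 : 0 < g := hg ▸ Nat.gcd_pos_of_pos_right _ (by norm_num)
  have hda : g ∣ a := hg ▸ Nat.gcd_dvd_left _ _
  refine MO_of_isom (N := a / g) hQ.nondeg (by omega) hC (⇑P) e 1 one_ne_zero (fun u => by rw [he, one_mul]) T hT hy hp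
    (by rw [orderOf_sq_eq y a ho, hg]) hB ?_
  rw [Nat.factorization_eq_zero_of_not_dvd fun hd => ha (hd.trans (Nat.div_dvd_of_dvd hda)), pow_zero, mul_one]
  rw [Nat.lt_div_iff_mul_lt' hda]
  calc g * ((n - 1) * B) = (n - 1) * (B * g) := by ring
    _ < a := h

/-- **from the inequality** -/
theorem MO_of_ineq {Q : QuadraticForm F (ι → F)} {ε : ℤ} (hQ : Sg Q m ε) (hm : 3 ≤ m) {W : Type} [Finite W]
    (hC : Ctl (ρ ⇑Q) (pr ⇑Q) W) {B p n a K : ℕ} (hB : Fintype.card ι * Nat.card W ≤ B)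
    (hK : B * Nat.gcd 2 (Fintype.card F - 1) = K)
    (ha : a = Fintype.card F ^ m + 1 ∨ a = Fintype.card F ^ m - 1) (hea : EigElt F m ε a)
    (hp : p.Prime)
    (h : (¬ p ∣ a ∧ (n - 1) * K < a) ∨
      (¬ p ∣ Fintype.card F ^ (m - 1) + 1 ∧ (n - 1) * K < Fintype.card F ^ (m - 1) + 1) ∨
      (¬ p ∣ Fintype.card F ^ (m - 1) - 1 ∧ (n - 1) * K < Fintype.card F ^ (m - 1) - 1)) :
    MO (Reg p) n (POmega F ⇑Q) := by
  have hq : 2 ≤ Fintype.card F := Fintype.one_lt_card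
  rcases h with ⟨h1, h2⟩ | ⟨h1, h2⟩ | ⟨h1, h2⟩
  · exact MO_of_eig hQ hm hC hea hp h1 (gcd_eq (by omega) hq ha) hB (by rw [hK]; exact h2)
  · exact MO_of_eig hQ hm hC ((eig_minus (m - 1) (by omega)).extend (by omega) hQ.eps) hp h1
      (gcd_eq (by omega) hq (Or.inl rfl)) hB (by rw [hK]; exact h2)
  · exact MO_of_eig hQ hm hC ((eig_plus (m - 1) (by omega)).extend (by omega) hQ.eps) hp h1
      (gcd_eq (by omega) hq (Or.inr rfl)) hB (by rw [hK]; exact h2)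

/-- prime divisors -/
theorem cases_of_sq_dvd {S : Type*} [Group S] {p q c M e : ℕ} (hp : p.Prime)
    (hcard : c * Nat.card S = q ^ e * M) (hd : p ^ 2 ∣ Nat.card S) : p ∣ q ∨ p ^ 2 ∣ M := by
  by_cases h : p ∣ q
  · exact Or.inl h
  · right
    have h1 : p ^ 2 ∣ q ^ e * M := hcard ▸ hd.mul_left c
    exact Nat.Coprime.dvd_of_dvd_mul_left (Nat.Coprime.pow _ _ ((Nat.Prime.coprime_iff_not_dvd hp).2 h)) h1

/-- prime orders -/
theorem ho_prime {S : Type*} [Group S] [Finite S] {s q c M e : ℕ} (hs : s.Prime)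
    (hcard : c * Nat.card S = q ^ e * M) (he : e ≠ 0) (hc : 0 < c) (h : s * c ∣ q * M) : HasOrd S s := by
  refine hasOrd_prime hs ?_
  apply Nat.dvd_of_mul_dvd_mul_left hc
  rw [hcard, mul_comm c]
  exact h.trans (Nat.mul_dvd_mul_right (dvd_pow_self _ he) _)

/-- orders from tori -/
theorem ho_eig {Q : QuadraticForm F (ι → F)} {ε : ℤ} (hQ : Sg Q m ε) (hm : 3 ≤ m) {a k : ℕ}
    (he : EigElt F m ε a)
    (h : k ∣ a / Nat.gcd a 2 / Nat.gcd (a / Nat.gcd a 2) (Nat.gcd 2 (Fintype.card F - 1))) :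
    HasOrd (POmega F ⇑Q) k := by
  have : Finite (POmega F ⇑Q) := Quotient.finite _
  obtain ⟨V, _, _, _, P, T, L, _, _, y, hs, hT, hy, ho⟩ := he
  obtain ⟨e, he⟩ := hQ.exists_equiv hs
  have hc := card_of_sg hQ
  obtain ⟨z, hz⟩ := exists_omega Q hQ.nondeg (by omega) (⇑P) e 1 one_ne_zero (fun u => by rw [he, one_mul]) T hT
  have hroot : aeval (y ^ 2) (ρ ⇑Q z).charpoly = 0 := by
    apply root_of_eig
    rw [hz]
    exact hasEig_conj e.symm (hy.pow 2)
  have h1 := orderOf_root_dvd (ρ := ρ ⇑Q) z (y ^ 2) hroot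
  rw [orderOf_sq_eq y a ho] at h1
  have h0 : orderOf z ≠ 0 := (orderOf_pos z).ne'
  obtain ⟨c, hc⟩ := h1
  have hN0 : a / Nat.gcd a 2 ≠ 0 := by
    intro h0'
    rw [h0', zero_mul] at hc
    exact h0 hc
  have hc0 : c ≠ 0 := by
    rintro rfl
    exact h0 (by rw [hc, mul_zero])
  have h2 : orderOf (z ^ c) = a / Nat.gcd a 2 := by
    rw [orderOf_pow' z hc0, hc, Nat.gcd_eq_right (Dvd.intro_left _ rfl), Nat.mul_div_cancel _ (Nat.pos_of_ne_zero hc0)]
  exact hasOrd_of_ker (pr ⇑Q) (z ^ c) (fun g hg => ker_sq hQ.nondeg (by omega) g hg) (by rw [h2]; exact hN0)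
    (by rw [h2]; exact h)

/-- the elements of order divisible by `s` in one torus -/
theorem MO_s_eig {Q : QuadraticForm F (ι → F)} {ε : ℤ} (hQ : Sg Q m ε) (hm : 3 ≤ m) {W : Type} [Finite W]
    (hC : Ctl (ρ ⇑Q) (pr ⇑Q) W) {a p n B N s b : ℕ} (he : EigElt F m ε a) (hN : a / Nat.gcd a 2 = N)
    (hN0 : N ≠ 0) (hp : p.Prime) (hpN : ¬ p ∣ N) (hs : s.Prime) (hsc : ¬ s ∣ Nat.gcd 2 (Fintype.card F - 1))
    (hsa : ¬ s ^ (b + 1) ∣ N) (hsa' : s ^ b ∣ N) (hB : Fintype.card ι * Nat.card W ≤ B)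
    (h : (n - 1) * B < N - N / s ^ b) : MO {k | s ∣ k ∧ ¬ p ∣ k} n (POmega F ⇑Q) := by
  obtain ⟨V, _, _, _, P, T, L, _, _, y, hs', hT, hy, ho⟩ := he
  obtain ⟨e, he⟩ := hQ.exists_equiv hs'
  have hc := card_of_sg hQ
  obtain ⟨z, hz⟩ := exists_omega Q hQ.nondeg (by omega) (⇑P) e 1 one_ne_zero (fun u => by rw [he, one_mul]) T hT
  have hroot : aeval (y ^ 2) (ρ ⇑Q z).charpoly = 0 := by
    apply root_of_eig
    rw [hz]
    exact hasEig_conj e.symm (hy.pow 2)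
  refine MO.of_root_s' hC z hp hpN (y ^ 2) hroot (by rw [orderOf_sq_eq y a ho, hN]) hN0 hs
    (fun g hg => ker_sq hQ.nondeg (by omega) g hg) hsc hsa hsa' ?_
  exact lt_of_le_of_lt (Nat.mul_le_mul_left _ hB) h

end Cfsg.Agent.H93.PReg.Orth
end

private theorem dce_72a7007b260f : _root_.True := by
  try have : _root_.True := by simp only [_root_.Cfsg.Agent.H93.PReg.Num.NS.eq_1]
  try have : _root_.True := by simp only [_root_.Cfsg.Agent.H93.PReg.Num.NS.eq_2]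
  try have : _root_.True := by simp only [_root_.Cfsg.Agent.H93.PReg.Num.NS.eq_def]
  exact _root_.True.intro
end

-- part: H93/PReg/DFourRow_mg
section
prune_inst 0x2010100010800000000000000200220000000000000000000000020000008002050008000a0000001020200000000008000000200000000000000400000404010880040070810008800010000000000000000000000000000000008000000000200000000
set_option linter.all false
open scoped Cfsg.Agent.FastGrp

-- part: H93/PReg/DFourCtl
section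
/-!
# Control of the automorphisms of `PΩ⁺₈(q)` (for S4883)
-/

set_option autoImplicit false
set_option linter.unusedSectionVars false

namespace Cfsg.Agent.H93.PReg.Orth

open QuadraticMap Cfsg.Agent.LieClassical.OrthCore Cfsg.Agent.LieClassical.OrthTrans
  Cfsg.Agent.LieClassical.OrthSimple Cfsg.Agent.AutOrth.SemiSim Cfsg.Agent.AutOrth.Main
  Cfsg.Agent.ClassicalGeometry.OrthAut1 Cfsg.Agent.LieClassical.QuadForms
  Cfsg.Agent.LieClassical.OrthFinite Cfsg.Agent.LieClassical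
open Polynomial Matrix Cfsg.Agent.H93.PReg Cfsg

variable {F : Type} [Field F] [Fintype F]

/-- **control** for `PΩ⁺₈(q)` -/
theorem ctl_four : ∃ B : Subgroup (MulAut (POmega F ⇑(plusForm 4 F))), B.index = 3 ∧
    Ctl (ρ ⇑(plusForm 4 F)) (pr ⇑(plusForm 4 F))
      ((Subgroup.center (Omega F ⇑(plusForm 4 F)) × (F ≃+* F)) × (MulAut (POmega F ⇑(plusForm 4 F)) ⧸ B)) := by
  have hG : Good (plusForm 4 F) := good_plus (by norm_num)
  obtain ⟨Γ, hΓ, hind⟩ := Cfsg.Agent.ClassicalGeometry.TrialityFinal.exists_index_three hG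
    fun α x hx hx0 => by
      rcases Cfsg.Agent.ClassicalGeometry.OrthAut3.dichotomy hG (by simp) α hx hx0 with h | h
      · exact Or.inl h
      · exact Or.inr h.2
  refine ⟨Γ.comap (MulAut.congr (pe hG)).toMonoidHom, ?_, ?_⟩
  · rw [Subgroup.index_comap_of_surjective _ (MulAut.congr (pe hG)).surjective, hind]
  · refine ctl_of_index _ (pr_surjective _)
      (fun w g => (ρ ⇑(plusForm 4 F) (g * w.1.1)).charpoly.map (w.2 : F →+* F)) charpoly_ok fun a ha g g' h => ?_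
    refine ctl_ind hG a ?_ g g' h
    rw [ind_iff_pt hG (by simp)]
    exact (hΓ _).1 ha

end Cfsg.Agent.H93.PReg.Orth
end

-- part: H93/PReg/Pairs
section
/-!
# Counting with the characteristic polynomials of products of two tori (for S4883)

* `MO.of_charpoly` : an index set in which every characteristic polynomial occurs at most `c` times;
* `low_of_root`, `high_of_root` : roots of the characteristic polynomial of `f` with `f ^ N = f` and with
  `f ^ N - f` invertible;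
* `Tor F n ε N` : a torus of order `N` in the isometry group of a form of sign `ε` in dimension `2n`;
* `exists_pairs`, `MO_pairs`, `MO_pairs_s`.
-/

set_option autoImplicit false
set_option linter.unusedSectionVars false

namespace Cfsg.Agent.H93.PReg

open Cfsg.Agent.H92.KTools Polynomial Matrix

universe u

section General

variable {S : Type u} [Group S] {A : Set ℕ} {n : ℕ}
  {F : Type*} [Field F] {ι : Type*} [Fintype ι] [DecidableEq ι]
  {H : Type*} [Group H] {ρ : H →* Matrix ι ι F} {π : H →* S} {W : Type*} [Finite W]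

/-- **counting** with characteristic polynomials -/
theorem MO.of_charpoly {κ : Type*} (hC : Ctl ρ π W) (z : κ → H) (X : Finset κ)
    (hX : ∀ k ∈ X, orderOf (π (z k)) ∈ A) (c : ℕ)
    (hc : ∀ k ∈ X, ∀ Y ⊆ X, (∀ l ∈ Y, (ρ (z l)).charpoly = (ρ (z k)).charpoly) → Y.card ≤ c)
    (h : (n - 1) * (c * Nat.card W) < X.card) : MO A n S := by
  classical
  have := Fintype.ofFinite W
  obtain ⟨P, -, hP2⟩ := hC
  refine MO.of_index X (fun k => π (z k)) hX (c * Nat.card W) ?_ h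
  intro k hk Y hYX hY
  have h1 : ∀ l ∈ Y, ∃ w, (ρ (z l)).charpoly = P w (z k) := fun l hl => by
    obtain ⟨a, ha⟩ := hY l hl
    exact hP2 a _ _ ha
  obtain ⟨w₀, -⟩ := hP2 1 (z k) (z k) rfl
  have : Nonempty W := ⟨w₀⟩
  choose! w hw using h1
  have h2 : Y.card ≤ c * (Y.image w).card := by
    apply Finset.card_le_mul_card_image
    intro b hb
    obtain ⟨l₀, hl₀, rfl⟩ := Finset.mem_image.1 hb
    refine hc l₀ (hYX hl₀) _ ((Finset.filter_subset _ _).trans hYX) fun l hl => ?_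
    obtain ⟨hl1, hl2⟩ := Finset.mem_filter.1 hl
    rw [hw l hl1, hw l₀ hl₀, hl2]
  refine h2.trans (Nat.mul_le_mul_left _ ?_)
  rw [Nat.card_eq_fintype_card]
  exact Finset.card_le_univ _

end General

section Spectrum

variable {F L V : Type*} [Field F] [Field L] [Algebra F L] [AddCommGroup V] [Module F V] [FiniteDimensional F V]

theorem matrix_low {ι : Type*} [Fintype ι] [DecidableEq ι] (A : Matrix ι ι F) (N : ℕ) (z : L)
    (hz : aeval z A.charpoly = 0) :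
    z ^ N - z ∈ spectrum L ((A ^ N - A).map (algebraMap F L)) := by
  rw [mem_spectrum_iff] at hz
  have h1 := spectrum.subset_polynomial_aeval (𝕜 := L) (A.map (algebraMap F L)) (X ^ N - X)
  have h2 : z ^ N - z ∈ (fun x => eval x (X ^ N - X : L[X])) '' spectrum L (A.map (algebraMap F L)) :=
    ⟨z, hz, by simp⟩
  have h3 := h1 h2
  have h4 : aeval (A.map (algebraMap F L)) (X ^ N - X : L[X]) = (A ^ N - A).map (algebraMap F L) := by
    rw [map_sub, map_pow, aeval_X, ← RingHom.mapMatrix_apply, ← RingHom.mapMatrix_apply, map_sub, map_pow]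
  rwa [h4] at h3

theorem low_of_root (f : Module.End F V) (N : ℕ) (h : f ^ N = f) (z : L) (hz : aeval z f.charpoly = 0) :
    z ^ N = z := by
  have h0 : LinearMap.toMatrixAlgEquiv (Module.finBasis F V) f ^ N = LinearMap.toMatrixAlgEquiv (Module.finBasis F V) f := by
    rw [← map_pow, h]
  have hz' : aeval z (LinearMap.toMatrixAlgEquiv (Module.finBasis F V) f).charpoly = 0 := by
    have := LinearMap.charpoly_toMatrix f (Module.finBasis F V)
    rw [← this] at hz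
    exact hz
  have h1 := matrix_low _ N z hz'
  rw [h0, sub_self] at h1
  have h2 : ((0 : Matrix (Fin (Module.finrank F V)) (Fin (Module.finrank F V)) F).map (algebraMap F L)) = 0 :=
    Matrix.map_zero _ (map_zero _)
  rw [h2] at h1
  by_contra hne
  apply h1
  rw [spectrum.mem_resolventSet_iff, sub_zero]
  exact (IsUnit.mk0 _ (sub_ne_zero.2 hne)).map _

theorem high_of_root (f : Module.End F V) (N : ℕ) (h : IsUnit (f ^ N - f)) (z : L) (hz : aeval z f.charpoly = 0) :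
    z ^ N ≠ z := by
  have h0 : IsUnit (LinearMap.toMatrixAlgEquiv (Module.finBasis F V) f ^ N -
      LinearMap.toMatrixAlgEquiv (Module.finBasis F V) f) := by
    rw [← map_pow, ← map_sub]
    exact h.map _
  have hz' : aeval z (LinearMap.toMatrixAlgEquiv (Module.finBasis F V) f).charpoly = 0 := by
    have := LinearMap.charpoly_toMatrix f (Module.finBasis F V)
    rw [← this] at hz
    exact hz
  have h1 := matrix_low _ N z hz'
  intro heq
  rw [heq, sub_self] at h1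
  apply h1
  rw [spectrum.mem_resolventSet_iff, map_zero, zero_sub]
  rw [IsUnit.neg_iff]
  rw [← RingHom.mapMatrix_apply]
  exact h0.map _

end Spectrum

end Cfsg.Agent.H93.PReg

namespace Cfsg.Agent.H93.PReg.Orth

open QuadraticMap Cfsg.Agent.LieClassical.OrthCore Cfsg.Agent.LieClassical.OrthForms
open Polynomial Matrix Cfsg.Agent.H93.PReg Cfsg Cfsg.Agent.H92.KTools
open Cfsg.Agent.H182.Sign Cfsg.Agent.H182.Orth

/-- a torus of order `N` in the isometry group of a form of sign `ε` in dimension `2n` -/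
def Tor (F : Type) [Field F] [Finite F] (n : ℕ) (ε : ℤ) (N : ℕ) : Prop :=
  ∃ (R : Type) (_ : CommRing R) (_ : Algebra F R) (_ : Finite R) (Q : QuadraticForm F R) (y : R)
    (L : Type) (_ : Field L) (_ : Algebra F L) (φ : R →ₐ[F] L),
    Sg Q n ε ∧ (∀ v, Q (y * v) = Q v) ∧ orderOf y = N ∧ orderOf (φ y) = N ∧ ∀ k : ℕ, y ^ k ≠ 1 → IsUnit (y ^ k - 1)

section Tori

variable {F : Type} [Field F] [Fintype F]

theorem tor_plus (k : ℕ) (hk : k ≠ 0) : Tor F k 1 (Fintype.card F ^ k - 1) := by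
  obtain ⟨K, _, _, b, hKf, y, hK, hy⟩ := Singer.exists_ext F k hk
  have hrk : Module.finrank F K = k := by rw [Module.finrank_eq_card_basis b, Fintype.card_fin]
  have hs := (sg_hypForm (F := K)).res (F := F)
  rw [hrk, mul_one] at hs
  have ho : orderOf ((((y : K), ((y⁻¹ : Kˣ) : K)) : K × K)) = Fintype.card F ^ k - 1 := by
    rw [Prod.orderOf, orderOf_units, orderOf_units, orderOf_inv, Nat.lcm_self, hy]
  refine ⟨K × K, inferInstance, inferInstance, inferInstance, traceForm F (hypForm K),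
    ((y : K), ((y⁻¹ : Kˣ) : K)), K, inferInstance, inferInstance, AlgHom.fst F K K, hs, ?_, ho, ?_, ?_⟩
  · intro v
    rw [traceForm_apply, traceForm_apply]
    congr 1
    show (y : K) * v.1 * (((y⁻¹ : Kˣ) : K) * v.2) = v.1 * v.2
    have h1 : (y : K) * ((y⁻¹ : Kˣ) : K) = 1 := Units.mul_inv y
    linear_combination v.1 * v.2 * h1
  · show orderOf (y : K) = _
    rw [orderOf_units, hy]
  · intro j hj
    rw [Prod.isUnit_iff]
    have h1 : (y : K) ^ j ≠ 1 := by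
      intro h
      apply hj
      refine Prod.ext h ?_
      show ((y⁻¹ : Kˣ) : K) ^ j = 1
      have h2 : y ^ j = 1 := Units.ext (by simpa using h)
      rw [← Units.val_pow_eq_pow_val, inv_pow, h2, inv_one, Units.val_one]
    have h2 : ((y⁻¹ : Kˣ) : K) ^ j ≠ 1 := by
      intro h
      apply h1
      have h3 : (y⁻¹) ^ j = 1 := Units.ext (by simpa only [_root_.inv_pow, _root_.Units.val_inv_eq_inv_val, _root_.Units.val_pow_eq_pow_val, _root_.Units.val_one, _root_.inv_eq_one] using h)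
      rw [inv_pow, inv_eq_one] at h3
      rw [← Units.val_pow_eq_pow_val, h3, Units.val_one]
    exact ⟨IsUnit.mk0 _ (sub_ne_zero.2 h1), IsUnit.mk0 _ (sub_ne_zero.2 h2)⟩

theorem tor_minus (k : ℕ) (hk : k ≠ 0) : Tor F k (-1) (Fintype.card F ^ k + 1) := by
  obtain ⟨K, _, _, b, hKf, -, hK, -⟩ := Singer.exists_ext F k hk
  have := Fintype.ofFinite K
  obtain ⟨L, _, _, b', hLf, g, hL, hg⟩ := Singer.exists_ext K 2 two_ne_zero
  let _ : Algebra F L := ((algebraMap K L).comp (algebraMap F K)).toAlgebra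
  have : IsScalarTower F K L := IsScalarTower.of_algebraMap_eq fun _ => rfl
  have hKc : Fintype.card K = Fintype.card F ^ k := by rw [← hK, Nat.card_eq_fintype_card]
  have hq : 2 ≤ Fintype.card K := Fintype.one_lt_card
  have hrk : Module.finrank F K = k := by rw [Module.finrank_eq_card_basis b, Fintype.card_fin]
  have hs := (sg_normQ b').res (F := F)
  rw [hrk, mul_one] at hs
  have hnorm : Algebra.norm K ((g : L) ^ (Fintype.card K - 1)) = 1 := by
    rw [map_pow]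
    apply FiniteField.pow_card_sub_one_eq_one
    rw [Ne, Algebra.norm_eq_zero_iff_of_basis b']
    exact g.ne_zero
  have ho : orderOf ((g : L) ^ (Fintype.card K - 1)) = Fintype.card F ^ k + 1 := by
    rw [← Units.val_pow_eq_pow_val, orderOf_units, orderOf_pow_of_dvd (by omega), hg, ← hKc]
    · have h1 : Fintype.card K ^ 2 - 1 = (Fintype.card K + 1) * (Fintype.card K - 1) := by
        have := Nat.sq_sub_sq (Fintype.card K) 1
        simpa only [_root_.one_pow] using this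
      rw [h1, Nat.mul_div_cancel _ (by omega)]
    · rw [hg]
      simpa only [_root_.one_pow] using Nat.sub_dvd_pow_sub_pow (Fintype.card K) 1 2
  refine ⟨L, inferInstance, inferInstance, inferInstance, traceForm F (normQ b'),
    (g : L) ^ (Fintype.card K - 1), L, inferInstance, inferInstance, AlgHom.id F L, hs, ?_, ho, ho, ?_⟩
  · intro v
    rw [traceForm_apply, traceForm_apply]
    congr 1
    rw [normQ_apply, normQ_apply, map_mul, hnorm, one_mul]
  · intro j hj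
    exact IsUnit.mk0 _ (sub_ne_zero.2 hj)

end Tori

section Pairs

variable {ι : Type} [Fintype ι] [DecidableEq ι] {F : Type} [Field F] [Fintype F]

/-- roots of the characteristic polynomial of a multiplication -/
theorem root_lmul {R L : Type*} [CommRing R] [Algebra F R] [Finite R] [Field L] [Algebra F L] (φ : R →ₐ[F] L) (r : R) :
    aeval (φ r) (LinearMap.charpoly (Algebra.lmul F R r)) = 0 := by
  have : Module.Finite F R := Module.Finite.of_finite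
  have h1 := LinearMap.aeval_self_charpoly (Algebra.lmul F R r)
  rw [Polynomial.aeval_algHom_apply] at h1
  have h2 : aeval r (LinearMap.charpoly (Algebra.lmul F R r)) = 0 := by
    have := LinearMap.congr_fun h1 1
    simpa only [_root_.Algebra.coe_lmul_eq_mul, _root_.LinearMap.mul_apply_apply, _root_.mul_one, _root_.LinearMap.zero_apply] using this
  rw [Polynomial.aeval_algHom_apply, h2, map_zero]

theorem lmul_prod {R R' : Type*} [CommRing R] [Algebra F R] [CommRing R'] [Algebra F R'] (a : R) (b : R') :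
    Algebra.lmul F (R × R') (a, b) = (Algebra.lmul F R a).prodMap (Algebra.lmul F R' b) := by
  apply LinearMap.ext
  intro v
  rfl

theorem rho_injective (Q : (ι → F) → F) : Function.Injective (ρ Q) := fun _ _ hab =>
  Subtype.ext (Subtype.ext (Units.ext hab))

theorem dvd_two_mul (N : ℕ) : N ∣ 2 * (N / Nat.gcd N 2) := by
  calc N = Nat.gcd N 2 * (N / Nat.gcd N 2) := (Nat.mul_div_cancel' (Nat.gcd_dvd_left _ _)).symm
    _ ∣ 2 * (N / Nat.gcd N 2) := Nat.mul_dvd_mul_right (Nat.gcd_dvd_right _ _) _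

/-- two tori -/
theorem exists_pairs {Q : QuadraticForm F (ι → F)} {n₁ n₂ : ℕ} {ε₁ ε₂ : ℤ} {N₁ N₂ q' : ℕ}
    (hQ : Sg Q (n₁ + n₂) (ε₁ * ε₂)) (hm : 3 ≤ n₁ + n₂) (h1 : Tor F n₁ ε₁ N₁) (h2 : Tor F n₂ ε₂ N₂)
    (hlow : N₂ ∣ 2 * (q' - 1)) (hq' : 1 ≤ q') (hN₁ : N₁ ≠ 0) :
    ∃ (z : ℕ × ℕ → Omega F ⇑Q) (L : Type) (_ : Field L) (_ : Algebra F L) (x : L),
      orderOf x = N₁ / Nat.gcd N₁ 2 ∧ (∀ k, aeval (x ^ k.1) (ρ ⇑Q (z k)).charpoly = 0) ∧
      (∀ k, z k ^ ((N₁ / Nat.gcd N₁ 2) * (N₂ / Nat.gcd N₂ 2)) = 1) ∧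
      ∀ k, ¬ N₁ ∣ 2 * k.1 * (q' - 1) → ∀ Y : Finset (ℕ × ℕ),
        (∀ l ∈ Y, l.1 < N₁ / Nat.gcd N₁ 2 ∧ l.2 < N₂ / Nat.gcd N₂ 2 ∧ ¬ N₁ ∣ 2 * l.1 * (q' - 1) ∧
          (ρ ⇑Q (z l)).charpoly = (ρ ⇑Q (z k)).charpoly) → Y.card ≤ 2 * n₁ * (2 * n₂) := by
  classical
  obtain ⟨R₁, _, _, _, Q₁, y₁, L₁, _, _, φ₁, hs₁, hy₁, ho₁, hφ₁, hu₁⟩ := h1
  obtain ⟨R₂, _, _, _, Q₂, y₂, L₂, _, _, φ₂, hs₂, hy₂, ho₂, hφ₂, -⟩ := h2
  have : Module.Finite F R₁ := Module.Finite.of_finite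
  have : Module.Finite F R₂ := Module.Finite.of_finite
  obtain ⟨e, he⟩ := hQ.exists_equiv (hs₁.prod hs₂)
  have hpow₁ : ∀ (i : ℕ) (v : R₁), Q₁ (y₁ ^ i * v) = Q₁ v := by
    intro i
    induction i with
    | zero => intro v; simp
    | succ i ih => intro v; rw [pow_succ, mul_assoc, ih, hy₁]
  have hpow₂ : ∀ (i : ℕ) (v : R₂), Q₂ (y₂ ^ i * v) = Q₂ v := by
    intro i
    induction i with
    | zero => intro v; simp
    | succ i ih => intro v; rw [pow_succ, mul_assoc, ih, hy₂]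
  have hz : ∀ k : ℕ × ℕ, ∃ z : Omega F ⇑Q, (Matrix.toLinAlgEquiv' (ρ ⇑Q z) : Module.End F (ι → F)) =
      e.symm.conj (Algebra.lmul F (R₁ × R₂) ((y₁ ^ 2) ^ k.1, (y₂ ^ 2) ^ k.2)) := by
    intro k
    obtain ⟨z, hz⟩ := exists_omega Q hQ.nondeg (by rw [card_of_sg hQ]; omega) (⇑(prodForm Q₁ Q₂)) e 1 one_ne_zero
      (fun u => by rw [he, one_mul]) (Algebra.lmul F (R₁ × R₂) (y₁ ^ k.1, y₂ ^ k.2)) (fun v => by
        rw [prodForm_apply, prodForm_apply]
        exact congrArg₂ (· + ·) (hpow₁ _ _) (hpow₂ _ _))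
    refine ⟨z, ?_⟩
    simp only [hz, ← map_pow, Prod.pow_mk, ← pow_mul, ← pow_mul, ← pow_mul, ← pow_mul, mul_comm k.1, mul_comm k.2]
  choose z hz using hz
  have hchar : ∀ k, (ρ ⇑Q (z k)).charpoly = LinearMap.charpoly (Algebra.lmul F R₁ ((y₁ ^ 2) ^ k.1)) *
      LinearMap.charpoly (Algebra.lmul F R₂ ((y₂ ^ 2) ^ k.2)) := by
    intro k
    rw [← LinearMap.charpoly_prodMap, ← lmul_prod, ← LinearEquiv.charpoly_conj e.symm, ← hz]
    exact (Matrix.charpoly_toLin' _).symm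
  have hr₁ : ∀ i, aeval ((φ₁ y₁ ^ 2) ^ i) (LinearMap.charpoly (Algebra.lmul F R₁ ((y₁ ^ 2) ^ i))) = 0 := by
    intro i
    rw [← map_pow, ← map_pow]
    exact root_lmul φ₁ _
  have hr₂ : ∀ i, aeval ((φ₂ y₂ ^ 2) ^ i) (LinearMap.charpoly (Algebra.lmul F R₂ ((y₂ ^ 2) ^ i))) = 0 := by
    intro i
    rw [← map_pow, ← map_pow]
    exact root_lmul φ₂ _
  have hx₁ : orderOf (φ₁ y₁ ^ 2) = N₁ / Nat.gcd N₁ 2 := orderOf_sq_eq _ _ hφ₁
  have hx₂ : orderOf (φ₂ y₂ ^ 2) = N₂ / Nat.gcd N₂ 2 := orderOf_sq_eq _ _ hφ₂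
  refine ⟨z, L₁, inferInstance, inferInstance, φ₁ y₁ ^ 2, hx₁, fun k => ?_, fun k => ?_, fun k hk Y hY => ?_⟩
  · rw [hchar, map_mul, hr₁, zero_mul]
  · apply rho_injective
    apply (Matrix.toLinAlgEquiv' : Matrix ι ι F ≃ₐ[F] Module.End F (ι → F)).injective
    ((conv => enter [@2, @6]; rw [map_pow]); simp only [map_pow]; simp only [hz]; simp only [H182.Orth.conj_pow]; simp only [← map_pow]; simp only [Prod.pow_mk]; (conv => enter [@3, @6]; rw [map_one]); simp only [map_one])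
    have e1 : ((y₁ ^ 2) ^ k.1) ^ (N₁ / Nat.gcd N₁ 2 * (N₂ / Nat.gcd N₂ 2)) = 1 := by
      rw [← pow_mul, ← pow_mul, ← orderOf_dvd_iff_pow_eq_one, ho₁]
      refine (dvd_two_mul _).trans ?_
      exact ⟨k.1 * (N₂ / Nat.gcd N₂ 2), by ring⟩
    have e2 : ((y₂ ^ 2) ^ k.2) ^ (N₁ / Nat.gcd N₁ 2 * (N₂ / Nat.gcd N₂ 2)) = 1 := by
      rw [← pow_mul, ← pow_mul, ← orderOf_dvd_iff_pow_eq_one, ho₂]
      refine (dvd_two_mul _).trans ?_
      exact ⟨k.2 * (N₁ / Nat.gcd N₁ 2), by ring⟩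
    rw [e1, e2]
    have h3 : Algebra.lmul F (R₁ × R₂) (1, 1) = 1 := map_one _
    rw [h3]
    exact H182.Orth.conj_one _
  · set! c₁ := LinearMap.charpoly (Algebra.lmul F R₁ ((y₁ ^ 2) ^ k.1)) with hc₁
    set! c₂ := LinearMap.charpoly (Algebra.lmul F R₂ ((y₂ ^ 2) ^ k.2)) with hc₂
    have hc₁0 : c₁ ≠ 0 := (LinearMap.charpoly_monic _).ne_zero
    have hc₂0 : c₂ ≠ 0 := (LinearMap.charpoly_monic _).ne_zero
    -- the roots of `c₂` are low, the roots of `c₁` are high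
    have hlow₂ : ∀ w : L₁, aeval w c₂ = 0 → w ^ q' = w := by
      intro w hw
      refine low_of_root (Algebra.lmul F R₂ ((y₂ ^ 2) ^ k.2)) q' ?_ w hw
      rw [← map_pow]
      congr 1
      have h3 : y₂ ^ (2 * (q' - 1)) = 1 := by
        rw [← orderOf_dvd_iff_pow_eq_one, ho₂]
        exact hlow
      have h4 : ((y₂ ^ 2) ^ k.2) ^ q' = (y₂ ^ (2 * (q' - 1))) ^ k.2 * (y₂ ^ 2) ^ k.2 := by
        obtain ⟨q'', rfl⟩ : ∃ q'', q' = q'' + 1 := ⟨q' - 1, by omega⟩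
        rw [Nat.add_sub_cancel]
        ring
      rw [h4, h3, one_pow, one_mul]
    have hhigh₁ : ∀ w : L₂, aeval w c₁ = 0 → w ^ q' ≠ w := by
      intro w hw
      refine high_of_root (Algebra.lmul F R₁ ((y₁ ^ 2) ^ k.1)) q' ?_ w hw
      rw [← map_pow, ← map_sub]
      apply IsUnit.map
      have h4 : ((y₁ ^ 2) ^ k.1) ^ q' - (y₁ ^ 2) ^ k.1 = (y₁ ^ 2) ^ k.1 * (y₁ ^ (2 * k.1 * (q' - 1)) - 1) := by
        obtain ⟨q'', rfl⟩ : ∃ q'', q' = q'' + 1 := ⟨q' - 1, by omega⟩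
        rw [Nat.add_sub_cancel]
        ring
      rw [h4]
      refine IsUnit.mul (IsUnit.pow _ (IsUnit.pow _ ?_)) (hu₁ _ ?_)
      · exact IsUnit.of_pow_eq_one (by rw [← ho₁]; exact pow_orderOf_eq_one y₁) hN₁
      · rw [Ne, ← orderOf_dvd_iff_pow_eq_one, ho₁]
        exact hk
    refine (Finset.card_le_card_of_injOn (t := ((c₁.map (algebraMap F L₁)).roots.toFinset ×ˢ
      (c₂.map (algebraMap F L₂)).roots.toFinset)) (fun l => ((φ₁ y₁ ^ 2) ^ l.1, (φ₂ y₂ ^ 2) ^ l.2)) ?_ ?_).trans ?_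
    · intro l hl
      obtain ⟨hl1, hl2, hl3, hl4⟩ := hY l hl
      rw [hchar, hchar k] at hl4
      rw [Finset.mem_coe, Finset.mem_product]
      constructor
      · rw [Multiset.mem_toFinset, mem_roots ((Polynomial.map_ne_zero_iff (algebraMap F L₁).injective).2 hc₁0),
          IsRoot.def, eval_map_algebraMap]
        have h3 : aeval ((φ₁ y₁ ^ 2) ^ l.1) (c₁ * c₂) = 0 := by
          rw [hc₁, hc₂, ← hl4, map_mul, hr₁, zero_mul]
        rw [map_mul, mul_eq_zero] at h3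
        refine h3.resolve_right fun h4 => ?_
        have h5 := hlow₂ _ h4
        apply hl3
        rw [← hφ₁]
        apply orderOf_dvd_of_pow_eq_one
        have h6 : ((φ₁ y₁ ^ 2) ^ l.1) ^ q' = φ₁ y₁ ^ (2 * l.1 * (q' - 1)) * (φ₁ y₁ ^ 2) ^ l.1 := by
          obtain ⟨q'', rfl⟩ : ∃ q'', q' = q'' + 1 := ⟨q' - 1, by omega⟩
          rw [Nat.add_sub_cancel]
          ring
        rw [h6] at h5
        have h7 : (φ₁ y₁ ^ 2) ^ l.1 ≠ 0 := by
          intro h8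
          have h9 : φ₁ y₁ = 0 := by simpa only [_root_.ne_eq, _root_.OfNat.ofNat_ne_zero, _root_.not_false_eq_true, _root_.pow_eq_zero_iff] using (eq_zero_of_pow_eq_zero h8)
          have h10 := pow_orderOf_eq_one (φ₁ y₁)
          rw [h9, ← h9, hφ₁, h9, zero_pow hN₁] at h10
          exact zero_ne_one h10
        exact mul_right_cancel₀ h7 (by rw [h5, one_mul])
      · rw [Multiset.mem_toFinset, mem_roots ((Polynomial.map_ne_zero_iff (algebraMap F L₂).injective).2 hc₂0),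
          IsRoot.def, eval_map_algebraMap]
        have h3 : aeval ((φ₂ y₂ ^ 2) ^ l.2) (c₁ * c₂) = 0 := by
          rw [hc₁, hc₂, ← hl4, map_mul, hr₂, mul_zero]
        rw [map_mul, mul_eq_zero] at h3
        refine h3.resolve_left fun h4 => hhigh₁ _ h4 ?_
        have h6 : ((φ₂ y₂ ^ 2) ^ l.2) ^ q' = (φ₂ y₂ ^ (2 * (q' - 1))) ^ l.2 * (φ₂ y₂ ^ 2) ^ l.2 := by
          obtain ⟨q'', rfl⟩ : ∃ q'', q' = q'' + 1 := ⟨q' - 1, by omega⟩
          rw [Nat.add_sub_cancel]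
          ring
        have h7 : φ₂ y₂ ^ (2 * (q' - 1)) = 1 := by
          rw [← orderOf_dvd_iff_pow_eq_one, hφ₂]
          exact hlow
        rw [h6, h7, one_pow, one_mul]
    · intro a ha b hb hab
      obtain ⟨ha1, ha2, -, -⟩ := hY a ha
      obtain ⟨hb1, hb2, -, -⟩ := hY b hb
      rw [Prod.mk.injEq] at hab
      refine Prod.ext (pow_injOn_Iio_orderOf ?_ ?_ hab.1) (pow_injOn_Iio_orderOf ?_ ?_ hab.2)
      · rw [hx₁]; exact ha1
      · rw [hx₁]; exact hb1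
      · rw [hx₂]; exact ha2
      · rw [hx₂]; exact hb2
    · rw [Finset.card_product]
      refine Nat.mul_le_mul ?_ ?_
      · refine (Multiset.toFinset_card_le _).trans ((card_roots' _).trans ?_)
        rw [natDegree_map, LinearMap.charpoly_natDegree, hs₁.dim]
      · refine (Multiset.toFinset_card_le _).trans ((card_roots' _).trans ?_)
        rw [natDegree_map, LinearMap.charpoly_natDegree, hs₂.dim]

/-- **counting with two tori** -/
theorem MO_pairs_gen {Q : QuadraticForm F (ι → F)} {W : Type} [Finite W] {n₁ n₂ : ℕ} {ε₁ ε₂ : ℤ}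
    {N₁ N₂ M₁ M₂ q' d n B : ℕ} {A : Set ℕ}
    (hQ : Sg Q (n₁ + n₂) (ε₁ * ε₂)) (hm : 3 ≤ n₁ + n₂) (hC : Ctl (ρ ⇑Q) (pr ⇑Q) W)
    (h1 : Tor F n₁ ε₁ N₁) (h2 : Tor F n₂ ε₂ N₂)
    (hlow : N₂ ∣ 2 * (q' - 1)) (hq' : 1 ≤ q') (hN₁ : N₁ ≠ 0) (hM₁ : N₁ / Nat.gcd N₁ 2 = M₁)
    (hM₂ : N₂ / Nat.gcd N₂ 2 = M₂) (hd : d ∣ M₁) (hhigh : ∀ i, ¬ d ∣ i → ¬ N₁ ∣ 2 * i * (q' - 1))
    (hA : ∀ (z : Omega F ⇑Q) (L : Type) (_ : Field L) (_ : Algebra F L) (x : L) (i : ℕ), orderOf x = M₁ →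
      aeval (x ^ i) (ρ ⇑Q z).charpoly = 0 → z ^ (M₁ * M₂) = 1 → ¬ d ∣ i → orderOf (pr ⇑Q z) ∈ A)
    (hB : Nat.card W ≤ B) (h : (n - 1) * (2 * n₁ * (2 * n₂) * B) < (M₁ - M₁ / d) * M₂) :
    MO A n (POmega F ⇑Q) := by
  classical
  obtain ⟨z, L, _, _, x, hx, hz1, hz2, hz3⟩ := exists_pairs hQ hm h1 h2 hlow hq' hN₁
  rw [hM₁] at hx hz2 hz3
  rw [hM₂] at hz2 hz3
  refine MO.of_charpoly hC z (((Finset.range M₁).filter fun k => ¬ d ∣ k) ×ˢ Finset.range M₂) ?_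
    (2 * n₁ * (2 * n₂)) ?_ ?_
  · intro k hk
    rw [Finset.mem_product, Finset.mem_filter] at hk
    exact hA _ L _ _ x k.1 hx (hz1 k) (hz2 k) hk.1.2
  · intro k hk Y hYX hY
    rw [Finset.mem_product, Finset.mem_filter] at hk
    refine hz3 k (hhigh _ hk.1.2) Y fun l hl => ?_
    have hl' := hYX hl
    rw [Finset.mem_product, Finset.mem_filter, Finset.mem_range, Finset.mem_range] at hl'
    exact ⟨hl'.1.1, hl'.2, hhigh _ hl'.1.2, hY l hl⟩
  · rw [Finset.card_product, card_filter_dvd _ _ hd, Finset.card_range]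
    exact lt_of_le_of_lt (Nat.mul_le_mul_left _ (Nat.mul_le_mul_left _ hB)) h

theorem MO_pairs {Q : QuadraticForm F (ι → F)} {W : Type} [Finite W] {n₁ n₂ : ℕ} {ε₁ ε₂ : ℤ}
    {N₁ N₂ M₁ M₂ q' d n B p : ℕ}
    (hQ : Sg Q (n₁ + n₂) (ε₁ * ε₂)) (hm : 3 ≤ n₁ + n₂) (hC : Ctl (ρ ⇑Q) (pr ⇑Q) W)
    (h1 : Tor F n₁ ε₁ N₁) (h2 : Tor F n₂ ε₂ N₂)
    (hlow : N₂ ∣ 2 * (q' - 1)) (hq' : 1 ≤ q') (hN₁ : N₁ ≠ 0) (hM₁ : N₁ / Nat.gcd N₁ 2 = M₁)
    (hM₂ : N₂ / Nat.gcd N₂ 2 = M₂) (hd : d ∣ M₁) (hhigh : ∀ i, ¬ d ∣ i → ¬ N₁ ∣ 2 * i * (q' - 1))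
    (hp : p.Prime) (hp1 : ¬ p ∣ M₁) (hp2 : ¬ p ∣ M₂)
    (hB : Nat.card W ≤ B) (h : (n - 1) * (2 * n₁ * (2 * n₂) * B) < (M₁ - M₁ / d) * M₂) :
    MO (Reg p) n (POmega F ⇑Q) := by
  refine MO_pairs_gen hQ hm hC h1 h2 hlow hq' hN₁ hM₁ hM₂ hd hhigh ?_ hB h
  intro z L _ _ x i _ _ hz _ hpz
  have h3 : p ∣ M₁ * M₂ := hpz.trans ((orderOf_map_dvd _ _).trans (orderOf_dvd_of_pow_eq_one hz))
  rcases hp.dvd_mul.1 h3 with h4 | h4
  · exact hp1 h4
  · exact hp2 h4

theorem MO_pairs_s {Q : QuadraticForm F (ι → F)} {W : Type} [Finite W] {n₁ n₂ : ℕ} {ε₁ ε₂ : ℤ}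
    {N₁ N₂ M₁ M₂ q' s n B : ℕ}
    (hQ : Sg Q (n₁ + n₂) (ε₁ * ε₂)) (hm : 3 ≤ n₁ + n₂) (hC : Ctl (ρ ⇑Q) (pr ⇑Q) W)
    (h1 : Tor F n₁ ε₁ N₁) (h2 : Tor F n₂ ε₂ N₂)
    (hlow : N₂ ∣ 2 * (q' - 1)) (hq' : 1 ≤ q') (hN₁ : N₁ ≠ 0) (hM₁ : N₁ / Nat.gcd N₁ 2 = M₁)
    (hM₂ : N₂ / Nat.gcd N₂ 2 = M₂) (hd : s ∣ M₁) (hhigh : ∀ i, ¬ s ∣ i → ¬ N₁ ∣ 2 * i * (q' - 1))
    (hs : s.Prime) (hsc : ¬ s ∣ Nat.gcd 2 (Fintype.card F - 1))
    (hB : Nat.card W ≤ B) (h : (n - 1) * (2 * n₁ * (2 * n₂) * B) < (M₁ - M₁ / s) * M₂) :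
    MO {k | s ∣ k ∧ k ∣ M₁ * M₂} n (POmega F ⇑Q) := by
  refine MO_pairs_gen hQ hm hC h1 h2 hlow hq' hN₁ hM₁ hM₂ hd hhigh ?_ hB h
  intro z L _ _ x i hx hxz hz hsi
  refine ⟨?_, (orderOf_map_dvd _ _).trans (orderOf_dvd_of_pow_eq_one hz)⟩
  have h3 : s ∣ orderOf (x ^ i) := by
    have hi0 : i ≠ 0 := by
      rintro rfl
      exact hsi (dvd_zero _)
    rw [orderOf_pow' x hi0, hx]
    have h4 : s ∣ (M₁.gcd i) * (M₁ / M₁.gcd i) := by
      rw [Nat.mul_div_cancel' (Nat.gcd_dvd_left _ _)]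
      exact hd
    exact (hs.dvd_mul.1 h4).resolve_left fun h5 => hsi (h5.trans (Nat.gcd_dvd_right _ _))
  have h4 : s ∣ orderOf z := h3.trans (orderOf_root_dvd (ρ := ρ ⇑Q) z _ hxz)
  have h5 : orderOf z ∣ orderOf (pr ⇑Q z) * Nat.gcd 2 (Fintype.card F - 1) := by
    apply orderOf_dvd_of_pow_eq_one
    rw [pow_mul]
    apply ker_sq hQ.nondeg (by rw [card_of_sg hQ]; omega)
    rw [map_pow, pow_orderOf_eq_one]
  exact (hs.dvd_mul.1 (h4.trans h5)).resolve_right hsc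

end Pairs

end Cfsg.Agent.H93.PReg.Orth
end

-- part: H93/PReg/NumDFour
section
/-!
# Arithmetic for `PΩ⁺₈(q)` (for S4883)
-/

set_option autoImplicit false

namespace Cfsg.Agent.H93.PReg.NumD4

open Finset Cfsg.Agent.H93.PReg.Num

/-- the constant -/
def K4 (q f : ℕ) : ℕ := 36 * (Nat.gcd 2 (q - 1)) ^ 3 * f

/-- the inequality for one of two products of tori -/
def Ineq4 (p K q : ℕ) : Prop :=
  (¬ p ∣ q ^ 3 - 1 ∧ (p - 1) * K < (q ^ 3 - q) * (q - 1)) ∨ (¬ p ∣ q ^ 3 + 1 ∧ (p - 1) * K < (q ^ 3 - q) * (q + 1))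

theorem K4_le (q f : ℕ) : K4 q f ≤ 288 * f := by
  have h1 : Nat.gcd 2 (q - 1) ≤ 2 := Nat.gcd_le_left _ (by norm_num)
  have h2 := Nat.pow_le_pow_left h1 3
  calc K4 q f = 36 * (Nat.gcd 2 (q - 1)) ^ 3 * f := rfl
    _ ≤ 36 * 2 ^ 3 * f := Nat.mul_le_mul_right _ (Nat.mul_le_mul_left _ h2)
    _ = 288 * f := by norm_num

theorem big4 {p q f : ℕ} (hp : p.Prime) (h5 : 5 ≤ p) (hf : 1 ≤ f) (h : 18 * f ≤ q) (hle : (p - 1) ^ 2 ≤ q ^ 4) :
    Ineq4 p (K4 q f) q := by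
  have h1 : p - 1 ≤ q ^ 2 := by
    have h2 : (p - 1) ^ 2 ≤ (q ^ 2) ^ 2 := by
      calc (p - 1) ^ 2 ≤ q ^ 4 := hle
        _ = (q ^ 2) ^ 2 := by ring
    exact (Nat.pow_le_pow_iff_left two_ne_zero).1 h2
  have h18 : 18 ≤ q := by omega
  have key : (p - 1) * K4 q f < (q ^ 3 - q) * (q - 1) := by
    obtain ⟨a, rfl⟩ : ∃ a, q = a + 18 := ⟨q - 18, by omega⟩
    have h3 : (p - 1) * K4 (a + 18) f ≤ (a + 18) ^ 2 * (16 * (a + 18)) :=
      Nat.mul_le_mul h1 ((K4_le _ _).trans (by omega))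
    have h4 : (a + 18) ^ 3 - (a + 18) = (a + 18) * ((a + 18) ^ 2 - 1) := by
      rw [Nat.mul_sub]
      (with_reducible congr 1)
      · ring
      · ring
    have h5 : (a + 18) ^ 2 - 1 = (a + 17) * (a + 19) := by
      have : (a + 18) ^ 2 = (a + 17) * (a + 19) + 1 := by ring
      omega
    rw [h4, h5, show a + 18 - 1 = a + 17 by omega]
    refine lt_of_le_of_lt h3 ?_
    nlinarith only [h4, h5]
  by_cases h2 : p ∣ q ^ 3 + 1
  · exact Or.inl ⟨not_dvd_both hp h5 h2, key⟩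
  · exact Or.inr ⟨h2, key.trans_le (Nat.mul_le_mul_left _ (by omega))⟩

/-- the small cases `(r, f)` with a bound for `p` -/
def small4 : List ((ℕ × ℕ) × ℕ) :=
  [((2,1),1), ((2,2),1), ((2,3),1), ((2,4),3), ((2,5),12), ((2,6),46), ((3,1),1), ((3,2),1), ((3,3),9), ((5,1),1),
    ((5,2),7), ((7,1),1), ((11,1),2), ((13,1),2), ((17,1),4)]

theorem finite_check4 : ((List.range 108).all fun i => (List.range 6).all fun k =>
    !isP (i + 2) || decide (18 * (k + 1) ≤ (i + 2) ^ (k + 1)) ||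
      (small4.map Prod.fst).contains (i + 2, k + 1)) = true := by
  decide +kernel

theorem f_bound4 (f : ℕ) (hf : 7 ≤ f) : 18 * f ≤ 2 ^ f := by
  induction f, hf using Nat.le_induction with
  | base => norm_num
  | succ n hn ih =>
    have h1 : 2 ^ (n + 1) = 2 * 2 ^ n := by ring
    rw [h1]
    omega

/-- **the general inequality holds up to the small cases** -/
theorem big_or_small4 {r f : ℕ} (hr : r.Prime) (hf : 1 ≤ f) :
    18 * f ≤ r ^ f ∨ ∃ P, ((r, f), P) ∈ small4 := by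
  have hr2 := hr.two_le
  by_cases h7 : 7 ≤ f
  · exact Or.inl ((f_bound4 f h7).trans (Nat.pow_le_pow_left hr2 f))
  by_cases h108 : 108 ≤ r
  · left
    calc 18 * f ≤ 108 := by omega
      _ ≤ r := h108
      _ ≤ r ^ f := Nat.le_self_pow (by omega) r
  have h1 := finite_check4
  rw [List.all_eq_true] at h1
  have h2 := h1 (r - 2) (List.mem_range.2 (by omega))
  rw [List.all_eq_true] at h2
  have h3 := h2 (f - 1) (List.mem_range.2 (by omega))
  rw [show r - 2 + 2 = r by omega, show f - 1 + 1 = f by omega, isP_of_prime hr] at h3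
  simpa only [_root_.Bool.not_true, _root_.Bool.false_or, _root_.List.contains_eq_mem, _root_.List.mem_map, _root_.Prod.exists, _root_.exists_and_right, _root_.exists_eq_right, _root_.Bool.or_eq_true, _root_.decide_eq_true_eq] using h3

/-- the inequality in a decidable form -/
def chk4 (p K q : ℕ) : Bool := ((q ^ 3 - 1) % p != 0 && Nat.blt ((p - 1) * K) ((q ^ 3 - q) * (q - 1))) ||
  ((q ^ 3 + 1) % p != 0 && Nat.blt ((p - 1) * K) ((q ^ 3 - q) * (q + 1)))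

theorem chk4_sound {p K q : ℕ} (h : chk4 p K q = true) : Ineq4 p K q := by
  unfold chk4 at h
  simp only [Bool.or_eq_true, Bool.and_eq_true, bne_iff_ne, ne_eq, Nat.blt_eq] at h
  rcases h with ⟨h1, h2⟩ | ⟨h1, h2⟩
  · exact Or.inl ⟨fun hd => h1 (Nat.mod_eq_zero_of_dvd hd), h2⟩
  · exact Or.inr ⟨fun hd => h1 (Nat.mod_eq_zero_of_dvd hd), h2⟩

/-- the exceptions -/
def exc4 : List (ℕ × ℕ × ℕ) :=
  [(2,1,5),(2,2,5),(2,2,17),(3,1,5),(3,2,41),(5,1,5),(5,1,13),(11,1,61)]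

/-- the check for one `q` -/
def chkRow4 (r f P q K M : ℕ) : Bool :=
  Nat.blt (q ^ 4) ((90 * P) ^ 2) &&
  (List.range P).all fun i => (List.range 90).all fun j =>
    Nat.blt (90 * i + j) 4 || !(q % (90 * i + j + 1) == 0 || M % ((90 * i + j + 1) * (90 * i + j + 1)) == 0) ||
      !isP (90 * i + j + 1) || exc4.contains (r, f, 90 * i + j + 1) || chk4 (90 * i + j + 1) K q

theorem chkRow4_sound {r f P q K M p : ℕ}
    (h : chkRow4 r f P q K M = true) (hp : p.Prime) (h5 : 5 ≤ p) (hle : (p - 1) ^ 2 ≤ q ^ 4)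
    (hd : p ∣ q ∨ p ^ 2 ∣ M) : (r, f, p) ∈ exc4 ∨ Ineq4 p K q := by
  unfold chkRow4 at h
  simp only [Bool.and_eq_true, Nat.blt_eq, List.all_eq_true, List.mem_range] at h
  obtain ⟨h1, h2⟩ := h
  have h3 : p - 1 < 90 * P := by
    by_contra hc
    push Not at hc
    have := Nat.pow_le_pow_left hc 2
    omega
  have h4 := h2 ((p - 1) / 90) (Nat.div_lt_of_lt_mul h3) ((p - 1) % 90) (Nat.mod_lt _ (by norm_num))
  rw [show 90 * ((p - 1) / 90) + (p - 1) % 90 = p - 1 from Nat.div_add_mod _ _, show p - 1 + 1 = p by omega] at h4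
  simp only [Bool.or_eq_true, Nat.blt_eq, isP_of_prime hp, Bool.not_true, Bool.false_eq_true, or_false,
    Bool.not_eq_true', Bool.or_eq_false_iff, beq_eq_false_iff_ne, ne_eq] at h4
  rcases h4 with ((h4 | h4) | h4) | h4
  · omega
  · exfalso
    rcases hd with hd | hd
    · exact h4.1 (Nat.mod_eq_zero_of_dvd hd)
    · rw [pow_two] at hd
      exact h4.2 (Nat.mod_eq_zero_of_dvd hd)
  · left
    simpa using h4
  · right
    exact chk4_sound h4

theorem small_check4 : (small4.all fun x => chkRow4 x.1.1 x.1.2 x.2 (x.1.1 ^ x.1.2) (K4 (x.1.1 ^ x.1.2) x.1.2)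
    (((x.1.1 ^ x.1.2) ^ 4 - 1) * NS (x.1.1 ^ x.1.2) 3)) = true := by
  decide +kernel

/-- **the small cases** -/
theorem small_case4 {r f P p : ℕ} (h : ((r, f), P) ∈ small4) (hp : p.Prime) (h5 : 5 ≤ p)
    (hle : (p - 1) ^ 2 ≤ (r ^ f) ^ 4)
    (hd : p ∣ r ^ f ∨ p ^ 2 ∣ ((r ^ f) ^ 4 - 1) * ∏ i ∈ range (4 - 1), ((r ^ f) ^ (2 * (i + 1)) - 1)) :
    (r, f, p) ∈ exc4 ∨ Ineq4 p (K4 (r ^ f) f) (r ^ f) := by
  have h1 := small_check4
  rw [List.all_eq_true] at h1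
  rw [← NS_eq] at hd
  exact chkRow4_sound ((h1 _ h :)) hp h5 hle hd

/-- **arithmetic of the row** -/
theorem main4 {r f p : ℕ} (hr : r.Prime) (hf : 1 ≤ f) (hp : p.Prime) (h5 : 5 ≤ p) (hle : (p - 1) ^ 2 ≤ (r ^ f) ^ 4)
    (hd : p ∣ r ^ f ∨ p ^ 2 ∣ ((r ^ f) ^ 4 - 1) * ∏ i ∈ range (4 - 1), ((r ^ f) ^ (2 * (i + 1)) - 1)) :
    (r, f, p) ∈ exc4 ∨ Ineq4 p (K4 (r ^ f) f) (r ^ f) := by
  rcases big_or_small4 hr hf with h | ⟨P, h⟩
  · exact Or.inr (big4 hp h5 hf h hle)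
  · exact small_case4 h hp h5 hle hd

end Cfsg.Agent.H93.PReg.NumD4
end

-- part: H93/PReg/DFourRow
section
/-!
# The row of `PΩ⁺₈(q)` (for S4883)
-/

set_option autoImplicit false
set_option linter.unusedSectionVars false

namespace Cfsg.Agent.H93.PReg.Orth

open QuadraticMap Cfsg.Agent.LieClassical.OrthCore Cfsg.Agent.LieClassical.OrthForms
  Cfsg.Agent.LieClassical.OrthTrans Cfsg.Agent.LieClassical.OrthSimple
open Polynomial Matrix Cfsg.Agent.H93.PReg Cfsg Cfsg.Agent.H92.KTools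
open Cfsg.Agent.H182.Sign Cfsg.Agent.H182.Orth Cfsg.Agent.AutOrth.Main

section Arith

theorem odd_plus (q : ℕ) : Nat.Coprime (q ^ 2 + q + 1) 2 := by
  rw [Nat.coprime_two_right]
  have h : Even (q * (q + 1)) := Nat.even_mul_succ_self q
  have h1 : q ^ 2 + q + 1 = q * (q + 1) + 1 := by ring
  rw [h1]
  exact h.add_one

theorem cube_sub {q : ℕ} (hq : 1 ≤ q) : q ^ 3 - 1 = (q ^ 2 + q + 1) * (q - 1) := by
  obtain ⟨a, rfl⟩ : ∃ a, q = a + 1 := ⟨q - 1, by omega⟩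
  have h1 : (a + 1) ^ 3 = ((a + 1) ^ 2 + (a + 1) + 1) * a + 1 := by ring
  rw [h1, Nat.add_sub_cancel, Nat.add_sub_cancel]

theorem cube_add {q : ℕ} (hq : 1 ≤ q) : q ^ 3 + 1 = (q ^ 2 - q + 1) * (q + 1) := by
  obtain ⟨a, rfl⟩ : ∃ a, q = a + 1 := ⟨q - 1, by omega⟩
  have h1 : (a + 1) ^ 2 - (a + 1) = a * (a + 1) := by
    have : (a + 1) ^ 2 = a * (a + 1) + (a + 1) := by ring
    omega
  rw [h1]
  ring

theorem high_plus {q : ℕ} (hq : 2 ≤ q) (i : ℕ) (hi : ¬ q ^ 2 + q + 1 ∣ i) : ¬ q ^ 3 - 1 ∣ 2 * i * (q - 1) := by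
  intro h
  apply hi
  rw [cube_sub (by omega)] at h
  have h1 : q ^ 2 + q + 1 ∣ 2 * i := Nat.dvd_of_mul_dvd_mul_right (by omega) h
  exact (odd_plus q).dvd_of_dvd_mul_left h1

theorem odd_minus {q : ℕ} (hq : 2 ≤ q) : Nat.Coprime (q ^ 2 - q + 1) (2 * (q - 1)) := by
  obtain ⟨a, rfl⟩ : ∃ a, q = a + 1 := ⟨q - 1, by omega⟩
  have h1 : (a + 1) ^ 2 - (a + 1) = a * (a + 1) := by
    have : (a + 1) ^ 2 = a * (a + 1) + (a + 1) := by ring
    omega
  rw [h1, Nat.add_sub_cancel]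
  refine Nat.Coprime.mul_right ?_ ?_
  · rw [Nat.coprime_two_right]
    exact (Nat.even_mul_succ_self a).add_one
  · have h2 : a * (a + 1) + 1 = 1 + a * (a + 1) := by ring
    rw [h2]
    exact (Nat.coprime_add_mul_left_left 1 a (a + 1)).2 (Nat.coprime_one_left a)

theorem high_minus {q : ℕ} (hq : 2 ≤ q) (i : ℕ) (hi : ¬ q ^ 2 - q + 1 ∣ i) :
    ¬ q ^ 3 + 1 ∣ 2 * i * (q ^ 2 - 1) := by
  intro h
  apply hi
  have h0 : q ^ 2 - 1 = (q - 1) * (q + 1) := by
    have := Nat.sq_sub_sq q 1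
    rw [one_pow] at this
    rw [this, mul_comm]
  rw [cube_add (by omega), h0, ← mul_assoc] at h
  have h1 : q ^ 2 - q + 1 ∣ 2 * i * (q - 1) := Nat.dvd_of_mul_dvd_mul_right (by omega) h
  have h2 : q ^ 2 - q + 1 ∣ i * (2 * (q - 1)) := by
    have : 2 * i * (q - 1) = i * (2 * (q - 1)) := by ring
    rwa [this] at h1
  exact (odd_minus hq).dvd_of_dvd_mul_right h2

end Arith

variable {F : Type} [Field F] [Fintype F]

/-- two tori, plus type -/
theorem MO_four_plus {Q : QuadraticForm F (Fin 4 ⊕ Fin 4 → F)} (hQ : Sg Q 4 1) {W : Type} [Finite W]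
    (hC : Ctl (ρ ⇑Q) (pr ⇑Q) W) {q g B p n : ℕ} (hF : Fintype.card F = q) (hg : Nat.gcd 2 (q - 1) = g)
    (hB : Nat.card W ≤ B) (hp : p.Prime) (hpq : ¬ p ∣ q ^ 3 - 1)
    (h : (n - 1) * (12 * B) * g ^ 2 < (q ^ 3 - q) * (q - 1)) : MO (Reg p) n (POmega F ⇑Q) := by
  have hq : 2 ≤ q := hF ▸ Fintype.one_lt_card
  have h1 : Tor F 3 1 (q ^ 3 - 1) := by
    have := tor_plus (F := F) 3 (by norm_num)
    rwa [hF] at this
  have h2 : Tor F 1 1 (q - 1) := by
    have := tor_plus (F := F) 1 (by norm_num)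
    rwa [hF, pow_one] at this
  have hg1 : Nat.gcd (q ^ 3 - 1) 2 = g := (gcd_eq (by norm_num) hq (Or.inr rfl)).trans hg
  have hg2 : Nat.gcd (q - 1) 2 = g := by rw [Nat.gcd_comm]; exact hg
  have hgd : g ∣ q - 1 := hg ▸ Nat.gcd_dvd_right _ _
  have hg0 : 0 < g := hg ▸ Nat.gcd_pos_of_pos_left _ (by norm_num)
  have hM₁ : (q ^ 3 - 1) / Nat.gcd (q ^ 3 - 1) 2 = (q ^ 2 + q + 1) * ((q - 1) / g) := by
    rw [hg1, cube_sub (by omega), Nat.mul_div_assoc _ hgd]
  have hdd : (q - 1) / g ∣ q - 1 := Nat.div_dvd_of_dvd hgd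
  have hq3 : 1 < q ^ 3 := Nat.one_lt_pow (by norm_num) (by omega)
  refine MO_pairs (n₁ := 3) (n₂ := 1) (ε₁ := 1) (ε₂ := 1) (q' := q) (d := q ^ 2 + q + 1) (p := p)
    hQ (by norm_num) hC h1 h2 (Dvd.intro_left _ rfl) (by omega) (by omega) hM₁
    (by rw [hg2]) (Dvd.intro _ rfl) (high_plus hq) hp ?_ ?_ hB ?_
  · intro hd
    exact hpq (hd.trans (by rw [cube_sub (by omega)]; exact Nat.mul_dvd_mul_left _ hdd))
  · intro hd
    exact hpq (hd.trans (by rw [cube_sub (by omega)]; exact hdd.mul_left _))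
  · rw [Nat.mul_div_cancel_left _ (by positivity)]
    obtain ⟨t, ht⟩ := hgd
    have ht' : (q - 1) / g = t := by rw [ht, Nat.mul_div_cancel_left _ hg0]
    rw [ht']
    have e1 : (q ^ 2 + q + 1) * t - t = (q ^ 2 + q) * t := by
      have : (q ^ 2 + q + 1) * t = (q ^ 2 + q) * t + t := by ring
      omega
    have e2 : (q ^ 3 - q) * (q - 1) = (q ^ 2 + q) * t * t * g ^ 2 := by
      have e3 : q ^ 3 - q = (q ^ 2 + q) * (q - 1) := by
        obtain ⟨a, rfl⟩ : ∃ a, q = a + 1 := ⟨q - 1, by omega⟩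
        have : (a + 1) ^ 3 = ((a + 1) ^ 2 + (a + 1)) * a + (a + 1) := by ring
        rw [Nat.add_sub_cancel]
        omega
      rw [e3, ht]
      ring
    rw [e1]
    rw [e2] at h
    exact Nat.lt_of_mul_lt_mul_right (a := g ^ 2) (by
      calc (n - 1) * (2 * 3 * (2 * 1) * B) * g ^ 2 = (n - 1) * (12 * B) * g ^ 2 := by ring
        _ < _ := h)

/-- two tori, minus type -/
theorem MO_four_minus {Q : QuadraticForm F (Fin 4 ⊕ Fin 4 → F)} (hQ : Sg Q 4 1) {W : Type} [Finite W]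
    (hC : Ctl (ρ ⇑Q) (pr ⇑Q) W) {q g B p n : ℕ} (hF : Fintype.card F = q) (hg : Nat.gcd 2 (q - 1) = g)
    (hB : Nat.card W ≤ B) (hp : p.Prime) (hpq : ¬ p ∣ q ^ 3 + 1)
    (h : (n - 1) * (12 * B) * g ^ 2 < (q ^ 3 - q) * (q + 1)) : MO (Reg p) n (POmega F ⇑Q) := by
  have hq : 2 ≤ q := hF ▸ Fintype.one_lt_card
  have h1 : Tor F 3 (-1) (q ^ 3 + 1) := by
    have := tor_minus (F := F) 3 (by norm_num)
    rwa [hF] at this
  have h2 : Tor F 1 (-1) (q + 1) := by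
    have := tor_minus (F := F) 1 (by norm_num)
    rwa [hF, pow_one] at this
  have hg1 : Nat.gcd (q ^ 3 + 1) 2 = g := (gcd_eq (by norm_num) hq (Or.inl rfl)).trans hg
  have hg2 : Nat.gcd (q + 1) 2 = g := by
    have := gcd_eq (q := q) (j := 1) (a := q + 1) one_ne_zero hq (Or.inl (by rw [pow_one]))
    exact this.trans hg
  have hgd : g ∣ q + 1 := hg2 ▸ Nat.gcd_dvd_left _ _
  have hg0 : 0 < g := hg ▸ Nat.gcd_pos_of_pos_left _ (by norm_num)
  have hM₁ : (q ^ 3 + 1) / Nat.gcd (q ^ 3 + 1) 2 = (q ^ 2 - q + 1) * ((q + 1) / g) := by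
    rw [hg1, cube_add (by omega), Nat.mul_div_assoc _ hgd]
  have hdd : (q + 1) / g ∣ q + 1 := Nat.div_dvd_of_dvd hgd
  have hq1 : q ^ 2 - 1 = (q - 1) * (q + 1) := by
    have := Nat.sq_sub_sq q 1
    rw [one_pow] at this
    rw [this, mul_comm]
  refine MO_pairs (n₁ := 3) (n₂ := 1) (ε₁ := -1) (ε₂ := -1) (q' := q ^ 2) (d := q ^ 2 - q + 1) (p := p)
    (by simpa using hQ) (by norm_num) hC h1 h2 (by rw [hq1, ← mul_assoc]; exact Dvd.intro_left _ rfl)
    (Nat.one_le_pow _ _ (by omega)) (by omega) hM₁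
    (by rw [hg2]) (Dvd.intro _ rfl) (high_minus hq) hp ?_ ?_ hB ?_
  · intro hd
    exact hpq (hd.trans (by rw [cube_add (by omega)]; exact Nat.mul_dvd_mul_left _ hdd))
  · intro hd
    exact hpq (hd.trans (by rw [cube_add (by omega)]; exact hdd.mul_left _))
  · rw [Nat.mul_div_cancel_left _ (by positivity)]
    obtain ⟨t, ht⟩ := hgd
    have ht' : (q + 1) / g = t := by rw [ht, Nat.mul_div_cancel_left _ hg0]
    rw [ht']
    have e1 : (q ^ 2 - q + 1) * t - t = (q ^ 2 - q) * t := by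
      have : (q ^ 2 - q + 1) * t = (q ^ 2 - q) * t + t := by ring
      omega
    have e2 : (q ^ 3 - q) * (q + 1) = (q ^ 2 - q) * t * t * g ^ 2 := by
      have e3 : q ^ 3 - q = (q ^ 2 - q) * (q + 1) := by
        obtain ⟨a, rfl⟩ : ∃ a, q = a + 1 := ⟨q - 1, by omega⟩
        have h1 : (a + 1) ^ 2 - (a + 1) = a * (a + 1) := by
          have : (a + 1) ^ 2 = a * (a + 1) + (a + 1) := by ring
          omega
        have h2 : (a + 1) ^ 3 - (a + 1) = a * (a + 1) * (a + 1 + 1) := by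
          have : (a + 1) ^ 3 = a * (a + 1) * (a + 1 + 1) + (a + 1) := by ring
          omega
        rw [h1, h2]
      rw [e3, ht]
      ring
    rw [e1]
    rw [e2] at h
    exact Nat.lt_of_mul_lt_mul_right (a := g ^ 2) (by
      calc (n - 1) * (2 * 3 * (2 * 1) * B) * g ^ 2 = (n - 1) * (12 * B) * g ^ 2 := by ring
        _ < _ := h)

theorem finish2 {S : Type*} [Group S] {p s a T : ℕ} (L : Finset ℕ) (hL : ∀ k ∈ L, HasOrd S k)
    (hLs : ∀ k ∈ L, ¬ s ∣ k ∧ ¬ p ∣ k) (h1 : MO {k | s ∣ k ∧ k ∣ T} a S) (hpT : ¬ p ∣ T)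
    (h : p ≤ a + L.card) : MO (Reg p) p S :=
  MO.finish' L hL hLs (h1.mono (fun _ hk => ⟨hk.1, fun hpk => hpT (hpk.trans hk.2)⟩) le_rfl) h

theorem finish3 {S : Type*} [Group S] {p s a T s' a' T' : ℕ} (L : Finset ℕ) (hL : ∀ k ∈ L, HasOrd S k)
    (hLs : ∀ k ∈ L, ¬ s ∣ k ∧ ¬ s' ∣ k ∧ ¬ p ∣ k) (h1 : MO {k | s ∣ k ∧ k ∣ T} a S) (hpT : ¬ p ∣ T)
    (h2 : MO {k | s' ∣ k ∧ k ∣ T'} a' S) (hpT' : ¬ p ∣ T') (hsT : ¬ s' ∣ T)
    (h : p ≤ a + a' + L.card) : MO (Reg p) p S := by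
  have h3 := MO.of_finset (A := {m | ¬ s ∣ m ∧ ¬ s' ∣ m ∧ ¬ p ∣ m}) L hL hLs
  have h4 := MO.add (Set.disjoint_left.2 fun x hx hx' => hsT (hx'.1.trans hx.2)) h1 h2
  have h5 := MO.add (Set.disjoint_left.2 (by
    rintro x (hx | hx) hx'
    · exact hx'.1 hx.1
    · exact hx'.2.1 hx.1)) h4 h3
  refine h5.mono ?_ h
  rintro x ((hx | hx) | hx)
  · exact fun hpk => hpT (hpk.trans hx.2)
  · exact fun hpk => hpT' (hpk.trans hx.2)
  · exact hx.2.2

seal _root_.Finset.sum _root_.dotProduct in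
/-- **the row of `PΩ⁺₈(q)`** -/
theorem row_plus_four : Row (POmega F (quadFormPlus 4 F)) := by
  obtain ⟨r, _⟩ := CharP.exists F
  obtain ⟨f, hr, hF⟩ := FiniteField.card F r
  have hf : 1 ≤ (f : ℕ) := f.2
  have hq : 2 ≤ r ^ (f : ℕ) := hF ▸ Fintype.one_lt_card
  have hcard := S0293.result hF 4 (by omega)
  have hS : Sg (plusForm 4 F) 4 1 := sg_plusForm 4
  have hex := ctl_four (F := F)
  rw [← plusForm_eq] at hex
  obtain ⟨Γ, hΓ, hC⟩ := hex
  rw [← coe_plusForm] at hcard ⊢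
  have hfin : Finite (POmega F ⇑(plusForm 4 F)) := Quotient.finite _
  have := finite_W (Q := plusForm 4 F)
  have hW : Nat.card ((Subgroup.center (Omega F ⇑(plusForm 4 F)) × (F ≃+* F)) ×
      (MulAut (POmega F ⇑(plusForm 4 F)) ⧸ Γ)) ≤ Nat.gcd 2 (r ^ (f : ℕ) - 1) * f * 3 := by
    have := Fact.mk hr
    have hi : Nat.card (MulAut (POmega F ⇑(plusForm 4 F)) ⧸ Γ) = 3 := hΓ
    simp only [Nat.card_prod, Nat.card_prod, Lib.FieldAutCard.card_ringAut hf hF, hi, ← hF]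
    exact Nat.mul_le_mul_right _ (Nat.mul_le_mul_right _ (card_center_le hS.nondeg (by rw [card_of_sg hS]; norm_num)))
  intro p hp h5 hd
  rw [mul_assoc (_ ^ _)] at hcard
  have hc := cases_of_sq_dvd hp hcard hd
  have hle := Num.orth_sq_le hp h5 hq (by norm_num : 2 ≤ 4) (a := (r ^ (f : ℕ)) ^ 4 - 1) (by
    rw [mul_comm 2, pow_mul, Num.sq_sub_eq]
    exact Dvd.intro_left _ rfl) hc
  have hK : ∀ n, n * (12 * (Nat.gcd 2 (r ^ (f : ℕ) - 1) * f * 3)) * Nat.gcd 2 (r ^ (f : ℕ) - 1) ^ 2 =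
      n * NumD4.K4 (r ^ (f : ℕ)) f := by
    intro n
    unfold NumD4.K4
    ring
  rcases NumD4.main4 hr hf hp h5 hle hc with h1 | h1
  · simp only [NumD4.exc4, List.mem_cons, Prod.mk.injEq, List.not_mem_nil, or_false] at h1
    have hho : ∀ s : ℕ, s.Prime → s * Nat.gcd 4 ((r ^ (f : ℕ)) ^ 4 - 1) ∣
        (r ^ (f : ℕ)) * (((r ^ (f : ℕ)) ^ 4 - 1) * Num.NS (r ^ (f : ℕ)) 3) →
        HasOrd (POmega F ⇑(plusForm 4 F)) s := fun s hs h =>
      ho_prime hs hcard (by norm_num) (Nat.gcd_pos_of_pos_left _ (by norm_num))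
        (by rw [Num.NS_eq] at h; exact h)
    have hep : ∀ k, k ∣ ((r ^ (f : ℕ)) ^ 3 - 1) / Nat.gcd ((r ^ (f : ℕ)) ^ 3 - 1) 2 /
        Nat.gcd (((r ^ (f : ℕ)) ^ 3 - 1) / Nat.gcd ((r ^ (f : ℕ)) ^ 3 - 1) 2) (Nat.gcd 2 (r ^ (f : ℕ) - 1)) →
        HasOrd (POmega F ⇑(plusForm 4 F)) k := by
      intro k hk
      rw [← hF] at hk
      exact ho_eig hS (by omega) ((eig_plus 3 (by norm_num)).extend (by norm_num) (Or.inl rfl)) hk
    have hem : ∀ k, k ∣ ((r ^ (f : ℕ)) ^ 3 + 1) / Nat.gcd ((r ^ (f : ℕ)) ^ 3 + 1) 2 /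
        Nat.gcd (((r ^ (f : ℕ)) ^ 3 + 1) / Nat.gcd ((r ^ (f : ℕ)) ^ 3 + 1) 2) (Nat.gcd 2 (r ^ (f : ℕ) - 1)) →
        HasOrd (POmega F ⇑(plusForm 4 F)) k := by
      intro k hk
      rw [← hF] at hk
      exact ho_eig hS (by omega) ((eig_minus 3 (by norm_num)).extend (by norm_num) (Or.inl rfl)) hk
    have hef : ∀ k, k ∣ ((r ^ (f : ℕ)) ^ 4 - 1) / Nat.gcd ((r ^ (f : ℕ)) ^ 4 - 1) 2 /
        Nat.gcd (((r ^ (f : ℕ)) ^ 4 - 1) / Nat.gcd ((r ^ (f : ℕ)) ^ 4 - 1) 2) (Nat.gcd 2 (r ^ (f : ℕ) - 1)) →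
        HasOrd (POmega F ⇑(plusForm 4 F)) k := by
      intro k hk
      rw [← hF] at hk
      exact ho_eig hS (by omega) (eig_plus 4 (by omega)) hk
    have heltP : ∀ N, EltP F 4 1 N → ∀ k, k ∣ N / N.gcd 2 → HasOrd (POmega F ⇑(plusForm 4 F)) k := by
      intro N hN k hk
      obtain ⟨s, hs⟩ := exists_of_eltP hS (by norm_num) hN
      exact HasOrd.of_dvd ⟨s, rfl⟩ (hk.trans hs) ((orderOf_pos _).ne' : _)
    have hTp : Tor F 3 1 ((r ^ (f : ℕ)) ^ 3 - 1) := by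
      have := tor_plus (F := F) 3 (by norm_num)
      rwa [hF] at this
    have hTp1 : Tor F 1 1 ((r ^ (f : ℕ)) - 1) := by
      have := tor_plus (F := F) 1 (by norm_num)
      rwa [hF, pow_one] at this
    have hTm : Tor F 3 (-1) ((r ^ (f : ℕ)) ^ 3 + 1) := by
      have := tor_minus (F := F) 3 (by norm_num)
      rwa [hF] at this
    have hTm1 : Tor F 1 (-1) ((r ^ (f : ℕ)) + 1) := by
      have := tor_minus (F := F) 1 (by norm_num)
      rwa [hF, pow_one] at this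
    rcases h1 with ⟨h1, h3, rfl⟩ | ⟨h1, h3, rfl⟩ | ⟨h1, h3, rfl⟩ | ⟨h1, h3, rfl⟩ | ⟨h1, h3, rfl⟩ | ⟨h1, h3, rfl⟩ |
      ⟨h1, h3, rfl⟩ | ⟨h1, h3, rfl⟩
    · -- `q = 2`, `p = 5`
      subst h1; rw [h3] at hho hem
      refine MO.of_orders' {1, 2, 3, 7, 9} ?_ (by decide) (by decide)
      simp only [Finset.mem_insert, Finset.mem_singleton, forall_eq_or_imp, forall_eq]
      exact ⟨hasOrd_one _, hho _ (by norm_num) (by decide), hho _ (by norm_num) (by decide),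
        hho _ (by norm_num) (by decide), hem _ (by decide)⟩
    · -- `q = 4`, `p = 5`
      subst h1; rw [h3] at hho
      refine MO.of_orders' {1, 2, 3, 7, 13} ?_ (by decide) (by decide)
      simp only [Finset.mem_insert, Finset.mem_singleton, forall_eq_or_imp, forall_eq]
      exact ⟨hasOrd_one _, hho _ (by norm_num) (by decide), hho _ (by norm_num) (by decide),
        hho _ (by norm_num) (by decide), hho _ (by norm_num) (by decide)⟩
    · -- `q = 4`, `p = 17`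
      subst h1; simp only [h3] at hho hem hep hef hW hTp hTp1 hTm hTm1
      have hF4 : Fintype.card F = 4 := by rw [hF, h3]; norm_num
      have hF2 : (2 : F) = 0 := by
        have : CharP F 2 := inferInstance
        exact CharTwo.two_eq_zero
      have hMO : MO {k | 13 ∣ k ∧ k ∣ 65 * 5} 5 (POmega F ⇑(plusForm 4 F)) := by
        refine MO_pairs_s (n₁ := 3) (n₂ := 1) (ε₁ := -1) (ε₂ := -1) (q' := 16) (by simpa using hS) (by norm_num) hC
          hTm hTm1 (by decide) (by decide) (by decide) (by decide) (by decide) (by decide) ?_ (by norm_num) ?_ hW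
          (by decide)
        · intro i hi
          norm_num
          omega
        · rw [hF4]; decide
      have hMO' : MO {k | 7 ∣ k ∧ k ∣ 63 * 3} 3 (POmega F ⇑(plusForm 4 F)) := by
        refine MO_pairs_s (n₁ := 3) (n₂ := 1) (ε₁ := 1) (ε₂ := 1) (q' := 4) hS (by norm_num) hC hTp hTp1
          (by decide) (by decide) (by decide) (by decide) (by decide) (by decide) ?_ (by norm_num) ?_ hW (by decide)
        · intro i hi
          norm_num
          (clear * - hi; omega)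
        · rw [hF4]; decide
      have hE : EltP F 4 1 60 := by
        have h1 : Elt F 2 1 15 := elt_tor_plus (by norm_num) (by rw [Nat.card_eq_fintype_card, hF4]; norm_num)
        have h2 := (elt_four (F := F) hF2 (Or.inl rfl)).prod h1
        rw [show Nat.lcm 4 15 = 60 by decide] at h2
        exact Elt.two (by simpa using h2) hF2
      refine finish3 (s := 13) (s' := 7) (a := 5) (a' := 3) {1, 2, 3, 5, 6, 10, 15, 30, 9} ?_ (by decide) hMO
        (by decide) hMO' (by decide) (by decide) (by decide)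
      simp only [Finset.mem_insert, Finset.mem_singleton, forall_eq_or_imp, forall_eq]
      have hE' := heltP _ hE
      exact ⟨hE' _ (by decide), hE' _ (by decide), hE' _ (by decide), hE' _ (by decide), hE' _ (by decide),
        hE' _ (by decide), hE' _ (by decide), hE' _ (by decide), hep _ (by decide)⟩
    · -- `q = 3`, `p = 5`
      subst h1; rw [h3] at hho
      refine MO.of_orders' {1, 2, 3, 7, 13} ?_ (by decide) (by decide)
      simp only [Finset.mem_insert, Finset.mem_singleton, forall_eq_or_imp, forall_eq]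
      exact ⟨hasOrd_one _, hho _ (by norm_num) (by decide), hho _ (by norm_num) (by decide),
        hho _ (by norm_num) (by decide), hho _ (by norm_num) (by decide)⟩
    · -- `q = 9`, `p = 41`
      subst h1; simp only [h3] at hho hem hep hef hW hTp hTp1 hTm hTm1
      have hF9 : Fintype.card F = 9 := by rw [hF, h3]; norm_num
      have hMO : MO {k | 73 ∣ k ∧ k ∣ 365 * 5} 13 (POmega F ⇑(plusForm 4 F)) := by
        refine MO_pairs_s (n₁ := 3) (n₂ := 1) (ε₁ := -1) (ε₂ := -1) (q' := 81) (by simpa using hS) (by norm_num) hC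
          hTm hTm1 (by decide) (by decide) (by decide) (by decide) (by decide) (by decide) ?_ (by norm_num) ?_ hW
          (by decide)
        · intro i hi
          norm_num
          (clear * - hi; omega)
        · rw [hF9]; decide
      have hMO' : MO {k | 13 ∣ k ∧ k ∣ 364 * 4} 10 (POmega F ⇑(plusForm 4 F)) := by
        refine MO_pairs_s (n₁ := 3) (n₂ := 1) (ε₁ := 1) (ε₂ := 1) (q' := 9) hS (by norm_num) hC hTp hTp1
          (by decide) (by decide) (by decide) (by decide) (by decide) (by decide) ?_ (by norm_num) ?_ hW (by decide)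
        · intro i hi
          norm_num
          (clear * - hi; omega)
        · rw [hF9]; decide
      have hE : EltP F 4 1 240 := by
        have h1 : Elt F 2 1 80 := elt_tor_plus (by norm_num) (by rw [Nat.card_eq_fintype_card, hF9]; norm_num)
        have h2 := ((elt_char (F := F) 3).odd (by decide) (by norm_num)).prod h1
        rw [show Nat.lcm 3 80 = 240 by decide] at h2
        simpa using h2
      refine finish3 (s := 73) (s' := 13) (a := 13) (a' := 10)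
        {1, 2, 3, 4, 5, 6, 8, 10, 12, 15, 20, 24, 30, 40, 60, 120, 7, 14} ?_ (by decide) hMO
        (by decide) hMO' (by decide) (by decide) (by decide)
      simp only [Finset.mem_insert, Finset.mem_singleton, forall_eq_or_imp, forall_eq]
      have hE' := heltP _ hE
      exact ⟨hE' _ (by decide), hE' _ (by decide), hE' _ (by decide), hE' _ (by decide), hE' _ (by decide),
        hE' _ (by decide), hE' _ (by decide), hE' _ (by decide), hE' _ (by decide), hE' _ (by decide),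
        hE' _ (by decide), hE' _ (by decide), hE' _ (by decide), hE' _ (by decide), hE' _ (by decide),
        hE' _ (by decide), hep _ (by decide), hep _ (by decide)⟩
    · -- `q = 5`, `p = 5`
      subst h1; rw [h3] at hho
      refine MO.of_orders' {1, 2, 3, 7, 13} ?_ (by decide) (by decide)
      simp only [Finset.mem_insert, Finset.mem_singleton, forall_eq_or_imp, forall_eq]
      exact ⟨hasOrd_one _, hho _ (by norm_num) (by decide), hho _ (by norm_num) (by decide),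
        hho _ (by norm_num) (by decide), hho _ (by norm_num) (by decide)⟩
    · -- `q = 5`, `p = 13`
      subst h1; simp only [h3] at hho hem hef hW hTp hTp1
      have hF5 : Fintype.card F = 5 := by rw [hF, h3]; norm_num
      have hMO : MO {k | 31 ∣ k ∧ k ∣ 62 * 2} 2 (POmega F ⇑(plusForm 4 F)) := by
        refine MO_pairs_s (n₁ := 3) (n₂ := 1) (ε₁ := 1) (ε₂ := 1) (q' := 5) hS (by norm_num) hC hTp hTp1
          (by decide) (by decide) (by decide) (by decide) (by decide) (by decide) ?_ (by norm_num) ?_ hW (by decide)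
        · intro i hi
          norm_num
          (clear * - hi; (solve | lia | omega))
        · rw [hF5]; decide
      refine finish2 (s := 31) (a := 2) {1, 2, 3, 4, 6, 12, 7, 9, 21, 63, 5} ?_ (by decide) hMO
        (by decide) (by decide)
      simp only [Finset.mem_insert, Finset.mem_singleton, forall_eq_or_imp, forall_eq]
      exact ⟨hasOrd_one _, hef _ (by decide), hef _ (by decide), hef _ (by decide), hef _ (by decide),
        hef _ (by decide), hem _ (by decide), hem _ (by decide), hem _ (by decide), hem _ (by decide),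
        hho _ (by norm_num) (by decide)⟩
    · -- `q = 11`, `p = 61`
      subst h1; simp only [h3] at hho hW hTm hTm1
      have hF11 : Fintype.card F = 11 := by rw [hF, h3]; norm_num
      have hMO : MO {k | 37 ∣ k ∧ k ∣ 666 * 6} 54 (POmega F ⇑(plusForm 4 F)) := by
        refine MO_pairs_s (n₁ := 3) (n₂ := 1) (ε₁ := -1) (ε₂ := -1) (q' := 121) (by simpa using hS) (by norm_num) hC
          hTm hTm1 (by decide) (by decide) (by decide) (by decide) (by decide) (by decide) ?_ (by norm_num) ?_ hW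
          (by decide)
        · intro i hi
          norm_num
          (clear * - hi; omega)
        · rw [hF11]; decide
      refine finish2 (s := 37) (a := 54) {1, 2, 3, 5, 7, 11, 19} ?_ (by decide) hMO
        (by decide) (by decide)
      simp only [Finset.mem_insert, Finset.mem_singleton, forall_eq_or_imp, forall_eq]
      exact ⟨hasOrd_one _, hho _ (by norm_num) (by decide), hho _ (by norm_num) (by decide),
        hho _ (by norm_num) (by decide), hho _ (by norm_num) (by decide), hho _ (by norm_num) (by decide),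
        hho _ (by norm_num) (by decide)⟩
  · rcases h1 with ⟨h1, h2⟩ | ⟨h1, h2⟩
    · exact MO_four_plus hS hC hF rfl hW hp h1 (by rw [hK]; exact h2)
    · exact MO_four_minus hS hC hF rfl hW hp h1 (by rw [hK]; exact h2)

end Cfsg.Agent.H93.PReg.Orth
end

-- part: H93/PReg/Psp
section
/-!
# `PSp_2m(q)`: automorphisms and characteristic polynomials, the cyclic tori (for S4883)
-/

set_option autoImplicit false
set_option linter.unusedSectionVars false

namespace Cfsg.Agent.H93.PReg.Psp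

open Polynomial Matrix Cfsg.Agent.H93.PReg Cfsg
open Cfsg.Agent.ClassicalGeometry.SympAutSemi Cfsg.Agent.ClassicalGeometry.SympGamma

variable {F : Type} [Field F] [Fintype F] {m : ℕ}

/-- the inclusion of `Sp` in the matrices -/
def ρ (F : Type) [Field F] (m : ℕ) : symplecticGroup (Fin m) F →* Matrix (Fin m ⊕ Fin m) (Fin m ⊕ Fin m) F where
  toFun g := g.1
  map_one' := rfl
  map_mul' _ _ := rfl

/-- the projection -/
def pr (F : Type) [Field F] (m : ℕ) : symplecticGroup (Fin m) F →* PSp m F := QuotientGroup.mk' _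

theorem pr_surjective : Function.Surjective (pr F m) := QuotientGroup.mk'_surjective _

theorem charpoly_conjHom (g : semiSim m F) : ∃ φ : F ≃+* F, ∀ A : symplecticGroup (Fin m) F,
    (ρ F m (conjHom m F g A)).charpoly = (ρ F m A).charpoly.map (φ : F →+* F) := by
  obtain ⟨φ, l, hl, hs⟩ := g.2
  refine ⟨φ, fun A => charpoly_semi g.1 g.1.surjective φ hs.1 hs.2.1 _ _ fun v => ?_⟩
  have h := DFunLike.congr_fun (rho_conjHom g A) (g.1 v)
  rw [rho_apply, Equiv.Perm.mul_apply, Equiv.Perm.mul_apply, perm_inv_apply_self, rho_apply] at h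
  exact h

theorem exists_center {x y : symplecticGroup (Fin m) F} (h : pr F m x = pr F m y) :
    ∃ z : Subgroup.center (symplecticGroup (Fin m) F), y = x * z.1 := by
  have h1 : x⁻¹ * y ∈ Subgroup.center (symplecticGroup (Fin m) F) := QuotientGroup.eq.1 h
  exact ⟨⟨x⁻¹ * y, h1⟩, (mul_inv_cancel_left _ _).symm⟩

/-- **control** for the semilinear automorphisms -/
theorem ctl_range (a : MulAut (PSp m F)) (ha : a ∈ (Psi m F).range) (g g' : symplecticGroup (Fin m) F)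
    (h : a (pr F m g) = pr F m g') : ∃ w : Subgroup.center (symplecticGroup (Fin m) F) × (F ≃+* F),
      (ρ F m g').charpoly = (ρ F m (g * w.1.1)).charpoly.map (w.2 : F →+* F) := by
  obtain ⟨s, rfl⟩ := ha
  obtain ⟨φ, hφ⟩ := charpoly_conjHom s
  have h1 : pr F m (conjHom m F s g) = pr F m g' := h
  obtain ⟨z, hz⟩ := exists_center h1
  -- `z = s (z')`
  have hz' : (conjHom m F s).symm z.1 ∈ Subgroup.center (symplecticGroup (Fin m) F) := by
    rw [Subgroup.mem_center_iff]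
    intro x
    apply (conjHom m F s).injective
    rw [map_mul, map_mul, MulEquiv.apply_symm_apply]
    exact Subgroup.mem_center_iff.1 z.2 _
  refine ⟨(⟨_, hz'⟩, φ), ?_⟩
  rw [← hφ, map_mul, MulEquiv.apply_symm_apply, ← hz]

/-- the index of the semilinear automorphisms -/
def oo (m r : ℕ) : ℕ := if m = 2 ∧ r = 2 then 2 else 1

theorem index_range {r f : ℕ} (hr : r.Prime) (hf : 1 ≤ f) (hF : Fintype.card F = r ^ f) (hm : 2 ≤ m)
    (h22 : m = 2 → 3 ≤ r ^ f) : (Psi m F).range.index = oo m r := by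
  have := Fact.mk hr
  have h1 := S0814.result r f hf hF m hm h22
  have h2 := card_range_Psi (m := m) hf hF (by omega)
  have h3 := ClassicalGeometry.AutPSpCount.card_sp (F := F) (m := m) (by omega)
  have h4 := Subgroup.card_mul_index (Psi m F).range
  rw [h1, h2, h3, hF] at h4
  have : Finite (symplecticGroup (Fin m) F) := inferInstance
  have : Finite (PSp m F) := Quotient.finite _
  have h5 : 0 < Nat.card (PSp m F) := Nat.card_pos
  have h6 : 0 < Nat.gcd 2 (r ^ f - 1) := Nat.gcd_pos_of_pos_left _ (by norm_num)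
  have h7 : 0 < f * (Nat.gcd 2 (r ^ f - 1) * Nat.card (PSp m F)) := Nat.mul_pos (by omega) (Nat.mul_pos h6 h5)
  apply Nat.eq_of_mul_eq_mul_left h7
  rw [h4]
  unfold oo
  ring

/-- **control** -/
theorem ctl : Ctl (ρ F m) (pr F m) ((Subgroup.center (symplecticGroup (Fin m) F) × (F ≃+* F)) ×
    (MulAut (PSp m F) ⧸ (Psi m F).range)) := by
  refine ctl_of_index (Psi m F).range pr_surjective
    (fun w g => (ρ F m (g * w.1.1)).charpoly.map (w.2 : F →+* F)) (fun w g => ?_)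
    (fun a ha g g' h => ctl_range a ha g g' h)
  have h1 := charpoly_monic (ρ F m (g * w.1.1))
  refine ⟨(h1.map _).ne_zero, ?_⟩
  rw [h1.natDegree_map]
  exact (charpoly_natDegree_eq_dim _).le

/-- the constant `K = 2 m · d · f · o` -/
def KK (m q f r : ℕ) : ℕ := (m + m) * ((Nat.gcd 2 (q - 1) * f) * oo m r)

theorem card_W {r f : ℕ} (hr : r.Prime) (hf : 1 ≤ f) (hF : Fintype.card F = r ^ f) (hm : 2 ≤ m)
    (h22 : m = 2 → 3 ≤ r ^ f) :
    Fintype.card (Fin m ⊕ Fin m) * Nat.card ((Subgroup.center (symplecticGroup (Fin m) F) × (F ≃+* F)) ×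
    (MulAut (PSp m F) ⧸ (Psi m F).range)) = KK m (Fintype.card F) f r := by
  have := Fact.mk hr
  rw [Nat.card_prod, Nat.card_prod, LieClassical.SympCenter.card_center (by omega),
    Lib.FieldAutCard.card_ringAut hf hF, Fintype.card_sum, Fintype.card_fin]
  have h1 := index_range hr hf hF hm h22
  rw [Subgroup.index] at h1
  rw [h1]
  rfl

theorem finite_W : Finite ((Subgroup.center (symplecticGroup (Fin m) F) × (F ≃+* F)) ×
    (MulAut (PSp m F) ⧸ (Psi m F).range)) := by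
  have : Finite (F ≃+* F) := Finite.of_injective (fun e => (e : F → F)) DFunLike.coe_injective
  have : Finite (PSp m F) := Quotient.finite _
  have : Finite (MulAut (PSp m F)) := Finite.of_injective (fun e => (e : PSp m F → PSp m F)) DFunLike.coe_injective
  infer_instance

end Cfsg.Agent.H93.PReg.Psp
end

-- part: H93/PReg/PspTori
section
/-!
# The tori of `Sp_2m(q)` of order `q^m - 1` and `q^m + 1` (for S4883)
-/

set_option autoImplicit false
set_option linter.unusedSectionVars false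

namespace Cfsg.Agent.H93.PReg.Psp

open Polynomial Matrix Cfsg.Agent.H93.PReg Cfsg

section alg

variable {F K : Type*} [Field F] [Field K] [Algebra F K] {ι : Type*} [Fintype ι] [DecidableEq ι]
  (b : Module.Basis ι F K) [Algebra.IsSeparable F K] [FiniteDimensional F K]

/-- two by two matrices over `K` as matrices over `F` -/
noncomputable def phi : Matrix (Fin 2) (Fin 2) K →ₐ[F] Matrix (ι ⊕ ι) (ι ⊕ ι) F where
  toFun g := fromBlocks (Algebra.leftMulMatrix b (g 0 0))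
    (Algebra.leftMulMatrix b (g 0 1) * (Algebra.traceMatrix F b)⁻¹)
    (Algebra.traceMatrix F b * Algebra.leftMulMatrix b (g 1 0))
    (Algebra.traceMatrix F b * Algebra.leftMulMatrix b (g 1 1) * (Algebra.traceMatrix F b)⁻¹)
  map_one' := by
    have hu := H376.SpEmb.isUnit_trace (F := F) b
    rw [Matrix.one_apply_eq, Matrix.one_apply_eq, Matrix.one_apply_ne (by decide), Matrix.one_apply_ne (by decide),
      map_one, map_zero, zero_mul, mul_zero, mul_one, Matrix.mul_nonsing_inv _ hu, fromBlocks_one]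
  map_mul' g h := by
    have hu := H376.SpEmb.isUnit_trace (F := F) b
    have hT : (Algebra.traceMatrix F b)⁻¹ * Algebra.traceMatrix F b = 1 := Matrix.nonsing_inv_mul _ hu
    have hc : ∀ X Y : Matrix ι ι F, X * (Algebra.traceMatrix F b)⁻¹ * (Algebra.traceMatrix F b * Y) = X * Y := by
      intro X Y
      rw [mul_assoc, ← mul_assoc _ _ Y, hT, one_mul]
    have hc' : ∀ X Y Z : Matrix ι ι F,
        X * (Algebra.traceMatrix F b)⁻¹ * (Algebra.traceMatrix F b * Y * Z) = X * (Y * Z) := by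
      intro X Y Z
      rw [mul_assoc _ Y Z, hc]
    rw [Matrix.fromBlocks_multiply]
    have e1 : ∀ i j, (g * h) i j = g i 0 * h 0 j + g i 1 * h 1 j := by
      intro i j
      rw [Matrix.mul_apply, Fin.sum_univ_two]
    simp only [e1, map_add, map_mul]
    (with_reducible congr 1)
    · rw [hc]
    · rw [hc', add_mul, mul_assoc, mul_assoc]
    · rw [hc, mul_add, mul_assoc, mul_assoc]
    · rw [hc', mul_add, add_mul]
      simp only [mul_assoc]
  map_zero' := by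
    simp
  map_add' g h := by
    simp only [Matrix.add_apply, map_add, add_mul, mul_add, fromBlocks_add]
  commutes' a := by
    have hu := H376.SpEmb.isUnit_trace (F := F) b
    have h1 : algebraMap F (Matrix (Fin 2) (Fin 2) K) a = algebraMap F K a • (1 : Matrix (Fin 2) (Fin 2) K) := by
      rw [Algebra.algebraMap_eq_smul_one, ← algebraMap_smul K a (1 : Matrix (Fin 2) (Fin 2) K)]
    rw [h1]
    simp only [Matrix.smul_apply, Matrix.one_apply_eq, smul_eq_mul, mul_one]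
    rw [Matrix.one_apply_ne (by decide), Matrix.one_apply_ne (by decide), mul_zero, map_zero, zero_mul, mul_zero,
      AlgHom.commutes]
    rw [Algebra.algebraMap_eq_smul_one, Algebra.algebraMap_eq_smul_one, mul_smul_comm, mul_one, smul_mul_assoc,
      Matrix.mul_nonsing_inv _ hu, ← fromBlocks_one, fromBlocks_smul, smul_zero]

theorem phi_eq (g : Matrix.SpecialLinearGroup (Fin 2) K) : phi b g.1 = (H376.SpEmb.ofSLTwo b g).1 := by
  show fromBlocks _ _ _ _ = fromBlocks _ _ _ _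
  congr 1
  have hu := H376.SpEmb.isUnit_trace (F := F) b
  rw [H376.SpEmb.trace_mul, mul_assoc, Matrix.mul_nonsing_inv _ hu, mul_one]

end alg

variable {F : Type} [Field F] [Fintype F]

/-- **the element of order `q^m + 1`** -/
theorem tor_plus (m : ℕ) (hm : m ≠ 0) : ∃ (K : Type) (_ : Field K) (_ : Algebra F K)
    (t : symplecticGroup (Fin m) F) (x : K), aeval x (ρ F m t).charpoly = 0 ∧
      orderOf x = Fintype.card F ^ m + 1 ∧ orderOf t = Fintype.card F ^ m + 1 := by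
  have : Nonempty (Fin m) := ⟨⟨0, by omega⟩⟩
  obtain ⟨K, _, _, b, hKf, -, hK, -⟩ := Singer.exists_ext F m hm
  have := Fintype.ofFinite K
  obtain ⟨L, _, _, b', hLf, g, hL, hg⟩ := Singer.exists_ext K 2 two_ne_zero
  let _ : Algebra F L := ((algebraMap K L).comp (algebraMap F K)).toAlgebra
  have : IsScalarTower F K L := IsScalarTower.of_algebraMap_eq fun _ => rfl
  have hKc : Fintype.card K = Fintype.card F ^ m := by rw [← hK, Nat.card_eq_fintype_card]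
  have hq : 2 ≤ Fintype.card K := Fintype.one_lt_card
  have hdet : (Algebra.leftMulMatrix b' ((g : L) ^ (Fintype.card K - 1))).det = 1 := by
    rw [← Algebra.norm_eq_matrix_det, map_pow]
    apply FiniteField.pow_card_sub_one_eq_one
    rw [Ne, Algebra.norm_eq_zero_iff_of_basis b']
    exact g.ne_zero
  have ho : orderOf ((g : L) ^ (Fintype.card K - 1)) = Fintype.card F ^ m + 1 := by
    rw [← Units.val_pow_eq_pow_val, orderOf_units, orderOf_pow_of_dvd (by omega), hg, ← hKc]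
    · have h1 : Fintype.card K ^ 2 - 1 = (Fintype.card K + 1) * (Fintype.card K - 1) := by
        have := Nat.sq_sub_sq (Fintype.card K) 1
        simpa only [_root_.one_pow] using this
      rw [h1, Nat.mul_div_cancel _ (by omega)]
    · rw [hg]
      simpa only [_root_.one_pow] using Nat.sub_dvd_pow_sub_pow (Fintype.card K) 1 2
  let ψ : L →ₐ[F] Matrix (Fin m ⊕ Fin m) (Fin m ⊕ Fin m) F :=
    (phi b).comp ((Algebra.leftMulMatrix b').restrictScalars F)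
  have hψ : ψ ((g : L) ^ (Fintype.card K - 1)) = ρ F m (H376.SpEmb.ofSLTwo b
      (⟨_, hdet⟩ : Matrix.SpecialLinearGroup (Fin 2) K)) := phi_eq b ⟨_, hdet⟩
  refine ⟨L, inferInstance, inferInstance, H376.SpEmb.ofSLTwo b ⟨_, hdet⟩, (g : L) ^ (Fintype.card K - 1), ?_, ho, ?_⟩
  · rw [← hψ]
    exact Singer.root_algHom ψ _
  · rw [← ho, ← orderOf_injective (ψ : L →* Matrix (Fin m ⊕ Fin m) (Fin m ⊕ Fin m) F) ψ.toRingHom.injective]
    rw [← orderOf_injective (ρ F m) Subtype.coe_injective, ← hψ]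
    rfl

/-- **the element of order `q^m - 1`** -/
theorem tor_minus (m : ℕ) (hm : m ≠ 0) : ∃ (K : Type) (_ : Field K) (_ : Algebra F K)
    (t : symplecticGroup (Fin m) F) (x : K), aeval x (ρ F m t).charpoly = 0 ∧
      orderOf x = Fintype.card F ^ m - 1 ∧ orderOf t = Fintype.card F ^ m - 1 := by
  have : Nonempty (Fin m) := ⟨⟨0, by omega⟩⟩
  obtain ⟨K, _, _, b, hKf, g, hK, hg⟩ := Singer.exists_ext F m hm
  let u : GL (Fin m) F := Units.map (Algebra.leftMulMatrix b : K →* Matrix (Fin m) (Fin m) F) g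
  have hu : (u : Matrix (Fin m) (Fin m) F) = Algebra.leftMulMatrix b (g : K) := rfl
  refine ⟨K, inferInstance, inferInstance, H376.SpEmb.levi (Fin m) u, (g : K), ?_, by rw [orderOf_units, hg], ?_⟩
  · have h1 : ρ F m (H376.SpEmb.levi (Fin m) u) = fromBlocks (u : Matrix (Fin m) (Fin m) F) 0 0
        ((u⁻¹ : GL (Fin m) F) : Matrix (Fin m) (Fin m) F)ᵀ := rfl
    rw [h1, charpoly_fromBlocks_zero₂₁, map_mul, hu, Singer.root_leftMul b, zero_mul]
  · rw [orderOf_injective _ (H376.SpEmb.levi_injective (Fin m)), ← hg]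
    exact orderOf_injective (Units.map (Algebra.leftMulMatrix b : K →* Matrix (Fin m) (Fin m) F))
      (Units.map_injective (Algebra.leftMulMatrix_injective b)) g

end Cfsg.Agent.H93.PReg.Psp
end

-- part: H93/PReg/PspRow
section
/-!
# The row of `PSp_2m(q)` (for S4883)
-/

set_option autoImplicit false
set_option linter.unusedSectionVars false

namespace Cfsg.Agent.H93.PReg.Psp

open Polynomial Matrix Cfsg.Agent.H93.PReg Cfsg Cfsg.Agent.H92.KTools

variable {F : Type} [Field F] [Fintype F] {m r f : ℕ}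

theorem ker_pow (hm : 1 ≤ m) (g : symplecticGroup (Fin m) F) (h : pr F m g = 1) :
    g ^ Nat.gcd 2 (Fintype.card F - 1) = 1 := by
  have h1 : g ∈ Subgroup.center (symplecticGroup (Fin m) F) := (QuotientGroup.eq_one_iff g).1 h
  have h2 := LieClassical.SympCenter.card_center (F := F) (m := m) hm
  have h3 := pow_card_eq_one' (x := (⟨g, h1⟩ : Subgroup.center (symplecticGroup (Fin m) F)))
  rw [h2] at h3
  exact congrArg Subtype.val h3

theorem MO_of_ineq (hr : r.Prime) (hf : 1 ≤ f) (hF : Fintype.card F = r ^ f) (hm : 2 ≤ m)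
    (h22 : m = 2 → 3 ≤ r ^ f) {p n : ℕ} (hp : p.Prime)
    (h : (¬ p ∣ (r ^ f) ^ m + 1 ∧ (n - 1) * Num.KS m (r ^ f) f r < (r ^ f) ^ m + 1) ∨
      (¬ p ∣ (r ^ f) ^ m - 1 ∧ (n - 1) * Num.KS m (r ^ f) f r < (r ^ f) ^ m - 1)) :
    MO (Reg p) n (PSp m F) := by
  have := finite_W (F := F) (m := m)
  have hW := card_W (F := F) hr hf hF hm h22
  rcases h with ⟨h1, h2⟩ | ⟨h1, h2⟩
  · obtain ⟨K, _, _, t, x, hx, ho, -⟩ := tor_plus (F := F) m (by omega)
    refine MO.of_root' hp ctl t x hx ?_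
    rw [hW, ho, hF, Nat.factorization_eq_zero_of_not_dvd h1, pow_zero, mul_one]
    exact h2
  · obtain ⟨K, _, _, t, x, hx, ho, -⟩ := tor_minus (F := F) m (by omega)
    refine MO.of_root' hp ctl t x hx ?_
    rw [hW, ho, hF, Nat.factorization_eq_zero_of_not_dvd h1, pow_zero, mul_one]
    exact h2

/-- the elements of order divisible by `s` in the torus of order `q^m + 1` -/
theorem MO_s_plus (hr : r.Prime) (hf : 1 ≤ f) (hF : Fintype.card F = r ^ f) (hm : 2 ≤ m)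
    (h22 : m = 2 → 3 ≤ r ^ f) {p n s a N : ℕ} (hs : s.Prime) (hN : (r ^ f) ^ m + 1 = N)
    (hp : p.Prime) (hpN : ¬ p ∣ N) (hsc : ¬ s ∣ Nat.gcd 2 (r ^ f - 1)) (hsa : ¬ s ^ (a + 1) ∣ N) (hsa' : s ^ a ∣ N)
    (h : (n - 1) * Num.KS m (r ^ f) f r < N - N / s ^ a) :
    MO {k | s ∣ k ∧ ¬ p ∣ k} n (PSp m F) := by
  have := finite_W (F := F) (m := m)
  have hW := card_W (F := F) hr hf hF hm h22
  obtain ⟨K, _, _, t, x, hx, ho, -⟩ := tor_plus (F := F) m (by omega)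
  rw [hF, hN] at ho
  refine MO.of_root_s' ctl t hp hpN x hx ho (by omega) hs
    (fun g hg => ker_pow (by omega) g hg) (by rw [hF]; exact hsc) hsa hsa' ?_
  rw [hW, hF]
  exact h

theorem card_psp_dvd : Nat.card (PSp m F) ∣
    Fintype.card F ^ (m ^ 2) * ∏ i ∈ Finset.range m, (Fintype.card F ^ (2 * (i + 1)) - 1) := by
  rw [← LieClassical.SympCount.card_symplecticGroup]
  exact Subgroup.card_quotient_dvd_card _

theorem cases_of_sq_dvd {p : ℕ} (hp : p.Prime) (hd : p ^ 2 ∣ Nat.card (PSp m F)) :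
    p ∣ Fintype.card F ∨ p ^ 2 ∣ ∏ i ∈ Finset.range m, (Fintype.card F ^ (2 * (i + 1)) - 1) := by
  by_cases h : p ∣ Fintype.card F
  · exact Or.inl h
  · right
    have h1 := hd.trans (card_psp_dvd (F := F))
    refine (Nat.Coprime.dvd_of_dvd_mul_left ?_ h1)
    exact Nat.Coprime.pow _ _ ((Nat.Prime.coprime_iff_not_dvd hp).2 h)

/-! ### Element orders -/

theorem ho_plus (hm : 1 ≤ m) {k : ℕ} (h : k ∣ (Fintype.card F ^ m + 1) /
      Nat.gcd (Fintype.card F ^ m + 1) (Nat.gcd 2 (Fintype.card F - 1))) : HasOrd (PSp m F) k := by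
  have : Finite (PSp m F) := Quotient.finite _
  obtain ⟨K, _, _, t, x, hx, -, ho⟩ := tor_plus (F := F) m (by omega)
  exact hasOrd_of_ker (pr F m) t (fun g hg => ker_pow hm g hg) (by rw [ho]; omega) (by rw [ho]; exact h)

theorem ho_minus (hm : 1 ≤ m) {k : ℕ} (h : k ∣ (Fintype.card F ^ m - 1) /
      Nat.gcd (Fintype.card F ^ m - 1) (Nat.gcd 2 (Fintype.card F - 1))) : HasOrd (PSp m F) k := by
  have : Finite (PSp m F) := Quotient.finite _
  obtain ⟨K, _, _, t, x, hx, -, ho⟩ := tor_minus (F := F) m (by omega)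
  have hq : 2 ≤ Fintype.card F := Fintype.one_lt_card
  have h1 : 2 ^ 1 ≤ Fintype.card F ^ m := (Nat.pow_le_pow_right (by norm_num) hm).trans
    (Nat.pow_le_pow_left hq m)
  exact hasOrd_of_ker (pr F m) t (fun g hg => ker_pow hm g hg) (by rw [ho]; omega) (by rw [ho]; exact h)

/-- prime orders -/
theorem ho_prime (hm : 1 ≤ m) {s : ℕ} (hs : s.Prime) (h : s * Nat.gcd 2 (Fintype.card F - 1) ∣
      Fintype.card F * Num.NS (Fintype.card F) m) : HasOrd (PSp m F) s := by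
  have : Finite (PSp m F) := Quotient.finite _
  refine hasOrd_prime hs ?_
  have h1 := ClassicalGeometry.AutPSpCount.card_sp (F := F) hm
  have hg : 0 < Nat.gcd 2 (Fintype.card F - 1) := Nat.gcd_pos_of_pos_left _ (by norm_num)
  apply Nat.dvd_of_mul_dvd_mul_left hg
  rw [← h1, LieClassical.SympCount.card_symplecticGroup, ← Num.NS_eq, mul_comm]
  refine h.trans (Nat.mul_dvd_mul_right (dvd_pow_self _ ?_) _)
  have := Nat.one_le_pow 2 m hm
  omega

/-- orders of blocks, even characteristic -/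
theorem ho_block {a b i j k : ℕ} (hm : 1 ≤ m) (hab : a + b ≤ m) (A : symplecticGroup (Fin a) F)
    (hA : orderOf A = i) (B : symplecticGroup (Fin b) F) (hB : orderOf B = j) (h0 : Nat.lcm i j ≠ 0)
    (h : k ∣ Nat.lcm i j / Nat.gcd (Nat.lcm i j) (Nat.gcd 2 (Fintype.card F - 1))) : HasOrd (PSp m F) k := by
  have : Finite (PSp m F) := Quotient.finite _
  obtain ⟨C, hC⟩ := H376.SpEmb.exists_block hab A hA B hB
  exact hasOrd_of_ker (pr F m) C (fun g hg => ker_pow hm g hg) (by rw [hC]; exact h0) (by rw [hC]; exact h)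

/-- an element of order four in even characteristic -/
theorem exists_order_four (h2 : (2 : F) = 0) : ∃ g : symplecticGroup (Fin 2) F, orderOf g = 2 ^ (1 + 1) := by
  have h11 : (1 : F) + 1 = 0 := by rw [one_add_one_eq_two, h2]
  have hn : (-1 : F) = 1 := neg_eq_of_add_eq_zero_left h11
  refine ⟨⟨fromBlocks !![1, 1; 0, 1] !![0, 1; 0, 1] 0 !![1, 0; 1, 1], ?_⟩, ?_⟩
  · rw [SymplecticGroup.fromBlocks_mem_iff]
    refine ⟨by simp, ?_, ?_⟩
    · ext i j
      (revert i j; simp only [Matrix.mul_apply, Fin.sum_univ_two, h11, _root_.Fin.forall_fin_succ, _root_.Matrix.transpose_apply, _root_.Matrix.of_apply, _root_.Matrix.cons_val', _root_.Matrix.cons_val_fin_one, Fin.isValue, _root_.Matrix.cons_val_zero, _root_.Matrix.cons_val_one, _root_.mul_one, _root_.MulZeroClass.mul_zero, _root_.add_zero, _root_.Matrix.cons_val_succ, _root_.zero_add, _root_.forall_const, _root_.and_self, _root_.implies_true])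
    · ext i j
      (revert i j; simp only [Matrix.mul_apply, Fin.sum_univ_two, h11, _root_.Fin.forall_fin_succ, _root_.Matrix.transpose_zero, _root_.MulZeroClass.zero_mul, _root_.Matrix.sub_apply, _root_.Matrix.transpose_apply, _root_.Matrix.of_apply, _root_.Matrix.cons_val', _root_.Matrix.cons_val_fin_one, Fin.isValue, _root_.Matrix.cons_val_zero, _root_.Matrix.cons_val_one, _root_.Matrix.zero_apply, _root_.sub_zero, _root_.mul_one, _root_.Matrix.cons_val_succ, _root_.MulZeroClass.mul_zero, _root_.zero_add, _root_.IsEmpty.forall_iff, _root_.and_true, _root_.add_zero, _root_.Matrix.one_apply_eq, Nat.reduceAdd, _root_.Fin.succ_zero_eq_one, _root_.ne_eq, _root_.zero_ne_one, _root_.not_false_eq_true, _root_.Matrix.one_apply_ne, _root_.and_self, _root_.Fin.succ_ne_zero, _root_.true_and])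
  · apply orderOf_eq_prime_pow
    · intro h
      simp only [pow_one, pow_two] at h
      have h3 := congrArg Subtype.val h
      have h4 : (fromBlocks !![1, 1; 0, 1] !![0, 1; 0, 1] 0 !![1, 0; 1, 1] *
        fromBlocks !![1, 1; 0, 1] !![0, 1; 0, 1] 0 !![1, 0; 1, 1] :
          Matrix (Fin 2 ⊕ Fin 2) (Fin 2 ⊕ Fin 2) F) = 1 := h3
      rw [fromBlocks_multiply, ← fromBlocks_one, fromBlocks_inj] at h4
      have h5 := congrFun (congrFun h4.2.1 0) 0
      simp at h5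
    · apply Subtype.ext
      show (fromBlocks !![1, 1; 0, 1] !![0, 1; 0, 1] 0 !![1, 0; 1, 1] :
        Matrix (Fin 2 ⊕ Fin 2) (Fin 2 ⊕ Fin 2) F) ^ 4 = 1
      rw [show (4 : ℕ) = 2 * 2 from rfl, pow_mul, pow_two (fromBlocks _ _ _ _), fromBlocks_multiply, pow_two,
        fromBlocks_multiply, ← fromBlocks_one, fromBlocks_inj]
      refine ⟨?_, ?_, ?_, ?_⟩ <;>
      · ext i j
        fin_cases i <;> fin_cases j <;> simp [h11]

/-- the exceptional pairs -/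
theorem exc_case {p : ℕ} (hr : r.Prime) (hf : 1 ≤ f) (hF : Fintype.card F = r ^ f) (hm : 2 ≤ m)
    (h22 : m = 2 → 3 ≤ r ^ f) (hp : p.Prime) (h : (m, r, f, p) ∈ Num.excS) : MO (Reg p) p (PSp m F) := by
  simp only [Num.excS, List.mem_cons, Prod.mk.injEq, List.not_mem_nil, or_false] at h
  rcases h with ⟨rfl, rfl, rfl, rfl⟩ | ⟨rfl, rfl, rfl, rfl⟩ | ⟨rfl, rfl, rfl, rfl⟩ | ⟨rfl, rfl, rfl, rfl⟩ |
    ⟨rfl, rfl, rfl, rfl⟩ | ⟨rfl, rfl, rfl, rfl⟩ | ⟨rfl, rfl, rfl, rfl⟩ | ⟨rfl, rfl, rfl, rfl⟩ | ⟨rfl, rfl, rfl, rfl⟩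
  · exact absurd (h22 rfl) (by norm_num)
  · -- `PSp₄(4)`, `p = 5`
    have h2 : (2 : F) = 0 := by
      have h4 : ((4 : ℕ) : F) = 0 := by
        have := FiniteField.cast_card_eq_zero F
        rwa [hF] at this
      have : (2 : F) * 2 = 0 := by
        rw [← h4]; norm_num
      exact mul_self_eq_zero.1 this
    obtain ⟨g, hg⟩ := exists_order_four h2
    refine MO.of_orders' {1, 2, 3, 4, 17} ?_ (by decide) (by decide)
    simp only [Finset.mem_insert, Finset.mem_singleton, forall_eq_or_imp, forall_eq]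
    exact ⟨hasOrd_one _, ho_prime (by norm_num) (by norm_num) (by rw [hF]; decide),
      ho_prime (by norm_num) (by norm_num) (by rw [hF]; decide),
      hasOrd_of_ker (pr F 2) g (fun x hx => ker_pow (by norm_num) x hx) (by rw [hg]; norm_num)
        (by rw [hg, hF]; decide),
      ho_prime (by norm_num) (by norm_num) (by rw [hF]; decide)⟩
  · -- `PSp₄(8)`, `p = 7`
    refine MO.of_orders' {1, 2, 3, 9, 5, 13, 65} ?_ (by decide) (by decide)
    simp only [Finset.mem_insert, Finset.mem_singleton, forall_eq_or_imp, forall_eq]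
    exact ⟨hasOrd_one _, ho_prime (by norm_num) (by norm_num) (by rw [hF]; decide),
      ho_minus (by norm_num) (by rw [hF]; decide), ho_minus (by norm_num) (by rw [hF]; decide),
      ho_plus (by norm_num) (by rw [hF]; decide), ho_plus (by norm_num) (by rw [hF]; decide),
      ho_plus (by norm_num) (by rw [hF]; decide)⟩
  · -- `PSp₄(16)`, `p = 17`
    have h2 : (2 : F) = 0 := by
      have h4 : ((16 : ℕ) : F) = 0 := by
        have := FiniteField.cast_card_eq_zero F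
        rwa [hF] at this
      have : (2 : F) ^ 4 = 0 := by
        rw [← h4]; norm_num
      exact (pow_eq_zero_iff (by norm_num)).1 this
    obtain ⟨g, hg⟩ := exists_order_four h2
    obtain ⟨-, -, -, A, -, -, -, hA⟩ := tor_minus (F := F) 1 one_ne_zero
    have hB : HasOrd (symplecticGroup (Fin 1) F) 2 := by
      refine hasOrd_prime Nat.prime_two ?_
      rw [LieClassical.SympCount.card_symplecticGroup, hF]
      exact ⟨8 * 255, by simp only [_root_.Nat.reducePow, _root_.one_pow, _root_.pow_one, _root_.Finset.range_one, _root_.Finset.prod_singleton, _root_.zero_add, _root_.mul_one, _root_.Nat.add_one_sub_one, _root_.Nat.reduceMul]⟩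
    obtain ⟨B, hB⟩ := hB
    rw [hF, pow_one] at hA
    have hblk : ∀ k, k ∣ 30 → HasOrd (PSp 2 F) k := fun k hk =>
      ho_block (F := F) (m := 2) (a := 1) (b := 1) (k := k) (by norm_num) (by norm_num) A hA B hB (by decide)
        (by rw [hF]; exact hk)
    refine MO.finish' (s := 257) (a := 8) {1, 2, 3, 4, 5, 6, 10, 15, 30} ?_ (by decide)
      (MO_s_plus (a := 1) (N := 257) hr hf hF (by norm_num) (by norm_num) (by norm_num) (by norm_num) hp
        (by decide) (by decide) (by decide) (by decide) (by decide)) (by decide)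
    simp only [Finset.mem_insert, Finset.mem_singleton, forall_eq_or_imp, forall_eq]
    exact ⟨hasOrd_one _, hblk _ (by decide), hblk _ (by decide),
      hasOrd_of_ker (pr F 2) g (fun x hx => ker_pow (by norm_num) x hx) (by rw [hg]; norm_num)
        (by rw [hg, hF]; decide), hblk _ (by decide), hblk _ (by decide), hblk _ (by decide), hblk _ (by decide),
      hblk _ (by decide)⟩
  · -- `PSp₄(32)`, `p = 31`
    refine MO.finish' (s := 41) (a := 25) {1, 2, 3, 5, 11, 25} ?_ (by decide)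
      (MO_s_plus (a := 1) (N := 1025) hr hf hF (by norm_num) (by norm_num) (by norm_num) (by norm_num) hp
        (by decide) (by decide) (by decide) (by decide) (by decide)) (by decide)
    simp only [Finset.mem_insert, Finset.mem_singleton, forall_eq_or_imp, forall_eq]
    exact ⟨hasOrd_one _, ho_prime (by norm_num) (by norm_num) (by rw [hF]; decide),
      ho_minus (by norm_num) (by rw [hF]; decide), ho_plus (by norm_num) (by rw [hF]; decide),
      ho_minus (by norm_num) (by rw [hF]; decide), ho_plus (by norm_num) (by rw [hF]; decide)⟩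
  · -- `PSp₄(5)`, `p = 5`
    refine MO.of_orders' {1, 2, 3, 4, 6} ?_ (by decide) (by decide)
    simp only [Finset.mem_insert, Finset.mem_singleton, forall_eq_or_imp, forall_eq]
    exact ⟨hasOrd_one _, ho_minus (by norm_num) (by rw [hF]; decide), ho_minus (by norm_num) (by rw [hF]; decide),
      ho_minus (by norm_num) (by rw [hF]; decide), ho_minus (by norm_num) (by rw [hF]; decide)⟩
  · -- `Sp₈(2)`, `p = 5`
    refine MO.of_orders' {1, 2, 3, 7, 17} ?_ (by decide) (by decide)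
    simp only [Finset.mem_insert, Finset.mem_singleton, forall_eq_or_imp, forall_eq]
    exact ⟨hasOrd_one _, ho_prime (by norm_num) (by norm_num) (by rw [hF]; decide),
      ho_prime (by norm_num) (by norm_num) (by rw [hF]; decide),
      ho_prime (by norm_num) (by norm_num) (by rw [hF]; decide),
      ho_prime (by norm_num) (by norm_num) (by rw [hF]; decide)⟩
  · -- `Sp₁₀(2)`, `p = 5`
    refine MO.of_orders' {1, 2, 3, 7, 17} ?_ (by decide) (by decide)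
    simp only [Finset.mem_insert, Finset.mem_singleton, forall_eq_or_imp, forall_eq]
    exact ⟨hasOrd_one _, ho_prime (by norm_num) (by norm_num) (by rw [hF]; decide),
      ho_prime (by norm_num) (by norm_num) (by rw [hF]; decide),
      ho_prime (by norm_num) (by norm_num) (by rw [hF]; decide),
      ho_prime (by norm_num) (by norm_num) (by rw [hF]; decide)⟩
  · -- `Sp₁₂(2)`, `p = 7`
    refine MO.of_orders' {1, 2, 3, 5, 11, 13, 17} ?_ (by decide) (by decide)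
    simp only [Finset.mem_insert, Finset.mem_singleton, forall_eq_or_imp, forall_eq]
    exact ⟨hasOrd_one _, ho_prime (by norm_num) (by norm_num) (by rw [hF]; decide),
      ho_prime (by norm_num) (by norm_num) (by rw [hF]; decide),
      ho_prime (by norm_num) (by norm_num) (by rw [hF]; decide),
      ho_prime (by norm_num) (by norm_num) (by rw [hF]; decide),
      ho_prime (by norm_num) (by norm_num) (by rw [hF]; decide),
      ho_prime (by norm_num) (by norm_num) (by rw [hF]; decide)⟩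

/-- **the row of `PSp_2m(q)`** -/
theorem row (hm : 2 ≤ m) (h22 : m = 2 → 3 ≤ Fintype.card F) : Row (PSp m F) := by
  obtain ⟨r, _⟩ := CharP.exists F
  obtain ⟨f, hr, hF⟩ := FiniteField.card F r
  have hf : 1 ≤ (f : ℕ) := f.2
  rw [hF] at h22
  have hq : 2 ≤ r ^ (f : ℕ) := hF ▸ Fintype.one_lt_card
  intro p hp h5 hd
  have hc := cases_of_sq_dvd hp hd
  rw [hF] at hc
  rcases Num.big_or_smallS hm hr hf with h | h
  · refine MO_of_ineq hr hf hF hm h22 hp (Num.ineqS_of_lt hp h5 (Num.key_sp ?_ h))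
    rcases hc with hc | hc
    · exact Num.sq_le_of_dvd hq hm hc
    · exact Num.psp_sq_le hp h5 hq hc
  · rcases Num.small_caseS h hm hq hp h5 hc with h1 | h1
    · exact exc_case hr hf hF hm h22 hp h1
    · exact MO_of_ineq hr hf hF hm h22 hp h1

end Cfsg.Agent.H93.PReg.Psp
end

private theorem dce_3dc66e857bae : _root_.True := by
  try have : _root_.True := by simp only [_root_.Cfsg.Agent.H93.PReg.Num.excS.eq_1]
  try have : _root_.True := by simp only [_root_.Cfsg.Agent.H182.Orth.EltP.congr_simp]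
  try have : _root_.True := by simp only [_root_.Cfsg.Agent.H182.Orth.Elt.congr_simp]
  try have : _root_.True := by simp only [_root_.Cfsg.Agent.H93.PReg.NumD4.exc4.eq_1]
  try have : _root_.True := by simp only [_root_.Cfsg.Agent.H182.Sign.Sg.congr_simp]
  exact _root_.True.intro
end

-- part: H92/PRegRows
section
prune_inst 0x257010604cc0000000008016102020046800053009200000a8200b020908c320858221400a8010040a0a028110010000001000f000400000040004000004052188a8100431500c04000017801084000000000000000000000000008000000004200000000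
set_option linter.all false
open scoped Cfsg.Agent.FastGrp

-- part: H92/PRegF4
section
/-!
# `F₄(q)`: the number theory (helper92, for S4883)
-/

set_option autoImplicit false
set_option linter.unusedSectionVars false

namespace Cfsg.Agent.H92.PRegF4

open Cfsg.Agent.H93.PReg Cfsg.Agent.H92.PRegT Cfsg.Agent.H92.KTools Cfsg.Agent.H92.PRegNum

universe u

/-- the order polynomial -/
def P4 (x : ℤ) : ℤ := x ^ (24:ℕ) * (x ^ (12:ℕ) - 1) * (x ^ (8:ℕ) - 1) * (x ^ (6:ℕ) - 1) * (x ^ (2:ℕ) - 1)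

theorem bound {x P : ℤ} (hx : 2 ≤ x) (hP : Prime P) (h : P ^ (2:ℕ) ∣ P4 x) : P ≤ x ^ (2:ℕ) + x + 1 := by
  by_contra hlt
  push Not at hlt
  have hx2 : 4 ≤ x ^ (2:ℕ) := by nlinarith only [hx]
  have hPx : x ^ (2:ℕ) + x + 2 ≤ P := by omega
  have hP2 : (x ^ (2:ℕ) + x + 2) ^ (2:ℕ) ≤ P ^ (2:ℕ) := pow_le_pow_left₀ (by linarith only [hx, hx2]) hPx 2
  have n0 : ¬ P ∣ x := nd_lt (by omega) (by linarith only [hlt, hx2])
  have n1 : ¬ P ∣ x - 1 := nd_lt (by omega) (by linarith only [hlt, hx2])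
  have n2 : ¬ P ∣ x + 1 := nd_lt (by omega) (by linarith only [hlt, hx2])
  have n3 : ¬ P ∣ x ^ (2:ℕ) + x + 1 := nd_lt (by linarith only [hx, hx2]) (by linarith only [hlt])
  have n6 : ¬ P ∣ x ^ (2:ℕ) - x + 1 := nd_lt (by nlinarith only [hx, hx2]) (by linarith only [hx, hlt])
  have n4 : ¬ P ∣ x ^ (2:ℕ) + 1 := nd_lt (by linarith only [hx2]) (by linarith only [hx, hlt])
  have s8 : ¬ P ^ (2:ℕ) ∣ x ^ (4:ℕ) + 1 := nd_lt (by positivity) (lt_of_lt_of_le (by nlinarith only [hx, hx2]) hP2)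
  have s12 : ¬ P ^ (2:ℕ) ∣ x ^ (4:ℕ) - x ^ (2:ℕ) + 1 := nd_lt (by nlinarith only [hx2])
    (lt_of_lt_of_le (by nlinarith only [hx]) hP2)
  have e : P4 x = (x ^ (24:ℕ) * (x - 1) ^ (4:ℕ) * (x + 1) ^ (4:ℕ) * (x ^ (2:ℕ) + x + 1) ^ (2:ℕ) * (x ^ (2:ℕ) - x + 1) ^ (2:ℕ) * (x ^ (2:ℕ) + 1) ^ (2:ℕ)) *
      ((x ^ (4:ℕ) + 1) * (x ^ (4:ℕ) - x ^ (2:ℕ) + 1)) := by unfold P4; (set_option synthInstance.maxSize 99999 in exact Cfsg.Agent.Lib.RingK.eq (by decide +kernel))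
  rw [e] at h
  refine not_sq hP ?_ (not_sq2 hP (fun h1 h2 => ?_) s8 s12) h
  · exact nd_mul hP (nd_mul hP (nd_mul hP (nd_mul hP (nd_mul hP (nd_pow hP n0 _) (nd_pow hP n1 _)) (nd_pow hP n2 _))
      (nd_pow hP n3 _)) (nd_pow hP n6 _)) (nd_pow hP n4 _)
  · have h3 := dvd_sub h1 h2
    rw [show x ^ (4:ℕ) + 1 - (x ^ (4:ℕ) - x ^ (2:ℕ) + 1) = x ^ (2:ℕ) by ring] at h3
    exact nd_pow hP n0 2 h3

theorem w12 (x : ℤ) : ∃ M : ℤ, P4 x = (1 - x ^ (2:ℕ) + x ^ (4:ℕ)) * M ∧ (1 - x ^ (2:ℕ) + x ^ (4:ℕ)) ∣ M - 12 :=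
  ⟨x ^ (24:ℕ) * (x ^ (6:ℕ) - 1) * (x ^ (2:ℕ) + 1) * (x ^ (8:ℕ) - 1) * (x ^ (6:ℕ) - 1) * (x ^ (2:ℕ) - 1), by unfold P4; ring, ⟨-12 - 12 * x ^ (2:ℕ) + 12 * x ^ (6:ℕ) + 12 * x ^ (8:ℕ) - 12 * x ^ (12:ℕ) - 12 * x ^ (14:ℕ) + 12 * x ^ (18:ℕ) + 12 * x ^ (20:ℕ) - 11 * x ^ (24:ℕ) - 11 * x ^ (26:ℕ) - x ^ (28:ℕ) + 8 * x ^ (30:ℕ) + 8 * x ^ (32:ℕ) + 2 * x ^ (34:ℕ) - 4 * x ^ (36:ℕ) - 4 * x ^ (38:ℕ) - x ^ (40:ℕ) + x ^ (42:ℕ) + x ^ (44:ℕ), by ring⟩⟩

theorem w8 (x : ℤ) : ∃ M : ℤ, P4 x = (x ^ (4:ℕ) + 1) * M ∧ (x ^ (4:ℕ) + 1) ∣ M - 8 :=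
  ⟨x ^ (24:ℕ) * (x ^ (12:ℕ) - 1) * (x ^ (4:ℕ) - 1) * (x ^ (6:ℕ) - 1) * (x ^ (2:ℕ) - 1), by unfold P4; ring, ⟨-8 + 8 * x ^ (4:ℕ) - 8 * x ^ (8:ℕ) + 8 * x ^ (12:ℕ) - 8 * x ^ (16:ℕ) + 8 * x ^ (20:ℕ) - 7 * x ^ (24:ℕ) - x ^ (26:ℕ) + 6 * x ^ (28:ℕ) + x ^ (30:ℕ) - 5 * x ^ (32:ℕ) + 3 * x ^ (36:ℕ) + x ^ (38:ℕ) - 2 * x ^ (40:ℕ) - x ^ (42:ℕ) + x ^ (44:ℕ), by ring⟩⟩

variable {S : Type u} [Group S] [Finite S]

/-- `F₄(2)` -/
theorem two (hcard : (Nat.card S : ℤ) = P4 2) (h4 : HasOrd S 4) : Row S := by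
  have hc : Nat.card S = 3311126603366400 := by
    have : ((Nat.card S : ℕ) : ℤ) = ((3311126603366400 : ℕ) : ℤ) := by rw [hcard]; norm_num [P4]
    exact_mod_cast this
  intro p hp h5 hd
  have hP : Prime (p : ℤ) := Nat.prime_iff_prime_int.1 hp
  have hd' : (p : ℤ) ^ (2:ℕ) ∣ P4 2 := by rw [← hcard]; exact_mod_cast hd
  have hb : p ≤ 7 := by
    have := bound le_rfl hP hd'
    norm_num at this
    exact_mod_cast this
  have h7 : p = 5 ∨ p = 7 := by
    interval_cases p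
    · exact Or.inl rfl
    · exact absurd hp (by norm_num)
    · exact Or.inr rfl
  rcases h7 with rfl | rfl
  · exact reg_ords {1, 2, 3, 7, 13, 17} (ords hc _ (by
      simp only [Finset.mem_insert, Finset.mem_singleton, forall_eq_or_imp, forall_eq]
      norm_num)) (by decide) (by decide)
  · refine reg_ords {1, 2, 3, 4, 5, 13, 17} ?_ (by decide) (by decide)
    intro k hk
    by_cases h : k = 4
    · rw [h]; exact h4
    · refine ords hc {1, 2, 3, 5, 13, 17} ?_ k ?_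
      · simp only [Finset.mem_insert, Finset.mem_singleton, forall_eq_or_imp, forall_eq]
        norm_num
      · simp only [Finset.mem_insert, Finset.mem_singleton] at hk ⊢
        (clear * - h hk; tauto)

/-- the congruences -/
theorem mod12 {q N : ℕ} (hq : 2 ≤ q) (hN : (N : ℤ) = 1 - (q : ℤ) ^ (2:ℕ) + (q : ℤ) ^ (4:ℕ))
    (hcard : (Nat.card S : ℤ) = P4 q) : Nat.card S / N ≡ 12 [MOD N] := by
  obtain ⟨M, h1, h2⟩ := w12 q
  have h0 : 0 < N := by
    have : (2 : ℤ) ≤ q := by exact_mod_cast hq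
    have : (0 : ℤ) < N := by rw [hN]; nlinarith only [sq_nonneg ((q : ℤ) ^ (2:ℕ))]
    exact_mod_cast this
  exact modEq_of_int (M := M) h0 (by rw [hcard, h1, hN]) (by rw [hN]; exact_mod_cast h2)

theorem mod8 {q : ℕ} (hcard : (Nat.card S : ℤ) = P4 q) {N : ℕ} (hN : N ∣ q ^ (4:ℕ) + 1) :
    Nat.card S / (q ^ (4:ℕ) + 1) ≡ 8 [MOD N] := by
  obtain ⟨M, h1, h2⟩ := w8 q
  refine Nat.ModEq.of_dvd hN (modEq_of_int (M := M) (by positivity) ?_ ?_)
  · rw [hcard, h1]; push_cast; ring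
  · push_cast; exact_mod_cast h2

/-- `F₄(3)` -/
theorem three (hcard : (Nat.card S : ℤ) = P4 3) (hout : Nat.card (Cfsg.Out S) = 1) (h12 : Iso S 73 73)
    (h8 : Iso S 82 41) : Row S := by
  have hc : Nat.card S = 5734420792816671844761600 := by
    have : ((Nat.card S : ℕ) : ℤ) = ((5734420792816671844761600 : ℕ) : ℤ) := by rw [hcard]; norm_num [P4]
    exact_mod_cast this
  have t12 : MO {k | k ∣ 73 ∧ k ≠ 1} 6 S :=
    h12.mo' (mod12 (q := 3) (by norm_num) (by norm_num) (by exact_mod_cast hcard)) hout.le dvd_rfl (by norm_num)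
  have t8 : MO {k | k ∣ 41 ∧ k ≠ 1} 5 S :=
    h8.mo' (mod8 (q := 3) (by exact_mod_cast hcard) (by norm_num)) hout.le dvd_rfl (by norm_num)
  intro p hp h5 hd
  have hP : Prime (p : ℤ) := Nat.prime_iff_prime_int.1 hp
  have hd' : (p : ℤ) ^ (2:ℕ) ∣ P4 3 := by rw [← hcard]; exact_mod_cast hd
  have hb : p ≤ 13 := by
    have := bound (by norm_num) hP hd'
    norm_num at this
    exact_mod_cast this
  have hne : ∀ k : ℕ, k.Prime → 13 < k → ¬ p ∣ k := fun k hk hlt h => by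
    have := (Nat.prime_dvd_prime_iff_eq hp hk).1 h
    omega
  by_cases h11 : p ≤ 11
  · exact reg_add2 (by norm_num) (hne _ (by norm_num) (by norm_num)) (hne _ (by norm_num) (by norm_num)) t12 t8 ∅
      (by simp) (by simp) (by simp) (by simp) (by simpa using h11)
  · have h13 : p = 13 := by
      interval_cases p
      · exact absurd hp (by norm_num)
      · rfl
    subst h13
    exact reg_add2 (by norm_num) (hne _ (by norm_num) (by norm_num)) (hne _ (by norm_num) (by norm_num)) t12 t8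
      {1, 2} (ords hc _ (by
        simp only [Finset.mem_insert, Finset.mem_singleton, forall_eq_or_imp, forall_eq]
        norm_num)) (by decide) (by decide) (by decide) (by decide)

/-- `F₄(4)` -/
theorem four (hcard : (Nat.card S : ℤ) = P4 4) (hout : Nat.card (Cfsg.Out S) = 4) (h12 : Iso S 241 241)
    (h8 : Iso S 257 257) : Row S := by
  have hc : Nat.card S = 19009825523840945451297669120000 := by
    have : ((Nat.card S : ℕ) : ℤ) = ((19009825523840945451297669120000 : ℕ) : ℤ) := by rw [hcard]; norm_num [P4]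
    exact_mod_cast this
  have t12 : MO {k | k ∣ 241 ∧ k ≠ 1} 5 S :=
    h12.mo' (mod12 (q := 4) (by norm_num) (by norm_num) (by exact_mod_cast hcard)) hout.le dvd_rfl (by norm_num)
  have t8 : MO {k | k ∣ 257 ∧ k ≠ 1} 8 S :=
    h8.mo' (mod8 (q := 4) (by exact_mod_cast hcard) (by norm_num)) hout.le dvd_rfl (by norm_num)
  intro p hp h5 hd
  have hP : Prime (p : ℤ) := Nat.prime_iff_prime_int.1 hp
  have hd' : (p : ℤ) ^ (2:ℕ) ∣ P4 4 := by rw [← hcard]; exact_mod_cast hd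
  have hb : p ≤ 21 := by
    have := bound (by norm_num) hP hd'
    norm_num at this
    exact_mod_cast this
  have hne : ∀ k : ℕ, k.Prime → 21 < k → ¬ p ∣ k := fun k hk hlt h => by
    have := (Nat.prime_dvd_prime_iff_eq hp hk).1 h
    omega
  by_cases h13 : p ≤ 13
  · exact reg_add2 (by norm_num) (hne _ (by norm_num) (by norm_num)) (hne _ (by norm_num) (by norm_num)) t12 t8 ∅
      (by simp) (by simp) (by simp) (by simp) (by simpa using h13)
  · have h17 : p = 17 := by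
      interval_cases p
      · exact absurd hp (by norm_num)
      · exact absurd hp (by norm_num)
      · exact absurd hp (by norm_num)
      · rfl
      · exact absurd hp (by norm_num)
      · rw [hc] at hd; exact absurd hd (by norm_num)
      · exact absurd hp (by norm_num)
      · exact absurd hp (by norm_num)
    subst h17
    exact reg_add2 (by norm_num) (hne _ (by norm_num) (by norm_num)) (hne _ (by norm_num) (by norm_num)) t12 t8
      {1, 2, 3, 5} (ords hc _ (by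
        simp only [Finset.mem_insert, Finset.mem_singleton, forall_eq_or_imp, forall_eq]
        norm_num)) (by decide) (by decide) (by decide) (by decide)

/-- `F₄(8)` -/
theorem eight (hcard : (Nat.card S : ℤ) = P4 8) (hout : Nat.card (Cfsg.Out S) = 6)
    (h8 : Iso S 4097 4097) : Row S := by
  have hc : Nat.card S = 89916256275114328125813913131505293998004633600 := by
    have : ((Nat.card S : ℕ) : ℤ) = ((89916256275114328125813913131505293998004633600 : ℕ) : ℤ) := by rw [hcard]; norm_num [P4]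
    exact_mod_cast this
  intro p hp h5 hd
  have hP : Prime (p : ℤ) := Nat.prime_iff_prime_int.1 hp
  have hd' : (p : ℤ) ^ (2:ℕ) ∣ P4 8 := by rw [← hcard]; exact_mod_cast hd
  have hb : p ≤ 73 := by
    have := bound (by norm_num) hP hd'
    norm_num at this
    exact_mod_cast this
  refine reg_of_torus (m := 4097) (fun h => ?_)
    (h8.mo' (mod8 (q := 8) (by exact_mod_cast hcard) (by norm_num)) hout.le dvd_rfl (by norm_num; omega))
  rw [show 4097 = 17 * 241 by norm_num] at h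
  rcases (Nat.Prime.dvd_mul hp).1 h with h | h
  · have := (Nat.prime_dvd_prime_iff_eq hp (by norm_num)).1 h
    subst this
    rw [hc] at hd
    exact absurd hd (by norm_num)
  · have := (Nat.prime_dvd_prime_iff_eq hp (by norm_num)).1 h
    omega

/-- the general case -/
theorem gen {q o : ℕ} (hq : 2 ≤ q) (hcard : (Nat.card S : ℤ) = P4 q) (hout : Nat.card (Cfsg.Out S) = o)
    {N12 N8 : ℕ} (hN12 : (N12 : ℤ) = 1 - (q : ℤ) ^ (2:ℕ) + (q : ℤ) ^ (4:ℕ)) (h12 : Iso S N12 N12) (hN8 : N8 ∣ q ^ (4:ℕ) + 1)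
    (h8 : Iso S (q ^ (4:ℕ) + 1) N8) (hi8 : (q ^ (2:ℕ) + q) * (8 * o) < N8 - 1)
    (hi12 : (q ^ (2:ℕ) + q) * (12 * o) + q ^ (2:ℕ) < q ^ (4:ℕ)) : Row S := by
  intro p hp h5 hd
  have hP : Prime (p : ℤ) := Nat.prime_iff_prime_int.1 hp
  have hd' : (p : ℤ) ^ (2:ℕ) ∣ P4 q := by rw [← hcard]; exact_mod_cast hd
  have hb : p ≤ q ^ (2:ℕ) + q + 1 := by
    have := bound (by exact_mod_cast hq) hP hd'
    exact_mod_cast this
  have hb' : p - 1 ≤ q ^ (2:ℕ) + q := by omega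
  by_cases h : p ∣ N8
  · have h12' : ¬ p ∣ N12 := by
      intro h2
      have h3 : (p : ℤ) ∣ (q : ℤ) ^ (4:ℕ) + 1 := by exact_mod_cast h.trans hN8
      have h4 : (p : ℤ) ∣ 1 - (q : ℤ) ^ (2:ℕ) + (q : ℤ) ^ (4:ℕ) := by rw [← hN12]; exact_mod_cast h2
      have h5 := dvd_sub h3 h4
      rw [show (q : ℤ) ^ (4:ℕ) + 1 - (1 - (q : ℤ) ^ (2:ℕ) + (q : ℤ) ^ (4:ℕ)) = (q : ℤ) ^ (2:ℕ) by ring] at h5
      have h6 := (hP.dvd_of_dvd_pow h5).trans (dvd_pow_self (q : ℤ) (show 4 ≠ 0 by norm_num))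
      have h7 := dvd_sub h3 h6
      rw [add_sub_cancel_left] at h7
      exact hP.not_dvd_one h7
    refine reg_of_torus h12' (h12.mo' (mod12 hq hN12 hcard) hout.le dvd_rfl ?_)
    have h6 : N12 + q ^ (2:ℕ) = q ^ (4:ℕ) + 1 := by
      have : ((N12 + q ^ 2 : ℕ) : ℤ) = ((q ^ (4:ℕ) + 1 : ℕ) : ℤ) := by push_cast; rw [hN12]; ring
      exact_mod_cast this
    have h7 := Nat.mul_le_mul_right (12 * o) hb'
    omega
  · exact reg_of_torus h (h8.mo' (mod8 hcard hN8) hout.le dvd_rfl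
      (lt_of_le_of_lt (Nat.mul_le_mul_right _ hb') hi8))

/-- **the row of `F₄(q)`** -/
theorem row {q ℓ f : ℕ} (hℓ : ℓ.Prime) (hf : 1 ≤ f) (hq : q = ℓ ^ f)
    (hcard : (Nat.card S : ℤ) = P4 q) (hout : Nat.card (Cfsg.Out S) = Nat.gcd 2 ℓ * f)
    {N12 : ℕ} (hN12 : (N12 : ℤ) = 1 - (q : ℤ) ^ (2:ℕ) + (q : ℤ) ^ (4:ℕ)) (h12 : Iso S N12 N12)
    (h8 : Iso S (q ^ (4:ℕ) + 1) ((q ^ (4:ℕ) + 1) / Nat.gcd 2 (q - 1))) (h4 : q = 2 → HasOrd S 4) : Row S := by
  have hq2 := two_le_of hℓ hf hq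
  rcases two_or_three hℓ hq with ⟨rfl, hq'⟩ | ⟨hne, h3, hodd⟩
  · rw [Nat.gcd_self] at hout
    have heven : Nat.gcd 2 (q - 1) = 1 := by
      rw [hq']
      obtain ⟨k, rfl⟩ : ∃ k, f = k + 1 := ⟨f - 1, by omega⟩
      have : 1 ≤ 2 ^ k := Nat.one_le_two_pow
      refine (Nat.Prime.coprime_iff_not_dvd Nat.prime_two).2 ?_
      rw [pow_succ]
      omega
    rw [heven, Nat.div_one] at h8
    by_cases hf4 : 4 ≤ f
    · have h1 := four_mul_le hf4
      rw [← hq'] at h1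
      have hq16 : 16 ≤ q := by
        rw [hq']
        calc 16 = 2 ^ (4:ℕ) := by norm_num
          _ ≤ 2 ^ f := Nat.pow_le_pow_right (by norm_num) hf4
      refine gen hq2 hcard hout hN12 h12 dvd_rfl h8 ?_ ?_
      · have h2 : (q ^ (2:ℕ) + q) * (8 * (2 * f)) < q ^ (4:ℕ) := by
          calc (q ^ (2:ℕ) + q) * (8 * (2 * f)) = (q ^ (2:ℕ) + q) * (4 * (4 * f)) := by ring
            _ ≤ (q ^ (2:ℕ) + q) * (4 * q) := by gcongr
            _ < q ^ (4:ℕ) := by nlinarith only [hN12, hq2, hf4, h1]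
        omega
      · calc (q ^ (2:ℕ) + q) * (12 * (2 * f)) + q ^ (2:ℕ) = (q ^ (2:ℕ) + q) * (6 * (4 * f)) + q ^ (2:ℕ) := by ring
          _ ≤ (q ^ (2:ℕ) + q) * (6 * q) + q ^ (2:ℕ) := by gcongr
          _ < q ^ (4:ℕ) := by nlinarith only [hN12, hq2, hf4, h1]
    · interval_cases f
      · norm_num at hq'
        subst hq'
        exact two (by exact_mod_cast hcard) (h4 rfl)
      · norm_num at hq'
        subst hq'
        have : N12 = 241 := by
          have : (N12 : ℤ) = 241 := by rw [hN12]; norm_num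
          exact_mod_cast this
        subst this
        exact four (by exact_mod_cast hcard) (by rw [hout]) h12 h8
      · norm_num at hq'
        subst hq'
        exact eight (by exact_mod_cast hcard) (by rw [hout]) h8
  · have hg : Nat.gcd 2 ℓ = 1 := (Nat.Prime.coprime_iff_not_dvd Nat.prime_two).2 fun h =>
      hne ((Nat.prime_dvd_prime_iff_eq Nat.prime_two hℓ).1 h).symm
    rw [hg, one_mul] at hout
    have hg2 : Nat.gcd 2 (q - 1) = 2 := by
      refine Nat.gcd_eq_left ?_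
      obtain ⟨k, rfl⟩ := hodd
      omega
    rw [hg2] at h8
    have hdvd : (q ^ (4:ℕ) + 1) / 2 ∣ q ^ (4:ℕ) + 1 := by
      refine Nat.div_dvd_of_dvd ?_
      have : Even (q ^ (4:ℕ) + 1) := (hodd.pow).add_one
      exact this.two_dvd
    by_cases hq3 : q = 3
    · subst hq3
      have hf1 : f = 1 := by
        by_contra hf1
        have : 3 ^ (2:ℕ) ≤ 3 ^ f := Nat.pow_le_pow_right (by norm_num) (by omega)
        omega
      have : N12 = 73 := by
        have : (N12 : ℤ) = 73 := by rw [hN12]; norm_num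
        exact_mod_cast this
      subst this
      exact three (by exact_mod_cast hcard) (by rw [hout, hf1]) h12 h8
    · have hq5 : 5 ≤ q := by
        rcases hodd with ⟨k, rfl⟩
        omega
      have hfq : 9 * f ≤ 2 * q ∨ f = 1 := by
        by_cases hf1 : f = 1
        · exact Or.inr hf1
        · exact Or.inl ((nine_mul_le (by omega)).trans (Nat.mul_le_mul_left 2 h3))
      refine gen hq2 hcard hout hN12 h12 hdvd h8 ?_ ?_
      · have h2 : (q ^ (2:ℕ) + q) * (16 * f) + 2 < q ^ (4:ℕ) := by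
          rcases hfq with h | rfl
          · nlinarith only [hq5, h, pow_pos (show 0 < q by omega) 3]
          · nlinarith only [hq5, pow_pos (show 0 < q by omega) 3]
        have h3 : (q ^ (2:ℕ) + q) * (8 * f) * 2 = (q ^ (2:ℕ) + q) * (16 * f) := by ring
        omega
      · rcases hfq with h | rfl
        · nlinarith only [hq5, h, pow_pos (show 0 < q by omega) 3]
        · nlinarith only [hq5, pow_pos (show 0 < q by omega) 3]

end Cfsg.Agent.H92.PRegF4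
end

-- part: H92/PRegE6
section
/-!
# `E₆(q)`, `²E₆(q)`: the number theory (helper92, for S4883)

`x = q` for `E₆(q)`, `x = -q` for `²E₆(q)`.
-/

set_option autoImplicit false
set_option linter.unusedSectionVars false

namespace Cfsg.Agent.H92.PRegE6

open Cfsg.Agent.H93.PReg Cfsg.Agent.H92.PRegT Cfsg.Agent.H92.KTools Cfsg.Agent.H92.PRegNum

universe u

/-- the order polynomial -/
def P6 (x : ℤ) : ℤ := x ^ (36:ℕ) * (x ^ (12:ℕ) - 1) * (x ^ (9:ℕ) - 1) * (x ^ (8:ℕ) - 1) * (x ^ (6:ℕ) - 1) * (x ^ (5:ℕ) - 1) * (x ^ (2:ℕ) - 1)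

theorem bound {x y P : ℤ} (hy : 2 ≤ y) (hxy : x = y ∨ x = -y) (hP : Prime P) (h : P ^ (2:ℕ) ∣ P6 x)
    (hs9 : ¬ P ^ (2:ℕ) ∣ x ^ (6:ℕ) + x ^ (3:ℕ) + 1) : P ≤ y ^ (2:ℕ) + y + 1 := by
  by_contra hlt
  push Not at hlt
  have hy2 : 4 ≤ y ^ (2:ℕ) := by nlinarith only [hy]
  have hPx : y ^ (2:ℕ) + y + 2 ≤ P := by omega
  have hy3 : 0 < y ^ (3:ℕ) := pow_pos (by omega) 3
  have hP2 : (y ^ (2:ℕ) + y + 2) ^ (2:ℕ) ≤ P ^ (2:ℕ) := pow_le_pow_left₀ (by linarith only [hy, hy2]) hPx 2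
  have n0 : ¬ P ∣ x := nd_abs (by rcases hxy with rfl | rfl <;> omega)
    (by rcases hxy with rfl | rfl <;> rw [abs_lt] <;> constructor <;> linarith only [hy, hlt, hy2])
  have n1 : ¬ P ∣ x - 1 := nd_abs (by rcases hxy with rfl | rfl <;> omega)
    (by rcases hxy with rfl | rfl <;> rw [abs_lt] <;> constructor <;> linarith only [hy, hlt, hy2])
  have n2 : ¬ P ∣ x + 1 := nd_abs (by rcases hxy with rfl | rfl <;> omega)
    (by rcases hxy with rfl | rfl <;> rw [abs_lt] <;> constructor <;> linarith only [hy, hlt, hy2])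
  have n3 : ¬ P ∣ x ^ (2:ℕ) + x + 1 := nd_lt (by rcases hxy with rfl | rfl <;> nlinarith only [hy, hy2])
    (by rcases hxy with rfl | rfl <;> linarith only [hy, hlt])
  have n6 : ¬ P ∣ x ^ (2:ℕ) - x + 1 := nd_lt (by rcases hxy with rfl | rfl <;> nlinarith only [hy, hy2])
    (by rcases hxy with rfl | rfl <;> linarith only [hy, hlt])
  have n4 : ¬ P ∣ x ^ (2:ℕ) + 1 := nd_lt (by rcases hxy with rfl | rfl <;> linarith only [hy2])
    (by rcases hxy with rfl | rfl <;> linarith only [hy, hlt])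
  have s5 : ¬ P ^ (2:ℕ) ∣ x ^ (4:ℕ) + x ^ (3:ℕ) + x ^ (2:ℕ) + x + 1 := nd_lt (by nlinarith only [sq_nonneg (x ^ (2:ℕ) + x), sq_nonneg (x + 1), sq_nonneg x])
    (lt_of_lt_of_le (by rcases hxy with rfl | rfl <;> linarith only [hy, hy2, hy3]) hP2)
  have s8 : ¬ P ^ (2:ℕ) ∣ x ^ (4:ℕ) + 1 := nd_lt (by (clear * -; positivity))
    (lt_of_lt_of_le (by rcases hxy with rfl | rfl <;> linarith only [hy, hy2, hy3]) hP2)
  have s12 : ¬ P ^ (2:ℕ) ∣ x ^ (4:ℕ) - x ^ (2:ℕ) + 1 := nd_lt (by linarith only [sq_nonneg (x ^ (2:ℕ) - 1), sq_nonneg (x ^ (2:ℕ))])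
    (lt_of_lt_of_le (by rcases hxy with rfl | rfl <;> linarith only [hy, hy2, hy3]) hP2)
  have N1 : ¬ P ∣ x ^ (1:ℕ) - 1 := by rwa [pow_one]
  have N2 : ¬ P ∣ x ^ (2:ℕ) - 1 := by
    rw [show x ^ (2:ℕ) - 1 = (x - 1) * (x + 1) by ring]; exact nd_mul hP n1 n2
  have N3 : ¬ P ∣ x ^ (3:ℕ) - 1 := by
    rw [show x ^ (3:ℕ) - 1 = (x - 1) * (x ^ (2:ℕ) + x + 1) by ring]; exact nd_mul hP n1 n3
  have N4 : ¬ P ∣ x ^ (4:ℕ) - 1 := by
    rw [show x ^ (4:ℕ) - 1 = (x ^ (2:ℕ) - 1) * (x ^ (2:ℕ) + 1) by ring]; exact nd_mul hP N2 n4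
  have N6 : ¬ P ∣ x ^ (6:ℕ) - 1 := by
    rw [show x ^ (6:ℕ) - 1 = (x ^ (3:ℕ) - 1) * ((x + 1) * (x ^ (2:ℕ) - x + 1)) by ring]; exact nd_mul hP N3 (nd_mul hP n2 n6)
  have sq : ∀ {a : ℤ}, ¬ P ∣ a → ¬ P ^ (2:ℕ) ∣ a := fun ha h => ha ((dvd_pow_self P two_ne_zero).trans h)
  have S5 : ¬ P ^ (2:ℕ) ∣ x ^ (5:ℕ) - 1 := by
    rw [show x ^ (5:ℕ) - 1 = (x - 1) * (x ^ (4:ℕ) + x ^ (3:ℕ) + x ^ (2:ℕ) + x + 1) by ring]; exact not_sq hP n1 s5
  have S8 : ¬ P ^ (2:ℕ) ∣ x ^ (8:ℕ) - 1 := by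
    rw [show x ^ (8:ℕ) - 1 = (x ^ (4:ℕ) - 1) * (x ^ (4:ℕ) + 1) by ring]; exact not_sq hP N4 s8
  have S9 : ¬ P ^ (2:ℕ) ∣ x ^ (9:ℕ) - 1 := by
    rw [show x ^ (9:ℕ) - 1 = (x ^ (3:ℕ) - 1) * (x ^ (6:ℕ) + x ^ (3:ℕ) + 1) by ring]; exact not_sq hP N3 hs9
  have S12 : ¬ P ^ (2:ℕ) ∣ x ^ (12:ℕ) - 1 := by
    rw [show x ^ (12:ℕ) - 1 = ((x ^ (6:ℕ) - 1) * (x ^ (2:ℕ) + 1)) * (x ^ (4:ℕ) - x ^ (2:ℕ) + 1) by ring]
    exact not_sq hP (nd_mul hP N6 n4) s12
  have e : P6 x = x ^ (36:ℕ) * (([12, 9, 8, 6, 5, 2] : List ℕ).map fun d => x ^ d - 1).prod := by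
    simp only [P6, List.map_cons, List.map_nil, List.prod_cons, List.prod_nil]; ring
  rw [e] at h
  refine not_sq hP (nd_pow hP n0 _) (not_sq_list hP _ ?_ ?_) h
  · simp only [List.mem_cons, forall_eq_or_imp, List.not_mem_nil, false_imp_iff, implies_true, and_true]
    exact ⟨S12, S9, S8, sq N6, S5, sq N2⟩
  · simp only [List.pairwise_cons, List.mem_cons, forall_eq_or_imp, List.not_mem_nil, false_imp_iff, implies_true,
      and_true, List.Pairwise.nil]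
    norm_num only [pow_one, and_self]
    (clear * - n1 N2 N3 N4 N6; tauto)

theorem sq_of {x P : ℤ} (hP : Prime P) (h5 : 5 ≤ P) (h : P ^ (2:ℕ) ∣ P6 x) (h9 : P ∣ x ^ (6:ℕ) + x ^ (3:ℕ) + 1) :
    P ^ (2:ℕ) ∣ x ^ (6:ℕ) + x ^ (3:ℕ) + 1 := by
  have n0 : ¬ P ∣ x := fun h0 => by
    have h1 : P ∣ x ^ (6:ℕ) + x ^ (3:ℕ) := dvd_add (h0.trans (dvd_pow_self x (by norm_num))) (h0.trans (dvd_pow_self x (by norm_num)))
    have h2 := dvd_sub h9 h1
    rw [add_sub_cancel_left] at h2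
    exact hP.not_dvd_one h2
  have N3 : ¬ P ∣ x ^ (3:ℕ) - 1 := fun h0 => by
    have h2 := dvd_sub h9 (h0.mul_right (x ^ (3:ℕ) + 2))
    rw [show x ^ (6:ℕ) + x ^ (3:ℕ) + 1 - (x ^ (3:ℕ) - 1) * (x ^ (3:ℕ) + 2) = 3 by ring] at h2
    exact absurd (Int.le_of_dvd (by norm_num) h2) (by omega)
  have N1 : ¬ P ∣ x ^ (1:ℕ) - 1 := fun h0 => N3 (by
    rw [show x ^ (3:ℕ) - 1 = (x ^ (1:ℕ) - 1) * (x ^ (2:ℕ) + x + 1) by ring]; exact h0.mul_right _)
  have h99 : P ∣ x ^ (9:ℕ) - 1 := by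
    rw [show x ^ (9:ℕ) - 1 = (x ^ (6:ℕ) + x ^ (3:ℕ) + 1) * (x ^ (3:ℕ) - 1) by ring]; exact h9.mul_right _
  have key : ∀ d : ℕ, (Nat.gcd 9 d = 1 ∨ Nat.gcd 9 d = 3) → ¬ P ∣ x ^ d - 1 := by
    intro d hd h0
    have h1 := dvd_gcd_pow h99 h0
    rcases hd with hd | hd <;> rw [hd] at h1
    · exact N1 h1
    · exact N3 h1
  have e : P6 x = (x ^ (36:ℕ) * (x ^ (12:ℕ) - 1) * (x ^ (3:ℕ) - 1) * (x ^ (8:ℕ) - 1) * (x ^ (6:ℕ) - 1) * (x ^ (5:ℕ) - 1) * (x ^ (2:ℕ) - 1)) *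
      (x ^ (6:ℕ) + x ^ (3:ℕ) + 1) := by unfold P6; (set_option synthInstance.maxSize 99999 in exact Cfsg.Agent.Lib.RingK.eq (by decide +kernel))
  rw [e] at h
  by_contra hcon
  refine not_sq hP ?_ hcon h
  exact nd_mul hP (nd_mul hP (nd_mul hP (nd_mul hP (nd_mul hP (nd_mul hP (nd_pow hP n0 _) (key 12 (by decide))) N3)
    (key 8 (by decide))) (key 6 (by decide))) (key 5 (by decide))) (key 2 (by decide))

theorem w9 (x : ℤ) : ∃ M : ℤ, P6 x = (x ^ (6:ℕ) + x ^ (3:ℕ) + 1) * M ∧ (x ^ (6:ℕ) + x ^ (3:ℕ) + 1) ∣ M - 9 :=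
  ⟨x ^ (36:ℕ) * (x ^ (12:ℕ) - 1) * (x ^ (3:ℕ) - 1) * (x ^ (8:ℕ) - 1) * (x ^ (6:ℕ) - 1) * (x ^ (5:ℕ) - 1) * (x ^ (2:ℕ) - 1), by unfold P6; (set_option synthInstance.maxSize 99999 in exact Cfsg.Agent.Lib.RingK.eq (by decide +kernel)),
    ⟨-9 + 9 * x ^ (3:ℕ) - 9 * x ^ (9:ℕ) + 9 * x ^ (12:ℕ) - 9 * x ^ (18:ℕ) + 9 * x ^ (21:ℕ) - 9 * x ^ (27:ℕ) + 9 * x ^ (30:ℕ) - 8 * x ^ (36:ℕ) - x ^ (38:ℕ) + 7 * x ^ (39:ℕ) + x ^ (41:ℕ) + x ^ (43:ℕ) + x ^ (44:ℕ) - 6 * x ^ (45:ℕ) - x ^ (46:ℕ) - x ^ (47:ℕ) + 5 * x ^ (48:ℕ) - x ^ (49:ℕ) + x ^ (50:ℕ) + x ^ (51:ℕ) + x ^ (52:ℕ) - x ^ (53:ℕ) - 4 * x ^ (54:ℕ) - x ^ (55:ℕ) - x ^ (56:ℕ) + 3 * x ^ (57:ℕ) + x ^ (58:ℕ) + x ^ (59:ℕ) + x ^ (61:ℕ) - 2 * x ^ (63:ℕ) - x ^ (64:ℕ) + x ^ (66:ℕ), by ring⟩⟩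

theorem w12 (x : ℤ) : ∃ M : ℤ, P6 x = (x ^ (2:ℕ) + x + 1) * (x ^ (4:ℕ) - x ^ (2:ℕ) + 1) * M ∧ (x ^ (4:ℕ) - x ^ (2:ℕ) + 1) ∣ M - 12 :=
  ⟨x ^ (36:ℕ) * (x ^ (6:ℕ) - 1) * (x ^ (2:ℕ) + 1) * (x ^ (9:ℕ) - 1) * (x ^ (8:ℕ) - 1) * ((x - 1) * (x ^ (3:ℕ) + 1)) * (x ^ (5:ℕ) - 1) * (x ^ (2:ℕ) - 1),
    by unfold P6; (set_option synthInstance.maxSize 99999 in exact Cfsg.Agent.Lib.RingK.eq (by decide +kernel)), ⟨-12 - 12 * x ^ (2:ℕ) + 12 * x ^ (6:ℕ) + 12 * x ^ (8:ℕ) - 12 * x ^ (12:ℕ) - 12 * x ^ (14:ℕ) + 12 * x ^ (18:ℕ) + 12 * x ^ (20:ℕ) - 12 * x ^ (24:ℕ) - 12 * x ^ (26:ℕ) + 12 * x ^ (30:ℕ) + 12 * x ^ (32:ℕ) - 11 * x ^ (36:ℕ) - x ^ (37:ℕ) - 11 * x ^ (38:ℕ) - 2 * x ^ (40:ℕ) + x ^ (41:ℕ) + 9 * x ^ (42:ℕ) + x ^ (43:ℕ) + 10 * x ^ (44:ℕ) + x ^ (45:ℕ) + 3 * x ^ (46:ℕ) - x ^ (47:ℕ) - 6 * x ^ (48:ℕ) - 9 * x ^ (50:ℕ) - x ^ (51:ℕ) - 2 * x ^ (52:ℕ) - x ^ (53:ℕ) + 3 * x ^ (54:ℕ) + 6 * x ^ (56:ℕ) - x ^ (57:ℕ) + 3 * x ^ (58:ℕ) + x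 ^ (59:ℕ) - 2 * x ^ (60:ℕ) + x ^ (61:ℕ) - 3 * x ^ (62:ℕ) + x ^ (63:ℕ) - 2 * x ^ (64:ℕ) + x ^ (66:ℕ) - x ^ (67:ℕ) + x ^ (68:ℕ), by ring⟩⟩

variable {S : Type u} [Group S] [Finite S]

theorem mod9 {g m : ℕ} {x : ℤ} (hg : 0 < g) (hm0 : 0 < m) (hcard : (g : ℤ) * Nat.card S = P6 x)
    (hm : ((g * m : ℕ) : ℤ) = x ^ (6:ℕ) + x ^ (3:ℕ) + 1) : Nat.card S / m ≡ 9 [MOD m] := by
  obtain ⟨M, h1, h2⟩ := w9 x
  have hg' : (g : ℤ) ≠ 0 := by exact_mod_cast hg.ne'
  refine modEq_of_int (M := M) hm0 ?_ ?_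
  · apply mul_left_cancel₀ hg'
    rw [hcard, h1, ← hm]; push_cast; ring
  · refine dvd_trans ?_ h2
    rw [← hm]; push_cast; exact dvd_mul_left _ _

theorem three_of {g p : ℕ} (hg : g = 1 ∨ g = 3) (hp : p.Prime) (h5 : 5 ≤ p) : ¬ p ∣ g := by
  rcases hg with rfl | rfl
  · exact fun h => hp.one_lt.ne' (Nat.dvd_one.1 h)
  · exact fun h => absurd (Nat.le_of_dvd (by norm_num) h) (by omega)

/-- the prime does not divide `Φ₉` -/
theorem caseA {q g f m p : ℕ} {x : ℤ} (hq : 2 ≤ q) (hx : x = q ∨ x = -q) (hg : g = 1 ∨ g = 3) (hm0 : 0 < m)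
    (hcard : (g : ℤ) * Nat.card S = P6 x) (hm : ((g * m : ℕ) : ℤ) = x ^ (6:ℕ) + x ^ (3:ℕ) + 1) (h9 : Iso S m m)
    (hout : Nat.card (Cfsg.Out S) = 2 * g * f) (hp : p.Prime) (h5 : 5 ≤ p) (hd : p ^ (2:ℕ) ∣ Nat.card S) (hpm : ¬ p ∣ m)
    (hi : (q ^ (2:ℕ) + q) * (9 * (2 * g * f)) < m - 1) : MO (Reg p) p S := by
  have hg0 : 0 < g := by rcases hg with rfl | rfl <;> norm_num
  have hP : Prime (p : ℤ) := Nat.prime_iff_prime_int.1 hp
  have hd' : (p : ℤ) ^ (2:ℕ) ∣ P6 x := by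
    rw [← hcard]
    exact dvd_mul_of_dvd_right (by exact_mod_cast hd) _
  have h99 : ¬ (p : ℤ) ∣ x ^ (6:ℕ) + x ^ (3:ℕ) + 1 := by
    rw [← hm]
    intro h
    have h' : p ∣ g * m := by exact_mod_cast h
    exact ((Nat.Prime.dvd_mul hp).1 h').elim (three_of hg hp h5) hpm
  have hb : p ≤ q ^ (2:ℕ) + q + 1 := by
    have := bound (y := (q : ℤ)) (by exact_mod_cast hq) hx hP hd' fun h => h99 ((dvd_pow_self _ two_ne_zero).trans h)
    exact_mod_cast this
  have hb' : p - 1 ≤ q ^ (2:ℕ) + q := by omega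
  exact reg_of_torus hpm (h9.mo' (mod9 hg0 hm0 hcard hm) hout.le dvd_rfl
    (lt_of_le_of_lt (Nat.mul_le_mul_right _ hb') hi))

theorem mod12 {g N3 N12 t : ℕ} {x : ℤ} (hg : g = 1 ∨ g = 3) (hcard : (g : ℤ) * Nat.card S = P6 x)
    (hN3 : (N3 : ℤ) = x ^ (2:ℕ) + x + 1) (hN12 : (N12 : ℤ) = x ^ (4:ℕ) - x ^ (2:ℕ) + 1) (hN3' : 0 < N3) (hN12' : 0 < N12)
    (h3 : Nat.Coprime 3 N12)
    (h1 : N3 * N12 ∣ g * t) (h2 : t ∣ N3 * N12) (hcox : Iso S t N12) :
    ∃ w, w ≤ 12 ∧ Nat.card S / t ≡ w [MOD N12] ∧ ∃ s, t = s * N12 ∧ N3 ≤ g * s := by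
  obtain ⟨T, hT⟩ := hcox
  have hg0 : 0 < g := by rcases hg with rfl | rfl <;> norm_num
  obtain ⟨s, hs⟩ := hT.dvd
  rw [mul_comm] at hs
  subst hs
  have h4 : N3 ∣ g * s := Nat.dvd_of_mul_dvd_mul_right hN12' (by rwa [← mul_assoc] at h1)
  obtain ⟨k, hk⟩ : s ∣ N3 := Nat.dvd_of_mul_dvd_mul_right hN12' h2
  have hs0 : 0 < s := Nat.pos_of_ne_zero (by rintro rfl; omega)
  have hk0 : 0 < k := Nat.pos_of_ne_zero (by rintro rfl; omega)
  have hkg : k ∣ g := by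
    rw [hk, mul_comm g s] at h4
    exact Nat.dvd_of_mul_dvd_mul_left hs0 h4
  have ht0 : 0 < s * N12 := Nat.mul_pos hs0 hN12'
  obtain ⟨M, hM1, hM2⟩ := w12 x
  have hle : N3 ≤ g * s := Nat.le_of_dvd (Nat.mul_pos hg0 hs0) h4
  have hcase : k = g ∨ (k = 1 ∧ g = 3) := by
    rcases hg with rfl | rfl
    · exact Or.inl (Nat.dvd_one.1 hkg)
    · rcases (Nat.dvd_prime Nat.prime_three).1 hkg with h | h
      · exact Or.inr ⟨h, rfl⟩
      · exact Or.inl h
  rcases hcase with rfl | ⟨rfl, rfl⟩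
  · refine ⟨12, le_rfl, modEq_of_int (M := M) ht0 ?_ ?_, s, rfl, hle⟩
    · have hk' : (k : ℤ) ≠ 0 := by exact_mod_cast hk0.ne'
      apply mul_left_cancel₀ hk'
      rw [hcard, hM1, ← hN12, ← hN3, hk]; push_cast; ring
    · rw [hN12]; exact_mod_cast hM2
  · -- `3 |S| = t M`
    have h5 : s * N12 ∣ Nat.card S := by rw [← hT.card]; exact Subgroup.card_subgroup_dvd_card T
    obtain ⟨u, hu⟩ := h5
    refine ⟨4, by norm_num, modEq_of_int (M := (u : ℤ)) ht0 (by rw [hu]; push_cast; ring) ?_, s, rfl, hle⟩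
    have h6 : 3 * (u : ℤ) = M := by
      have h7 : ((s * N12 : ℕ) : ℤ) ≠ 0 := by exact_mod_cast ht0.ne'
      apply mul_left_cancel₀ h7
      have h8 : ((s * N12 : ℕ) : ℤ) * M = P6 x := by
        rw [hM1, ← hN12, ← hN3, hk]; push_cast; ring
      rw [h8, ← hcard, hu]; push_cast; ring
    have h7 : (N12 : ℤ) ∣ 3 * ((u : ℤ) - 4) := by
      rw [← hN12, ← h6] at hM2
      rwa [show 3 * ((u : ℤ) - 4) = 3 * (u : ℤ) - 12 by ring]
    have h8 : IsCoprime (N12 : ℤ) 3 := by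
      have := Nat.isCoprime_iff_coprime.2 h3.symm
      exact_mod_cast this
    exact_mod_cast h8.dvd_of_dvd_mul_left h7

/-- the prime divides `Φ₉` -/
theorem caseB {g f N3 N12 t p : ℕ} {x : ℤ} (hg : g = 1 ∨ g = 3)
    (hcard : (g : ℤ) * Nat.card S = P6 x)
    (hN3 : (N3 : ℤ) = x ^ (2:ℕ) + x + 1) (hN12 : (N12 : ℤ) = x ^ (4:ℕ) - x ^ (2:ℕ) + 1)
    (h1 : N3 * N12 ∣ g * t) (h2 : t ∣ N3 * N12) (hcox : Iso S t N12)
    (hout : Nat.card (Cfsg.Out S) = 2 * g * f) (hp : p.Prime) (h5 : 5 ≤ p) (hpm : (p : ℤ) ∣ x ^ (6:ℕ) + x ^ (3:ℕ) + 1)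
    (hi : (p - 1) * (24 * g ^ (2:ℕ) * f) < N3 * (N12 - 1)) : MO (Reg p) p S := by
  have hg0 : 0 < g := by rcases hg with rfl | rfl <;> norm_num
  have hP : Prime (p : ℤ) := Nat.prime_iff_prime_int.1 hp
  have hN12' : 0 < N12 := Nat.pos_of_ne_zero (by rintro rfl; simp at hi)
  have hN3' : 0 < N3 := Nat.pos_of_ne_zero (by rintro rfl; simp at hi)
  have h3 : Nat.Coprime 3 N12 := by
    rw [Nat.Prime.coprime_iff_not_dvd Nat.prime_three]
    intro h
    have h4 : ((N12 : ℤ) : ZMod 3) = 0 := by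
      have := (ZMod.natCast_eq_zero_iff N12 3).2 h
      exact_mod_cast this
    rw [hN12] at h4
    push_cast at h4
    generalize (x : ZMod 3) = y at h4; revert h4; revert y; decide
  obtain ⟨w, hw, hmod, s, hs, hle⟩ := mod12 hg hcard hN3 hN12 hN3' hN12' h3 h1 h2 hcox
  have hpt : ¬ p ∣ N3 * N12 := by
    intro h
    have h6 : (p : ℤ) ∣ (x ^ (2:ℕ) + x + 1) * (x ^ (4:ℕ) - x ^ (2:ℕ) + 1) := by
      rw [← hN3, ← hN12]; exact_mod_cast h
    rcases hP.dvd_or_dvd h6 with h7 | h7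
    · have h8 := dvd_sub hpm (h7.mul_right (x ^ (4:ℕ) - x ^ (3:ℕ) + 2 * x - 2))
      rw [show x ^ (6:ℕ) + x ^ (3:ℕ) + 1 - (x ^ (2:ℕ) + x + 1) * (x ^ (4:ℕ) - x ^ (3:ℕ) + 2 * x - 2) = 3 by ring] at h8
      exact absurd (Int.le_of_dvd (by norm_num) h8) (by omega)
    · have h8 : (p : ℤ) ∣ 1 := by
        have h9 := dvd_add (hpm.mul_right (-x ^ (3:ℕ))) (h7.mul_right (1 + x ^ (2:ℕ) + x ^ (3:ℕ) + x ^ (5:ℕ)))
        rwa [show (x ^ (6:ℕ) + x ^ (3:ℕ) + 1) * (-x ^ (3:ℕ)) + (x ^ (4:ℕ) - x ^ (2:ℕ) + 1) * (1 + x ^ (2:ℕ) + x ^ (3:ℕ) + x ^ (5:ℕ)) = 1 by ring] at h9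
      exact hP.not_dvd_one h8
  have hpt' : ¬ p ∣ t := fun h => hpt (h.trans h2)
  have ho : Nat.card (Cfsg.Out S) ≤ 2 * g * f := hout.le
  refine (hcox.mo hmod ho dvd_rfl (by rw [hs]; exact dvd_mul_left _ _) dvd_rfl (n := p) ?_).mono
    (fun k hk hpk => hpt' (hpk.trans hk.1)) le_rfl
  rw [hs, Nat.mul_div_cancel _ hN12']
  have h6 : s * N12 - s = s * (N12 - 1) := by rw [Nat.mul_sub_one]
  rw [h6]
  have h7 : (p - 1) * (w * (2 * g * f)) * g ≤ (p - 1) * (24 * g ^ (2:ℕ) * f) := by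
    calc (p - 1) * (w * (2 * g * f)) * g ≤ (p - 1) * (12 * (2 * g * f)) * g := by gcongr
      _ = (p - 1) * (24 * g ^ (2:ℕ) * f) := by ring
  have h8 : N3 * (N12 - 1) ≤ s * (N12 - 1) * g := by
    calc N3 * (N12 - 1) ≤ g * s * (N12 - 1) := by gcongr
      _ = _ := by ring
  exact lt_of_mul_lt_mul_right (lt_of_le_of_lt h7 (lt_of_lt_of_le hi h8)) (Nat.zero_le g)

theorem nsq {p n : ℕ} (hp : p.Prime) (hn : Squarefree n) : ¬ (p : ℤ) ^ (2:ℕ) ∣ (n : ℤ) := by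
  intro h
  have h' : p ^ (2:ℕ) ∣ n := by exact_mod_cast h
  rw [pow_two] at h'
  exact (Nat.squarefree_iff_prime_squarefree.1 hn) p hp h'

theorem card_eq {g c : ℕ} {x : ℤ} (hg : 0 < g) (hcard : (g : ℤ) * Nat.card S = P6 x) (h : (g : ℤ) * c = P6 x) :
    Nat.card S = c := by
  have hg' : (g : ℤ) ≠ 0 := by exact_mod_cast hg.ne'
  have := mul_left_cancel₀ hg' (hcard.trans h.symm)
  exact_mod_cast this

/-- `E₆(2)` -/
theorem e6_two {m : ℕ} (hcard : (1 : ℤ) * Nat.card S = P6 2) (hm : ((1 * m : ℕ) : ℤ) = 2 ^ (6:ℕ) + 2 ^ (3:ℕ) + 1)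
    (h9 : Iso S m m) (hout : Nat.card (Cfsg.Out S) = 2) : Row S := by
  have hm' : m = 73 := by
    have : (m : ℤ) = 73 := by rw [one_mul] at hm; rw [hm]; norm_num
    exact_mod_cast this
  subst hm'
  have hc : Nat.card S = 214841575522005575270400 := card_eq (g := 1) one_pos (by exact_mod_cast hcard) (by norm_num [P6])
  have t9 : MO {k | k ∣ 73 ∧ k ≠ 1} 4 S :=
    h9.mo' (mod9 (g := 1) (x := 2) one_pos (by norm_num) (by exact_mod_cast hcard) hm) hout.le dvd_rfl (by norm_num)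
  intro p hp h5 hd
  have hP : Prime (p : ℤ) := Nat.prime_iff_prime_int.1 hp
  have hd' : (p : ℤ) ^ (2:ℕ) ∣ P6 2 := by rw [← hcard, one_mul]; exact_mod_cast hd
  have hb : p ≤ 7 := by
    have := bound (y := 2) le_rfl (Or.inl rfl) hP hd' (by
      have := nsq hp (show Squarefree 73 by decide +kernel)
      norm_num; exact this)
    norm_num at this
    exact_mod_cast this
  have hne : ¬ p ∣ 73 := fun h => by
    have := (Nat.prime_dvd_prime_iff_eq hp (by norm_num)).1 h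
    omega
  have h7 : p = 5 ∨ p = 7 := by
    interval_cases p
    · exact Or.inl rfl
    · exact absurd hp (by norm_num)
    · exact Or.inr rfl
  have hL : ∀ k ∈ ({1, 2, 3} : Finset ℕ), HasOrd S k := ords hc _ (by
    simp only [Finset.mem_insert, Finset.mem_singleton, forall_eq_or_imp, forall_eq]
    norm_num)
  rcases h7 with rfl | rfl
  · exact reg_add hne t9 {1, 2, 3} hL (by decide) (by decide) (by decide)
  · exact reg_add hne t9 {1, 2, 3} hL (by decide) (by decide) (by decide)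

/-- `E₆(4)` -/
theorem e6_four {m : ℕ} (hcard : (3 : ℤ) * Nat.card S = P6 4) (hm : ((3 * m : ℕ) : ℤ) = 4 ^ (6:ℕ) + 4 ^ (3:ℕ) + 1)
    (h9 : Iso S m m) (hout : Nat.card (Cfsg.Out S) = 12) : Row S := by
  have hm' : m = 1387 := by
    have : (3 * m : ℕ) = 4161 := by
      have : ((3 * m : ℕ) : ℤ) = ((4161 : ℕ) : ℤ) := by rw [hm]; norm_num
      exact_mod_cast this
    omega
  subst hm'
  have hc : Nat.card S = 28509570260447546701277873018380921822248960000 := card_eq (g := 3) (by norm_num) (by exact_mod_cast hcard) (by norm_num [P6])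
  have t9 : MO {k | k ∣ 1387 ∧ k ≠ 1} 13 S :=
    h9.mo' (mod9 (g := 3) (x := 4) (by norm_num) (by norm_num) (by exact_mod_cast hcard) hm) hout.le dvd_rfl
      (by norm_num)
  intro p hp h5 hd
  have hP : Prime (p : ℤ) := Nat.prime_iff_prime_int.1 hp
  have hd' : (p : ℤ) ^ (2:ℕ) ∣ P6 4 := by
    rw [← hcard]
    exact dvd_mul_of_dvd_right (by exact_mod_cast hd) _
  have hb : p ≤ 21 := by
    have := bound (y := 4) (by norm_num) (Or.inl rfl) hP hd' (by
      have := nsq hp (show Squarefree 4161 by decide +kernel)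
      norm_num; exact this)
    norm_num at this
    exact_mod_cast this
  have h7 : p ≤ 13 ∨ p = 17 := by
    by_cases h13 : p ≤ 13
    · exact Or.inl h13
    · interval_cases p
      · exact absurd hp (by norm_num)
      · exact absurd hp (by norm_num)
      · exact absurd hp (by norm_num)
      · exact Or.inr rfl
      · exact absurd hp (by norm_num)
      · rw [hc] at hd; exact absurd hd (by norm_num)
      · exact absurd hp (by norm_num)
      · exact absurd hp (by norm_num)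
  have hne : ¬ p ∣ 1387 := fun h => by
    rw [show 1387 = 19 * 73 by norm_num] at h
    rcases (Nat.Prime.dvd_mul hp).1 h with h | h
    · have := (Nat.prime_dvd_prime_iff_eq hp (by norm_num)).1 h
      omega
    · have := (Nat.prime_dvd_prime_iff_eq hp (by norm_num)).1 h
      omega
  rcases h7 with h13 | rfl
  · exact (reg_of_torus hne t9).mono (fun _ h => h) h13
  · exact reg_add hne t9 {1, 2, 3, 5} (ords hc _ (by
      simp only [Finset.mem_insert, Finset.mem_singleton, forall_eq_or_imp, forall_eq]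
      norm_num)) (by decide) (by decide) (by decide)

/-- `²E₆(2)` -/
theorem te6_two (hcard : (3 : ℤ) * Nat.card S = P6 (-2)) : Row S := by
  have hc : Nat.card S = 76532479683774853939200 := card_eq (g := 3) (by norm_num) (by exact_mod_cast hcard) (by unfold P6; decide +kernel)
  intro p hp h5 hd
  have hP : Prime (p : ℤ) := Nat.prime_iff_prime_int.1 hp
  have hd' : (p : ℤ) ^ (2:ℕ) ∣ P6 (-2) := by
    rw [← hcard]
    exact dvd_mul_of_dvd_right (by exact_mod_cast hd) _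
  have hb : p ≤ 7 := by
    have := bound (y := 2) (by norm_num) (Or.inr rfl) hP hd' (by
      have := nsq hp (show Squarefree 57 by decide +kernel)
      norm_num; exact this)
    norm_num at this
    exact_mod_cast this
  have h7 : p = 5 ∨ p = 7 := by
    interval_cases p
    · exact Or.inl rfl
    · exact absurd hp (by norm_num)
    · exact Or.inr rfl
  rcases h7 with rfl | rfl
  · exact reg_ords {1, 2, 3, 7, 11} (ords hc _ (by
      simp only [Finset.mem_insert, Finset.mem_singleton, forall_eq_or_imp, forall_eq]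
      norm_num)) (by decide) (by decide)
  · exact reg_ords {1, 2, 3, 5, 11, 13, 17} (ords hc _ (by
      simp only [Finset.mem_insert, Finset.mem_singleton, forall_eq_or_imp, forall_eq]
      norm_num)) (by decide) (by decide)

theorem gcd3_cases (n : ℕ) : (Nat.gcd 3 n = 1 ∧ ¬ 3 ∣ n) ∨ (Nat.gcd 3 n = 3 ∧ 3 ∣ n) := by
  by_cases h : 3 ∣ n
  · exact Or.inr ⟨Nat.gcd_eq_left h, h⟩
  · exact Or.inl ⟨(Nat.Prime.coprime_iff_not_dvd Nat.prime_three).2 h, h⟩

/-- the general case of `E₆(q)` -/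
theorem e6_gen {q g f m N3 N12 t : ℕ} (hq : 3 ≤ q) (hg : g = 1 ∨ g = 3)
    (hcard : (g : ℤ) * Nat.card S = P6 q) (hout : Nat.card (Cfsg.Out S) = 2 * g * f)
    (hm : ((g * m : ℕ) : ℤ) = (q : ℤ) ^ (6:ℕ) + (q : ℤ) ^ (3:ℕ) + 1) (h9 : Iso S m m)
    (hN3 : (N3 : ℤ) = (q : ℤ) ^ (2:ℕ) + (q : ℤ) + 1) (hN12 : (N12 : ℤ) = (q : ℤ) ^ (4:ℕ) - (q : ℤ) ^ (2:ℕ) + 1)
    (h1 : N3 * N12 ∣ g * t) (h2 : t ∣ N3 * N12) (hcox : Iso S t N12)
    (hiA : (q ^ (2:ℕ) + q) * (18 * g ^ (2:ℕ) * f) + g < q ^ (6:ℕ) + q ^ (3:ℕ) + 1) (hiB : 24 * g ^ (2:ℕ) * f < q ^ (2:ℕ) * (q + 1)) :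
    Row S := by
  intro p hp h5 hd
  have hm' : g * m = q ^ (6:ℕ) + q ^ (3:ℕ) + 1 := by exact_mod_cast hm
  have hm0 : 0 < m := Nat.pos_of_ne_zero (by rintro rfl; simp at hm')
  have hP : Prime (p : ℤ) := Nat.prime_iff_prime_int.1 hp
  have hd' : (p : ℤ) ^ (2:ℕ) ∣ P6 q := by
    rw [← hcard]
    exact dvd_mul_of_dvd_right (by exact_mod_cast hd) _
  have hg0 : 0 < g := by rcases hg with rfl | rfl <;> norm_num
  by_cases hpm : p ∣ m
  · have h99 : (p : ℤ) ∣ (q : ℤ) ^ (6:ℕ) + (q : ℤ) ^ (3:ℕ) + 1 := by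
      rw [← hm]; exact_mod_cast hpm.mul_left g
    have h98 := sq_of hP (by exact_mod_cast h5) hd' h99
    refine caseB hg hcard hN3 hN12 h1 h2 hcox hout hp h5 h99 ?_
    have h97 : p ^ (2:ℕ) ≤ q ^ (6:ℕ) + q ^ (3:ℕ) + 1 := Nat.le_of_dvd (by positivity) (by exact_mod_cast h98)
    have h96 : p ≤ q ^ (3:ℕ) := by
      by_contra hlt
      push Not at hlt
      have : (q ^ (3:ℕ) + 1) ^ (2:ℕ) ≤ p ^ (2:ℕ) := Nat.pow_le_pow_left hlt 2
      have hq3 : 0 < q ^ (3:ℕ) := by positivity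
      linarith only [h97, this, hq3]
    have hN3' : N3 = q ^ (2:ℕ) + q + 1 := by exact_mod_cast hN3
    have hN12' : N12 - 1 + q ^ (2:ℕ) = q ^ (4:ℕ) := by
      have : N12 + q ^ (2:ℕ) = q ^ (4:ℕ) + 1 := by
        have : ((N12 + q ^ 2 : ℕ) : ℤ) = ((q ^ (4:ℕ) + 1 : ℕ) : ℤ) := by push_cast; rw [hN12]; ring
        exact_mod_cast this
      have h3 : q ^ (2:ℕ) ≤ q ^ (4:ℕ) := Nat.pow_le_pow_right (by omega) (by norm_num)
      (clear * - this h3; omega)
    obtain ⟨a, rfl⟩ : ∃ a, q = a + 1 := ⟨q - 1, by (clear * - hq; omega)⟩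
    have ha : 0 < a := by omega
    have e1 : N12 - 1 = (a + 1) ^ (2:ℕ) * (a * (a + 1 + 1)) := by
      have : N12 - 1 + (a + 1) ^ (2:ℕ) = (a + 1) ^ (2:ℕ) * (a * (a + 1 + 1)) + (a + 1) ^ (2:ℕ) := by rw [hN12']; ring
      omega
    rw [e1, hN3']
    have h95 : p - 1 ≤ a * ((a + 1) ^ (2:ℕ) + (a + 1) + 1) := by
      have : (a + 1) ^ (3:ℕ) = a * ((a + 1) ^ (2:ℕ) + (a + 1) + 1) + 1 := by ring
      omega
    calc (p - 1) * (24 * g ^ (2:ℕ) * f) ≤ a * ((a + 1) ^ (2:ℕ) + (a + 1) + 1) * (24 * g ^ (2:ℕ) * f) := by gcongr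
      _ < a * ((a + 1) ^ (2:ℕ) + (a + 1) + 1) * ((a + 1) ^ (2:ℕ) * (a + 1 + 1)) := by gcongr
      _ = _ := by ring
  · refine caseA (q := q) (by omega) (Or.inl rfl) hg hm0 hcard hm h9 hout hp h5 hd hpm ?_
    have h3 : (q ^ (2:ℕ) + q) * (9 * (2 * g * f)) * g + g < m * g := by
      rw [mul_comm m g, hm']
      calc _ = (q ^ (2:ℕ) + q) * (18 * g ^ (2:ℕ) * f) + g := by ring
        _ < _ := hiA
    have h4 : ((q ^ (2:ℕ) + q) * (9 * (2 * g * f)) + 1) * g < m * g := by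
      calc _ = (q ^ (2:ℕ) + q) * (9 * (2 * g * f)) * g + g := by ring
        _ < _ := h3
    have h5 := lt_of_mul_lt_mul_right h4 (Nat.zero_le g)
    omega

/-- **the row of `E₆(q)`** -/
theorem e6_row {q ℓ f m N3 N12 t : ℕ} (hℓ : ℓ.Prime) (hf : 1 ≤ f) (hq : q = ℓ ^ f)
    (hcard : (Nat.gcd 3 (q - 1) : ℤ) * Nat.card S = P6 q)
    (hout : Nat.card (Cfsg.Out S) = 2 * Nat.gcd 3 (q - 1) * f)
    (hm : ((Nat.gcd 3 (q - 1) * m : ℕ) : ℤ) = (q : ℤ) ^ (6:ℕ) + (q : ℤ) ^ (3:ℕ) + 1) (h9 : Iso S m m)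
    (hN3 : (N3 : ℤ) = (q : ℤ) ^ (2:ℕ) + (q : ℤ) + 1) (hN12 : (N12 : ℤ) = (q : ℤ) ^ (4:ℕ) - (q : ℤ) ^ (2:ℕ) + 1)
    (h1 : N3 * N12 ∣ Nat.gcd 3 (q - 1) * t) (h2 : t ∣ N3 * N12) (hcox : Iso S t N12) : Row S := by
  have hq2 := two_le_of hℓ hf hq
  have hfq : 2 ^ f ≤ q := by rw [hq]; exact Nat.pow_le_pow_left hℓ.two_le f
  have hf1 := lt_two_pow' f
  rcases gcd3_cases (q - 1) with ⟨hg, hn⟩ | ⟨hg, hn⟩
  · rw [hg] at hcard hout hm h1
    by_cases hq3 : q = 2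
    · subst hq3
      have hf' : f = 1 := by omega
      subst hf'
      exact e6_two (by exact_mod_cast hcard) (by exact_mod_cast hm) h9 hout
    · refine e6_gen (by omega) (Or.inl rfl) hcard hout hm h9 hN3 hN12 h1 h2 hcox ?_ ?_
      · have hq3 : 3 ≤ q := by omega
        have h27 : 27 ≤ q ^ (3:ℕ) := by
          calc 27 = 3 ^ (3:ℕ) := by norm_num
            _ ≤ q ^ (3:ℕ) := Nat.pow_le_pow_left hq3 3
        have : f + 1 ≤ q := hf1.trans hfq
        nlinarith only [hfq, hf1, h27]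
      · by_cases hf2 : f = 1
        · subst hf2
          have : 3 ≤ q := by omega
          nlinarith only [this]
        · have h4 : 4 ≤ q := by
            refine le_trans ?_ hfq
            calc 4 = 2 ^ (2:ℕ) := by norm_num
              _ ≤ 2 ^ f := Nat.pow_le_pow_right (by norm_num) (by omega)
          have : f + 1 ≤ q := hf1.trans hfq
          nlinarith only [hfq, hf1, h4]
  · rw [hg] at hcard hout hm h1
    by_cases hq4 : q = 4
    · subst hq4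
      have hf' : f = 2 := by
        have h3 : f ≤ 2 := by
          by_contra hlt
          push Not at hlt
          have : 2 ^ (3:ℕ) ≤ 2 ^ f := Nat.pow_le_pow_right (by norm_num) hlt
          omega
        have h4 : f ≠ 1 := by
          rintro rfl
          rw [pow_one] at hq
          rw [← hq] at hℓ
          exact absurd hℓ (by norm_num)
        omega
      subst hf'
      exact e6_four (by exact_mod_cast hcard) (by exact_mod_cast hm) h9 hout
    · have h7 : 7 ≤ q := by (clear * - hq2 hn hq4; omega)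
      refine e6_gen (by omega) (Or.inr rfl) hcard hout hm h9 hN3 hN12 h1 h2 hcox ?_ ?_
      · have h343 : 343 ≤ q ^ (3:ℕ) := by
          calc 343 = 7 ^ (3:ℕ) := by norm_num
            _ ≤ q ^ (3:ℕ) := Nat.pow_le_pow_left h7 3
        have : f + 1 ≤ q := hf1.trans hfq
        nlinarith only [hfq, hf1, h343]
      · rcases Nat.lt_or_ge f 4 with hf4 | hf4
        · have h10 : f = 1 ∨ 10 ≤ q := by
            by_cases h : f = 1
            · exact Or.inl h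
            · right
              by_contra hlt
              push Not at hlt
              have h8 : q = 7 := by
                have : 3 ∣ q - 1 := hn
                interval_cases q <;> omega
              subst h8
              have : ℓ ^ (2:ℕ) ∣ 7 := by rw [hq]; exact pow_dvd_pow ℓ (by omega)
              have h9 : ℓ ≤ 2 := by
                by_contra h
                push Not at h
                have h11 := Nat.le_of_dvd (by norm_num) this
                nlinarith only [h, h11]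
              have : ℓ = 2 := by have := hℓ.two_le; omega
              subst this
              have h12 : 2 ∣ 7 := (dvd_pow_self 2 two_ne_zero).trans (by assumption)
              omega
          rcases h10 with rfl | h10
          · nlinarith only [h7]
          · have : 216 * f ≤ 648 := by omega
            nlinarith only [h7, hf4, h10]
        · have h1 := four_mul_le hf4
          have h2 : 16 ≤ q := by
            refine le_trans ?_ hfq
            calc 16 = 2 ^ (4:ℕ) := by norm_num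
              _ ≤ 2 ^ f := Nat.pow_le_pow_right (by norm_num) hf4
          nlinarith only [hfq, hf1, hf4, h1]

end Cfsg.Agent.H92.PRegE6
end

-- part: H92/PRegTE6
section
/-!
# `²E₆(q)`: the number theory, general case (helper92, for S4883)
-/

set_option autoImplicit false
set_option linter.unusedSectionVars false

namespace Cfsg.Agent.H92.PRegE6

open Cfsg.Agent.H93.PReg Cfsg.Agent.H92.PRegT Cfsg.Agent.H92.KTools Cfsg.Agent.H92.PRegNum

universe u

variable {S : Type u} [Group S] [Finite S]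

/-- the general case of `²E₆(q)` -/
theorem te6_gen {q g f m N3 N12 t : ℕ} (hq : 3 ≤ q) (hf : 1 ≤ f) (hg : g = 1 ∨ g = 3)
    (hcard : (g : ℤ) * Nat.card S = P6 (-(q : ℤ))) (hout : Nat.card (Cfsg.Out S) = 2 * g * f)
    (hm : ((g * m : ℕ) : ℤ) = (-(q : ℤ)) ^ (6:ℕ) + (-(q : ℤ)) ^ (3:ℕ) + 1) (h9 : Iso S m m)
    (hN3 : (N3 : ℤ) = (-(q : ℤ)) ^ (2:ℕ) + (-(q : ℤ)) + 1) (hN12 : (N12 : ℤ) = (-(q : ℤ)) ^ (4:ℕ) - (-(q : ℤ)) ^ (2:ℕ) + 1)
    (h1 : N3 * N12 ∣ g * t) (h2 : t ∣ N3 * N12) (hcox : Iso S t N12)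
    (hiA : (q ^ (2:ℕ) + q) * (18 * g ^ (2:ℕ) * f) + g + q ^ (3:ℕ) < q ^ (6:ℕ) + 1)
    (hiB : (24 * g ^ (2:ℕ) * f ≤ q ^ (2:ℕ) * (q - 1)) ∨ Squarefree (g * m)) :
    Row S := by
  intro p hp h5 hd
  have hm' : g * m + q ^ (3:ℕ) = q ^ (6:ℕ) + 1 := by
    have : ((g * m + q ^ 3 : ℕ) : ℤ) = ((q ^ (6:ℕ) + 1 : ℕ) : ℤ) := by
      rw [Nat.cast_add, hm]; push_cast; ring
    exact_mod_cast this
  have hq36 : q ^ (3:ℕ) ≤ q ^ (6:ℕ) := Nat.pow_le_pow_right (by omega) (by norm_num)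
  have hm0 : 0 < m := Nat.pos_of_ne_zero (by rintro rfl; omega)
  have hP : Prime (p : ℤ) := Nat.prime_iff_prime_int.1 hp
  have hd' : (p : ℤ) ^ (2:ℕ) ∣ P6 (-(q : ℤ)) := by
    rw [← hcard]
    exact dvd_mul_of_dvd_right (by exact_mod_cast hd) _
  have hg0 : 0 < g := by rcases hg with rfl | rfl <;> norm_num
  by_cases hpm : p ∣ m
  · have h99 : (p : ℤ) ∣ (-(q : ℤ)) ^ (6:ℕ) + (-(q : ℤ)) ^ (3:ℕ) + 1 := by
      rw [← hm]; exact_mod_cast hpm.mul_left g
    have h98 := sq_of hP (by exact_mod_cast h5) hd' h99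
    rw [← hm] at h98
    rcases hiB with hiB | hsf
    swap
    · exact absurd h98 (nsq hp hsf)
    refine caseB hg hcard hN3 hN12 h1 h2 hcox hout hp h5 h99 ?_
    have h97 : p ^ (2:ℕ) ≤ g * m := Nat.le_of_dvd (Nat.mul_pos hg0 hm0) (by exact_mod_cast h98)
    have h96 : p ≤ q ^ (3:ℕ) := by
      by_contra hlt
      push Not at hlt
      have : (q ^ (3:ℕ) + 1) ^ (2:ℕ) ≤ p ^ (2:ℕ) := Nat.pow_le_pow_left hlt 2
      have hq3 : 0 < q ^ (3:ℕ) := by positivity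
      linarith only [hm', h97, this, hq3]
    have hN3' : N3 + q = q ^ (2:ℕ) + 1 := by
      have : ((N3 + q : ℕ) : ℤ) = ((q ^ (2:ℕ) + 1 : ℕ) : ℤ) := by push_cast; rw [hN3]; ring
      exact_mod_cast this
    have hN12' : N12 - 1 + q ^ (2:ℕ) = q ^ (4:ℕ) := by
      have : N12 + q ^ (2:ℕ) = q ^ (4:ℕ) + 1 := by
        have : ((N12 + q ^ 2 : ℕ) : ℤ) = ((q ^ (4:ℕ) + 1 : ℕ) : ℤ) := by push_cast; rw [hN12]; ring
        exact_mod_cast this
      have h3 : q ^ (2:ℕ) ≤ q ^ (4:ℕ) := Nat.pow_le_pow_right (by omega) (by norm_num)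
      (clear * - this h3; omega)
    obtain ⟨a, rfl⟩ : ∃ a, q = a + 1 := ⟨q - 1, by (clear * - hq; omega)⟩
    have ha : 0 < a := by omega
    rw [Nat.add_sub_cancel] at hiB
    have e1 : N12 - 1 = (a + 1) ^ (2:ℕ) * (a * (a + 1 + 1)) := by
      have : N12 - 1 + (a + 1) ^ (2:ℕ) = (a + 1) ^ (2:ℕ) * (a * (a + 1 + 1)) + (a + 1) ^ (2:ℕ) := by rw [hN12']; ring
      omega
    have e3 : N3 = a ^ (2:ℕ) + a + 1 := by
      have : N3 + (a + 1) = a ^ (2:ℕ) + a + 1 + (a + 1) := by rw [hN3']; ring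
      (clear * - this; omega)
    rw [e1, e3]
    have h95 : p - 1 < (a + 1) ^ (3:ℕ) + 1 := by omega
    have e4 : (a + 1) ^ (3:ℕ) + 1 = (a + 2) * (a ^ (2:ℕ) + a + 1) := by ring
    rw [e4] at h95
    have hpos : 0 < 24 * g ^ (2:ℕ) * f := by positivity
    calc (p - 1) * (24 * g ^ (2:ℕ) * f) < (a + 2) * (a ^ (2:ℕ) + a + 1) * (24 * g ^ (2:ℕ) * f) := by gcongr
      _ ≤ (a + 2) * (a ^ (2:ℕ) + a + 1) * ((a + 1) ^ (2:ℕ) * a) := by gcongr
      _ = _ := by ring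
  · refine caseA (q := q) (by omega) (Or.inr rfl) hg hm0 hcard hm h9 hout hp h5 hd hpm ?_
    have h3 : (q ^ (2:ℕ) + q) * (9 * (2 * g * f)) * g + g < m * g := by
      have : (q ^ (2:ℕ) + q) * (9 * (2 * g * f)) * g + g = (q ^ (2:ℕ) + q) * (18 * g ^ (2:ℕ) * f) + g := by ring
      rw [mul_comm m g, this]
      omega
    have h4 : ((q ^ (2:ℕ) + q) * (9 * (2 * g * f)) + 1) * g < m * g := by
      calc _ = (q ^ (2:ℕ) + q) * (9 * (2 * g * f)) * g + g := by ring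
        _ < _ := h3
    have h5 := lt_of_mul_lt_mul_right h4 (Nat.zero_le g)
    omega

/-- **the row of `²E₆(q)`** -/
theorem te6_row {q ℓ f m N3 N12 t : ℕ} (hℓ : ℓ.Prime) (hf : 1 ≤ f) (hq : q = ℓ ^ f)
    (hcard : (Nat.gcd 3 (q + 1) : ℤ) * Nat.card S = P6 (-(q : ℤ)))
    (hout : Nat.card (Cfsg.Out S) = 2 * Nat.gcd 3 (q + 1) * f)
    (hm : ((Nat.gcd 3 (q + 1) * m : ℕ) : ℤ) = (-(q : ℤ)) ^ (6:ℕ) + (-(q : ℤ)) ^ (3:ℕ) + 1) (h9 : Iso S m m)
    (hN3 : (N3 : ℤ) = (-(q : ℤ)) ^ (2:ℕ) + (-(q : ℤ)) + 1) (hN12 : (N12 : ℤ) = (-(q : ℤ)) ^ (4:ℕ) - (-(q : ℤ)) ^ (2:ℕ) + 1)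
    (h1 : N3 * N12 ∣ Nat.gcd 3 (q + 1) * t) (h2 : t ∣ N3 * N12) (hcox : Iso S t N12) : Row S := by
  have hq2 := two_le_of hℓ hf hq
  have hfq : 2 ^ f ≤ q := by rw [hq]; exact Nat.pow_le_pow_left hℓ.two_le f
  have hf1 := lt_two_pow' f
  have hfq' : f + 1 ≤ q := hf1.trans hfq
  have h6 : q ^ (6:ℕ) = q ^ (3:ℕ) * q ^ (3:ℕ) := by ring
  rcases gcd3_cases (q + 1) with ⟨hg, hn⟩ | ⟨hg, hn⟩
  · rw [hg] at hcard hout hm h1
    have hq3 : 3 ≤ q := by
      by_contra h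
      have : q = 2 := by omega
      subst this
      exact hn (by norm_num)
    refine te6_gen hq3 hf (Or.inl rfl) hcard hout hm h9 hN3 hN12 h1 h2 hcox ?_ ?_
    · have h27 : 27 ≤ q ^ (3:ℕ) := by
        calc 27 = 3 ^ (3:ℕ) := by norm_num
          _ ≤ q ^ (3:ℕ) := Nat.pow_le_pow_left hq3 3
      have h28 : (q ^ (2:ℕ) + q) * (18 * 1 ^ (2:ℕ) * f) + 1 ≤ 18 * q ^ (3:ℕ) := by
        have : (q ^ (2:ℕ) + q) * (18 * 1 ^ (2:ℕ) * f) ≤ (q ^ (2:ℕ) + q) * (18 * 1 ^ (2:ℕ) * (q - 1)) := by gcongr; omega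
        obtain ⟨a, rfl⟩ : ∃ a, q = a + 1 := ⟨q - 1, by omega⟩
        rw [Nat.add_sub_cancel] at this
        linarith only [hq3, this]
      rw [h6]
      nlinarith only [h27, h28]
    · by_cases h3 : q = 3
      · subst h3
        right
        have : m = 703 := by
          have : ((1 * m : ℕ) : ℤ) = ((703 : ℕ) : ℤ) := by rw [hm]; norm_num
          have : 1 * m = 703 := by exact_mod_cast this
          omega
        subst this
        decide +kernel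
      · left
        obtain ⟨a, rfl⟩ : ∃ a, q = a + 1 := ⟨q - 1, by omega⟩
        rw [Nat.add_sub_cancel]
        rcases Nat.lt_or_ge f 3 with hf3 | hf3
        · have : 24 * 1 ^ (2:ℕ) * f ≤ 48 := by omega
          nlinarith only [hf3, show 3 ≤ a by omega]
        · have : 8 ≤ a + 1 := by
            refine le_trans ?_ hfq
            calc 8 = 2 ^ (3:ℕ) := by norm_num
              _ ≤ 2 ^ f := Nat.pow_le_pow_right (by norm_num) hf3
          nlinarith only [hf1, hq2, hfq, this]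
  · rw [hg] at hcard hout hm h1
    by_cases h2' : q = 2
    · subst h2'
      exact te6_two (by exact_mod_cast hcard)
    · have hq5 : 5 ≤ q := by
        by_contra h
        interval_cases q <;> omega
      refine te6_gen (by omega) hf (Or.inr rfl) hcard hout hm h9 hN3 hN12 h1 h2 hcox ?_ ?_
      · have h27 : 125 ≤ q ^ (3:ℕ) := by
          calc 125 = 5 ^ (3:ℕ) := by norm_num
            _ ≤ q ^ (3:ℕ) := Nat.pow_le_pow_left hq5 3
        rcases Nat.lt_or_ge f 3 with hf3 | hf3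
        · have h28 : (q ^ (2:ℕ) + q) * (18 * 3 ^ (2:ℕ) * f) ≤ 324 * (q ^ (2:ℕ) + q) := by
            calc (q ^ (2:ℕ) + q) * (18 * 3 ^ (2:ℕ) * f) ≤ (q ^ (2:ℕ) + q) * (18 * 3 ^ (2:ℕ) * 2) := by gcongr; omega
              _ = _ := by ring
          have h29 : 5 * q ^ (2:ℕ) ≤ q ^ (3:ℕ) := by
            calc 5 * q ^ (2:ℕ) ≤ q * q ^ (2:ℕ) := by gcongr
              _ = q ^ (3:ℕ) := by ring
          have h30 : 5 * q ≤ q ^ (2:ℕ) := by
            calc 5 * q ≤ q * q := by gcongr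
              _ = q ^ (2:ℕ) := by ring
          have h31 : 125 * q ^ (3:ℕ) ≤ q ^ (3:ℕ) * q ^ (3:ℕ) := by gcongr
          rw [h6]
          (clear * - hn h28 h29 h30 h31; omega)
        · have h8 : 8 ≤ q := by
            refine le_trans ?_ hfq
            calc 8 = 2 ^ (3:ℕ) := by norm_num
              _ ≤ 2 ^ f := Nat.pow_le_pow_right (by norm_num) hf3
          have h512 : 512 ≤ q ^ (3:ℕ) := by
            calc 512 = 8 ^ (3:ℕ) := by norm_num
              _ ≤ q ^ (3:ℕ) := Nat.pow_le_pow_left h8 3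
          have h28 : (q ^ (2:ℕ) + q) * (18 * 3 ^ (2:ℕ) * f) + 3 ≤ 162 * q ^ (3:ℕ) := by
            have : (q ^ (2:ℕ) + q) * (18 * 3 ^ (2:ℕ) * f) ≤ (q ^ (2:ℕ) + q) * (18 * 3 ^ (2:ℕ) * (q - 1)) := by gcongr; (clear * - hfq'; omega)
            have h32 : (q ^ (2:ℕ) + q) * (18 * 3 ^ (2:ℕ) * (q - 1)) + 162 * q = 162 * q ^ (3:ℕ) := by
              obtain ⟨a, rfl⟩ : ∃ a, q = a + 1 := ⟨q - 1, by (clear * - h8; omega)⟩
              rw [Nat.add_sub_cancel]
              ring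
            (clear * - h8 this h32; omega)
          have h31 : 512 * q ^ (3:ℕ) ≤ q ^ (3:ℕ) * q ^ (3:ℕ) := by gcongr
          rw [h6]
          omega
      · by_cases h5 : q = 5
        · subst h5
          right
          have : 3 * m = 15501 := by
            have : ((3 * m : ℕ) : ℤ) = ((15501 : ℕ) : ℤ) := by rw [hm]; norm_num
            exact_mod_cast this
          rw [this]
          decide +kernel
        · by_cases h8 : q = 8
          · subst h8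
            right
            have : 3 * m = 261633 := by
              have : ((3 * m : ℕ) : ℤ) = ((261633 : ℕ) : ℤ) := by rw [hm]; norm_num
              exact_mod_cast this
            rw [this]
            decide +kernel
          · left
            have h11 : 11 ≤ q := by
              by_contra h
              push Not at h
              interval_cases q <;> omega
            obtain ⟨a, rfl⟩ : ∃ a, q = a + 1 := ⟨q - 1, by (clear * - h11; omega)⟩
            rw [Nat.add_sub_cancel]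
            rcases Nat.lt_or_ge f 4 with hf4 | hf4
            · have : 11 ^ (2:ℕ) * 10 ≤ (a + 1) ^ (2:ℕ) * a := Nat.mul_le_mul (Nat.pow_le_pow_left h11 2) (by omega)
              omega
            · have h1 := four_mul_le hf4
              have h110 : 11 * 10 ≤ (a + 1) * a := Nat.mul_le_mul h11 (by omega)
              calc 24 * 3 ^ (2:ℕ) * f ≤ (a + 1) * 110 := by
                    have := h1.trans hfq
                    (clear * - this; omega)
                _ ≤ (a + 1) * ((a + 1) * a) := by gcongr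
                _ = (a + 1) ^ (2:ℕ) * a := by ring

end Cfsg.Agent.H92.PRegE6
end

-- part: H92/PRegE7
section
/-!
# `E₇(q)`: the number theory (helper92, for S4883)
-/

set_option autoImplicit false
set_option linter.unusedSectionVars false
set_option maxHeartbeats 4000000
set_option maxRecDepth 100000

namespace Cfsg.Agent.H92.PRegE7

open Cfsg.Agent.H93.PReg Cfsg.Agent.H92.PRegT Cfsg.Agent.H92.KTools Cfsg.Agent.H92.PRegNum

universe u

/-- the order polynomial -/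
def P7 (x : ℤ) : ℤ := x ^ (63:ℕ) * (x ^ (18:ℕ) - 1) * (x ^ (14:ℕ) - 1) * (x ^ (12:ℕ) - 1) * (x ^ (10:ℕ) - 1) * (x ^ (8:ℕ) - 1) * (x ^ (6:ℕ) - 1) *
  (x ^ (2:ℕ) - 1)

theorem bound {x P : ℤ} (hx : 2 ≤ x) (hP : Prime P) (h : P ^ (2:ℕ) ∣ P7 x) : P ≤ x ^ (3:ℕ) + x ^ (2:ℕ) := by
  by_contra hlt
  push Not at hlt
  obtain ⟨a, rfl⟩ : ∃ a, x = a + 2 := ⟨x - 2, by ring⟩
  have ha : 0 ≤ a := by omega
  set B : ℤ := (a + 2) ^ (3:ℕ) + (a + 2) ^ (2:ℕ) + 1 with hB
  have hPx : B ≤ P := by rw [hB]; linarith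
  have hP2 : B ^ (2:ℕ) ≤ P ^ (2:ℕ) := pow_le_pow_left₀ (by rw [hB]; positivity) hPx 2
  have nd : ∀ c : ℤ, 0 < c → 0 < B - c → ¬ P ∣ c := fun c h1 h2 => nd_lt h1 (lt_of_lt_of_le (by linarith) hPx)
  have nq : ∀ c : ℤ, 0 < c → 0 < B ^ (2:ℕ) - c → ¬ P ^ (2:ℕ) ∣ c := fun c h1 h2 =>
    nd_lt h1 (lt_of_lt_of_le (by linarith) hP2)
  have n0 : ¬ P ∣ a + 2 := nd _ (by positivity) (by rw [hB]; ring_nf; (clear * - ha; positivity))
  have n1 : ¬ P ∣ (a + 2) - 1 := nd _ (by ring_nf; positivity) (by rw [hB]; ring_nf; (clear * - ha; positivity))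
  have n2 : ¬ P ∣ (a + 2) + 1 := nd _ (by ring_nf; positivity) (by rw [hB]; ring_nf; (clear * - ha; positivity))
  have n3 : ¬ P ∣ (a + 2) ^ (2:ℕ) + (a + 2) + 1 := nd _ (by ring_nf; (clear * - ha; positivity)) (by rw [hB]; ring_nf; (clear * - ha; positivity))
  have n6 : ¬ P ∣ (a + 2) ^ (2:ℕ) - (a + 2) + 1 := nd _ (by ring_nf; (clear * - ha; positivity)) (by rw [hB]; ring_nf; (clear * - ha; positivity))
  have n4 : ¬ P ∣ (a + 2) ^ (2:ℕ) + 1 := nd _ (by ring_nf; (clear * - ha; positivity)) (by rw [hB]; ring_nf; (clear * - ha; positivity))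
  have nn2 : ¬ P ∣ 2 := nd _ (by norm_num) (by rw [hB]; ring_nf; (clear * - ha; positivity))
  have s5 : ¬ P ^ (2:ℕ) ∣ 1 + (a + 2) + (a + 2) ^ (2:ℕ) + (a + 2) ^ (3:ℕ) + (a + 2) ^ (4:ℕ) :=
    nq _ (by ring_nf; (clear * - ha; positivity)) (by rw [hB]; ring_nf; (clear * - ha; positivity))
  have s10 : ¬ P ^ (2:ℕ) ∣ 1 - (a + 2) + (a + 2) ^ (2:ℕ) - (a + 2) ^ (3:ℕ) + (a + 2) ^ (4:ℕ) :=
    nq _ (by ring_nf; (clear * - ha; positivity)) (by rw [hB]; ring_nf; (clear * - ha; positivity))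
  have s8 : ¬ P ^ (2:ℕ) ∣ 1 + (a + 2) ^ (4:ℕ) :=
    nq _ (by ring_nf; (clear * - ha; positivity)) (by rw [hB]; ring_nf; (clear * - ha; positivity))
  have s12 : ¬ P ^ (2:ℕ) ∣ 1 - (a + 2) ^ (2:ℕ) + (a + 2) ^ (4:ℕ) :=
    nq _ (by ring_nf; (clear * - ha; positivity)) (by rw [hB]; ring_nf; (clear * - ha; positivity))
  have s7 : ¬ P ^ (2:ℕ) ∣ 1 + (a + 2) + (a + 2) ^ (2:ℕ) + (a + 2) ^ (3:ℕ) + (a + 2) ^ (4:ℕ) + (a + 2) ^ (5:ℕ) + (a + 2) ^ (6:ℕ) :=
    nq _ (by ring_nf; (clear * - ha; positivity)) (by rw [hB]; ring_nf; (clear * - ha; positivity))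
  have s14 : ¬ P ^ (2:ℕ) ∣ 1 - (a + 2) + (a + 2) ^ (2:ℕ) - (a + 2) ^ (3:ℕ) + (a + 2) ^ (4:ℕ) - (a + 2) ^ (5:ℕ) + (a + 2) ^ (6:ℕ) :=
    nq _ (by ring_nf; (clear * - ha; positivity)) (by rw [hB]; ring_nf; (clear * - ha; positivity))
  have s9 : ¬ P ^ (2:ℕ) ∣ 1 + (a + 2) ^ (3:ℕ) + (a + 2) ^ (6:ℕ) :=
    nq _ (by ring_nf; (clear * - ha; positivity)) (by rw [hB]; ring_nf; (clear * - ha; positivity))
  have s18 : ¬ P ^ (2:ℕ) ∣ 1 - (a + 2) ^ (3:ℕ) + (a + 2) ^ (6:ℕ) :=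
    nq _ (by ring_nf; (clear * - ha; positivity)) (by rw [hB]; ring_nf; (clear * - ha; positivity))
  clear_value B
  generalize a + 2 = x at *
  have N2 : ¬ P ∣ x ^ (2:ℕ) - 1 := by
    rw [show x ^ (2:ℕ) - 1 = (x - 1) * (x + 1) by ring]; exact nd_mul hP n1 n2
  have N4 : ¬ P ∣ x ^ (4:ℕ) - 1 := by
    rw [show x ^ (4:ℕ) - 1 = (x ^ (2:ℕ) - 1) * (x ^ (2:ℕ) + 1) by ring]; exact nd_mul hP N2 n4
  have N6 : ¬ P ∣ x ^ (6:ℕ) - 1 := by
    rw [show x ^ (6:ℕ) - 1 = (x ^ (2:ℕ) - 1) * ((x ^ (2:ℕ) + x + 1) * (x ^ (2:ℕ) - x + 1)) by ring]; exact nd_mul hP N2 (nd_mul hP n3 n6)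
  have sq : ∀ {a : ℤ}, ¬ P ∣ a → ¬ P ^ (2:ℕ) ∣ a := fun ha h => ha ((dvd_pow_self P two_ne_zero).trans h)
  have two : ∀ {m : ℕ} {b c : ℤ}, b ∣ x ^ m - 1 → c ∣ x ^ m + 1 → P ∣ b → P ∣ c → False := fun hb hc h1 h2 => by
    have h3 := dvd_sub (h2.trans hc) (h1.trans hb)
    rw [show ∀ y : ℤ, y + 1 - (y - 1) = 2 from fun y => by ring] at h3
    exact nn2 h3
  have S8 : ¬ P ^ (2:ℕ) ∣ x ^ (8:ℕ) - 1 := by
    rw [show x ^ (8:ℕ) - 1 = (x ^ (4:ℕ) - 1) * (1 + x ^ (4:ℕ)) by ring]; exact not_sq hP N4 s8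
  have S10 : ¬ P ^ (2:ℕ) ∣ x ^ (10:ℕ) - 1 := by
    rw [show x ^ (10:ℕ) - 1 = (x ^ (2:ℕ) - 1) * ((1 + x + x ^ (2:ℕ) + x ^ (3:ℕ) + x ^ (4:ℕ)) * (1 - x + x ^ (2:ℕ) - x ^ (3:ℕ) + x ^ (4:ℕ))) by ring]
    exact not_sq hP N2 (not_sq2 hP (two (m := 5) ⟨x - 1, by ring⟩ ⟨x + 1, by ring⟩) s5 s10)
  have S12 : ¬ P ^ (2:ℕ) ∣ x ^ (12:ℕ) - 1 := by
    rw [show x ^ (12:ℕ) - 1 = ((x ^ (6:ℕ) - 1) * (x ^ (2:ℕ) + 1)) * (1 - x ^ (2:ℕ) + x ^ (4:ℕ)) by ring]
    exact not_sq hP (nd_mul hP N6 n4) s12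
  have S14 : ¬ P ^ (2:ℕ) ∣ x ^ (14:ℕ) - 1 := by
    rw [show x ^ (14:ℕ) - 1 = (x ^ (2:ℕ) - 1) * ((1 + x + x ^ (2:ℕ) + x ^ (3:ℕ) + x ^ (4:ℕ) + x ^ (5:ℕ) + x ^ (6:ℕ)) * (1 - x + x ^ (2:ℕ) - x ^ (3:ℕ) + x ^ (4:ℕ) - x ^ (5:ℕ) + x ^ (6:ℕ))) by ring]
    exact not_sq hP N2 (not_sq2 hP (two (m := 7) ⟨x - 1, by ring⟩ ⟨x + 1, by ring⟩) s7 s14)
  have S18 : ¬ P ^ (2:ℕ) ∣ x ^ (18:ℕ) - 1 := by
    rw [show x ^ (18:ℕ) - 1 = (x ^ (6:ℕ) - 1) * ((1 + x ^ (3:ℕ) + x ^ (6:ℕ)) * (1 - x ^ (3:ℕ) + x ^ (6:ℕ))) by ring]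
    exact not_sq hP N6 (not_sq2 hP (two (m := 9) ⟨x ^ (3:ℕ) - 1, by ring⟩ ⟨x ^ (3:ℕ) + 1, by ring⟩) s9 s18)
  have e : P7 x = x ^ (63:ℕ) * (([18, 14, 12, 10, 8, 6, 2] : List ℕ).map fun d => x ^ d - 1).prod := by
    simp only [P7, List.map_cons, List.map_nil, List.prod_cons, List.prod_nil]; ring
  rw [e] at h
  refine not_sq hP (nd_pow hP n0 _) (not_sq_list hP _ ?_ ?_) h
  · simp only [List.mem_cons, forall_eq_or_imp, List.not_mem_nil, false_imp_iff, implies_true, and_true]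
    exact ⟨S18, S14, S12, S10, S8, sq N6, sq N2⟩
  · simp only [List.pairwise_cons, List.mem_cons, forall_eq_or_imp, List.not_mem_nil, false_imp_iff, implies_true,
      and_true, List.Pairwise.nil]
    norm_num only [and_self_left, and_self]
    (clear * - N2 N4 N6; tauto)

theorem w7 (x : ℤ) : ∃ M : ℤ, P7 x = ((x - 1) * (1 + x + x ^ (2:ℕ) + x ^ (3:ℕ) + x ^ (4:ℕ) + x ^ (5:ℕ) + x ^ (6:ℕ))) * M ∧ (1 + x + x ^ (2:ℕ) + x ^ (3:ℕ) + x ^ (4:ℕ) + x ^ (5:ℕ) + x ^ (6:ℕ)) ∣ M - 14 :=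
  ⟨x ^ (63:ℕ) * (x ^ (18:ℕ) - 1) * ((x ^ (7:ℕ) + 1)) * (x ^ (12:ℕ) - 1) * (x ^ (10:ℕ) - 1) * (x ^ (8:ℕ) - 1) * (x ^ (6:ℕ) - 1) * (x ^ (2:ℕ) - 1), by unfold P7; (set_option synthInstance.maxSize 99999 in exact Cfsg.Agent.Lib.RingK.eq (by decide +kernel)), ⟨-14 + 14 * x - 14 * x ^ (7:ℕ) + 14 * x ^ (8:ℕ) - 14 * x ^ (14:ℕ) + 14 * x ^ (15:ℕ) - 14 * x ^ (21:ℕ) + 14 * x ^ (22:ℕ) - 14 * x ^ (28:ℕ) + 14 * x ^ (29:ℕ) - 14 * x ^ (35:ℕ) + 14 * x ^ (36:ℕ) - 14 * x ^ (42:ℕ) + 14 * x ^ (43:ℕ) - 14 * x ^ (49:ℕ) + 14 * x ^ (50:ℕ) - 14 * x ^ (56:ℕ) + 14 * x ^ (57:ℕ) - 13 * x ^ (63:ℕ) + 13 * x ^ (64:ℕ) - x ^ (65:ℕ) + x ^ (66:ℕ) - x ^ (69:ℕ) - 11 * x ^ (70:ℕ) + 12 * x ^ (71:ℕ) - 2 * x ^ (72:ℕ) + 2 * x ^ (73:ℕ) - 2 * x ^ (76:ℕ) - 8 * x ^ (77:ℕ) + 10 * x ^ (78:ℕ) - 2 * x ^ (79:ℕ) + 2 * x ^ (80:ℕ) - 2 * x ^ (83:ℕ) - 6 * x ^ (84:ℕ) + 8 * x ^ (85:ℕ) - 2 * x ^ (86:ℕ) + x ^ (87:ℕ) + x ^ (88:ℕ) - 2 * x ^ (90:ℕ) - 6 * x ^ (91:ℕ) +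 8 * x ^ (92:ℕ) - 2 * x ^ (93:ℕ) + x ^ (95:ℕ) + x ^ (96:ℕ) - 2 * x ^ (97:ℕ) - 6 * x ^ (98:ℕ) + 8 * x ^ (99:ℕ) - 2 * x ^ (100:ℕ) + 2 * x ^ (103:ℕ) - 2 * x ^ (104:ℕ) - 4 * x ^ (105:ℕ) + 6 * x ^ (106:ℕ) - 2 * x ^ (107:ℕ) + 2 * x ^ (110:ℕ) - 2 * x ^ (111:ℕ) - 2 * x ^ (112:ℕ) + 3 * x ^ (113:ℕ) - x ^ (114:ℕ) + x ^ (117:ℕ) - x ^ (118:ℕ) - x ^ (119:ℕ) + x ^ (120:ℕ), by (set_option synthInstance.maxSize 99999 in exact Cfsg.Agent.Lib.RingK.eq (by decide +kernel))⟩⟩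

theorem w9 (x : ℤ) : ∃ M : ℤ, P7 x = ((x - 1) * (1 + x ^ (3:ℕ) + x ^ (6:ℕ))) * M ∧ (1 + x ^ (3:ℕ) + x ^ (6:ℕ)) ∣ M - 18 :=
  ⟨x ^ (63:ℕ) * ((x ^ (9:ℕ) + 1) * (x ^ (2:ℕ) + x + 1)) * (x ^ (14:ℕ) - 1) * (x ^ (12:ℕ) - 1) * (x ^ (10:ℕ) - 1) * (x ^ (8:ℕ) - 1) * (x ^ (6:ℕ) - 1) * (x ^ (2:ℕ) - 1), by unfold P7; (set_option synthInstance.maxSize 99999 in exact Cfsg.Agent.Lib.RingK.eq (by decide +kernel)), ⟨-18 + 18 * x ^ (3:ℕ) - 18 * x ^ (9:ℕ) + 18 * x ^ (12:ℕ) - 18 * x ^ (18:ℕ) + 18 * x ^ (21:ℕ) - 18 * x ^ (27:ℕ) + 18 * x ^ (30:ℕ) - 18 * x ^ (36:ℕ) + 18 * x ^ (39:ℕ) - 18 * x ^ (45:ℕ) + 18 * x ^ (48:ℕ) - 18 * x ^ (54:ℕ) + 18 * x ^ (57:ℕ) - 17 * x ^ (63:ℕ) + x ^ (64:ℕ) + 16 * x ^ (66:ℕ) - 2 * x ^ (67:ℕ) - x ^ (71:ℕ) - 15 * x ^ (72:ℕ) + 3 * x ^ (73:ℕ) + x ^ (74:ℕ) + 14 * x ^ (75:ℕ) - 4 * x ^ (76:ℕ) + x ^ (77:ℕ) + x ^ (78:ℕ) + 2 * x ^ (79:ℕ) - 2 * x ^ (80:ℕ) - 13 * x ^ (81:ℕ) + 3 * x ^ (82:ℕ) + 2 * x ^ (83:ℕ) + 12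 * x ^ (84:ℕ) - 5 * x ^ (85:ℕ) + x ^ (86:ℕ) + 2 * x ^ (88:ℕ) - 4 * x ^ (89:ℕ) - 10 * x ^ (90:ℕ) + 2 * x ^ (91:ℕ) + 2 * x ^ (92:ℕ) + 8 * x ^ (93:ℕ) - 4 * x ^ (94:ℕ) + 2 * x ^ (95:ℕ) + x ^ (97:ℕ) - 5 * x ^ (98:ℕ) - 6 * x ^ (99:ℕ) + 2 * x ^ (100:ℕ) + 3 * x ^ (101:ℕ) + 5 * x ^ (102:ℕ) - 2 * x ^ (103:ℕ) + 2 * x ^ (104:ℕ) + x ^ (105:ℕ) + x ^ (106:ℕ) - 4 * x ^ (107:ℕ) - 4 * x ^ (108:ℕ) + x ^ (109:ℕ) + 3 * x ^ (110:ℕ) + 3 * x ^ (111:ℕ) - x ^ (112:ℕ) - 2 * x ^ (116:ℕ) - 2 * x ^ (117:ℕ) + x ^ (119:ℕ) + x ^ (120:ℕ), by ring⟩⟩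

theorem coprime_7_9 {x P : ℤ} (hP : Prime P) (h1 : P ∣ 1 + x + x ^ (2:ℕ) + x ^ (3:ℕ) + x ^ (4:ℕ) + x ^ (5:ℕ) + x ^ (6:ℕ)) (h2 : P ∣ 1 + x ^ (3:ℕ) + x ^ (6:ℕ)) : False := by
  have h9 := dvd_add (h1.mul_right (1 - x + x ^ (3:ℕ) - x ^ (4:ℕ) + x ^ (5:ℕ))) (h2.mul_right (-x ^ (3:ℕ) - x ^ (5:ℕ)))
  rw [show (1 + x + x ^ (2:ℕ) + x ^ (3:ℕ) + x ^ (4:ℕ) + x ^ (5:ℕ) + x ^ (6:ℕ)) * (1 - x + x ^ (3:ℕ) - x ^ (4:ℕ) + x ^ (5:ℕ)) + (1 + x ^ (3:ℕ) + x ^ (6:ℕ)) * (-x ^ (3:ℕ) - x ^ (5:ℕ)) = 1 by ring] at h9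
  exact hP.not_dvd_one h9

end Cfsg.Agent.H92.PRegE7
end

-- part: H92/PRegE7R
section
/-!
# `E₇(q)`: the row (helper92, for S4883)
-/

set_option autoImplicit false
set_option linter.unusedSectionVars false

namespace Cfsg.Agent.H92.PRegE7

open Cfsg.Agent.H93.PReg Cfsg.Agent.H92.PRegT Cfsg.Agent.H92.KTools Cfsg.Agent.H92.PRegNum

universe u

variable {S : Type u} [Group S] [Finite S]

theorem zmod_of {n N : ℕ} {z : ℤ} (hN : (N : ℤ) = z) (h : n ∣ N) : ((z : ℤ) : ZMod n) = 0 := by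
  rw [← hN]
  have := (ZMod.natCast_eq_zero_iff N n).2 h
  exact_mod_cast this

/-- the hypotheses on the tori -/
structure Tori (S : Type u) [Group S] (q g N7 N9 t7 t9 : ℕ) : Prop where
  hN7 : (N7 : ℤ) = 1 + (q : ℤ) + (q : ℤ) ^ (2:ℕ) + (q : ℤ) ^ (3:ℕ) + (q : ℤ) ^ (4:ℕ) + (q : ℤ) ^ (5:ℕ) + (q : ℤ) ^ (6:ℕ)
  hN9 : (N9 : ℤ) = 1 + (q : ℤ) ^ (3:ℕ) + (q : ℤ) ^ (6:ℕ)
  h71 : (q - 1) * N7 ∣ g * t7
  h72 : t7 ∣ (q - 1) * N7
  h73 : ∀ n, n ∣ N7 → ¬ 7 ∣ n → Iso S t7 n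
  h91 : (q - 1) * N9 ∣ g * t9
  h92 : t9 ∣ (q - 1) * N9
  h93 : ∀ n, n ∣ N9 → ¬ 3 ∣ n → Iso S t9 n

variable {q g f N7 N9 t7 t9 : ℕ}

theorem Tori.a7 (hT : Tori S q g N7 N9 t7 t9) (hq : 2 ≤ q) (hg : g = 1 ∨ g = 2)
    (hcard : (g : ℤ) * Nat.card S = P7 q) (hout : Nat.card (Cfsg.Out S) = g * f) {n7 n : ℕ} (hn : n7 ∣ N7)
    (h7 : ¬ 7 ∣ n7) (hi : (n - 1) * (14 * (g * f)) < n7 - 1) : MO {k | k ∣ n7 ∧ k ≠ 1} n S := by
  obtain ⟨M, h1, h2⟩ := w7 q
  have hodd : Nat.Coprime 2 N7 := by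
    rw [Nat.Prime.coprime_iff_not_dvd Nat.prime_two]
    intro h
    have h4 := zmod_of hT.hN7 h
    push_cast at h4
    generalize (q : ZMod 2) = y at h4; revert h4; revert y; decide
  have hN0 : 0 < N7 := Nat.pos_of_ne_zero (by rintro rfl; simp at hodd)
  obtain ⟨w', hw, hmod⟩ := mod_gen (g := g) (Nf := (q - 1) * N7) (t := t7) (N := N7) (w := 14) (M := M)
    (by rcases hg with rfl | rfl; exacts [Or.inl rfl, Or.inr Nat.prime_two])
    (by
      rw [hcard, h1]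
      push_cast [Nat.cast_sub (show 1 ≤ q by omega)]
      rw [hT.hN7])
    (Nat.mul_pos (by omega) hN0) (by rw [hT.hN7]; exact_mod_cast h2) (by rcases hg with rfl | rfl <;> norm_num)
    (by rcases hg with rfl | rfl; exacts [Nat.coprime_one_left _, hodd]) hT.h71 hT.h72 (hT.h73 n7 hn h7)
  refine (hT.h73 n7 hn h7).mo' (hmod.of_dvd hn) hout.le dvd_rfl (lt_of_le_of_lt ?_ hi)
  gcongr

theorem Tori.a9 (hT : Tori S q g N7 N9 t7 t9) (hq : 2 ≤ q) (hg : g = 1 ∨ g = 2)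
    (hcard : (g : ℤ) * Nat.card S = P7 q) (hout : Nat.card (Cfsg.Out S) = g * f) {n9 n : ℕ} (hn : n9 ∣ N9)
    (h3 : ¬ 3 ∣ n9) (hi : (n - 1) * (18 * (g * f)) < n9 - 1) : MO {k | k ∣ n9 ∧ k ≠ 1} n S := by
  obtain ⟨M, h1, h2⟩ := w9 q
  have hodd : Nat.Coprime 2 N9 := by
    rw [Nat.Prime.coprime_iff_not_dvd Nat.prime_two]
    intro h
    have h4 := zmod_of hT.hN9 h
    push_cast at h4
    generalize (q : ZMod 2) = y at h4; revert h4; revert y; decide
  have hN0 : 0 < N9 := Nat.pos_of_ne_zero (by rintro rfl; simp at hodd)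
  obtain ⟨w', hw, hmod⟩ := mod_gen (g := g) (Nf := (q - 1) * N9) (t := t9) (N := N9) (w := 18) (M := M)
    (by rcases hg with rfl | rfl; exacts [Or.inl rfl, Or.inr Nat.prime_two])
    (by
      rw [hcard, h1]
      push_cast [Nat.cast_sub (show 1 ≤ q by omega)]
      rw [hT.hN9])
    (Nat.mul_pos (by omega) hN0) (by rw [hT.hN9]; exact_mod_cast h2) (by rcases hg with rfl | rfl <;> norm_num)
    (by rcases hg with rfl | rfl; exacts [Nat.coprime_one_left _, hodd]) hT.h91 hT.h92 (hT.h93 n9 hn h3)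
  refine (hT.h93 n9 hn h3).mo' (hmod.of_dvd hn) hout.le dvd_rfl (lt_of_le_of_lt ?_ hi)
  gcongr

theorem card_eq {g c : ℕ} {x : ℤ} (hg : 0 < g) (hcard : (g : ℤ) * Nat.card S = P7 x) (h : (g : ℤ) * c = P7 x) :
    Nat.card S = c := by
  have hg' : (g : ℤ) ≠ 0 := by exact_mod_cast hg.ne'
  have := mul_left_cancel₀ hg' (hcard.trans h.symm)
  exact_mod_cast this

theorem bnd {p : ℕ} (hq : 2 ≤ q) (hcard : (g : ℤ) * Nat.card S = P7 q) (hp : p.Prime) (hd : p ^ (2:ℕ) ∣ Nat.card S) :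
    p ≤ q ^ (3:ℕ) + q ^ (2:ℕ) := by
  have hP : Prime (p : ℤ) := Nat.prime_iff_prime_int.1 hp
  have hd' : (p : ℤ) ^ (2:ℕ) ∣ P7 q := by rw [← hcard]; exact dvd_mul_of_dvd_right (by exact_mod_cast hd) _
  have := bound (by exact_mod_cast hq) hP hd'
  exact_mod_cast this

/-- `E₇(2)` -/
theorem two (hT : Tori S 2 1 N7 N9 t7 t9) (hcard : ((1 : ℕ) : ℤ) * Nat.card S = P7 (2 : ℕ))
    (hout : Nat.card (Cfsg.Out S) = 1 * 1) : Row S := by
  have hN7 : N7 = 127 := by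
    have : (N7 : ℤ) = 127 := by rw [hT.hN7]; norm_num
    exact_mod_cast this
  subst hN7
  have hc : Nat.card S = 7997476042075799759100487262680802918400 := card_eq one_pos hcard (by norm_num [P7])
  intro p hp h5 hd
  have hb := bnd le_rfl hcard hp hd
  norm_num at hb
  have hb' : p ≤ 7 := by
    rw [hc] at hd
    interval_cases p
    · norm_num
    · norm_num
    · norm_num
    · exact absurd hp (by norm_num)
    · exact absurd hp (by norm_num)
    · exact absurd hp (by norm_num)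
    · exact absurd hd (by norm_num)
    · exact absurd hp (by norm_num)
  refine reg_of_torus (m := 127) (fun h => ?_) (hT.a7 (f := 1) le_rfl (Or.inl rfl) hcard hout dvd_rfl
    (by norm_num) (by omega))
  have := (Nat.prime_dvd_prime_iff_eq hp (by norm_num)).1 h
  omega

/-- `E₇(3)` -/
theorem three (hT : Tori S 3 2 N7 N9 t7 t9) (hcard : ((2 : ℕ) : ℤ) * Nat.card S = P7 (3 : ℕ))
    (hout : Nat.card (Cfsg.Out S) = 2 * 1) : Row S := by
  have hN7 : N7 = 1093 := by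
    have : (N7 : ℤ) = 1093 := by rw [hT.hN7]; norm_num
    exact_mod_cast this
  subst hN7
  intro p hp h5 hd
  have hb := bnd (by norm_num) hcard hp hd
  norm_num at hb
  refine reg_of_torus (m := 1093) (fun h => ?_) (hT.a7 (f := 1) (by norm_num) (Or.inr rfl) hcard hout dvd_rfl
    (by norm_num) (by omega))
  have := (Nat.prime_dvd_prime_iff_eq hp (by norm_num)).1 h
  omega

/-- `E₇(4)` -/
theorem four (hT : Tori S 4 1 N7 N9 t7 t9) (hcard : ((1 : ℕ) : ℤ) * Nat.card S = P7 (4 : ℕ))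
    (hout : Nat.card (Cfsg.Out S) = 1 * 2) : Row S := by
  have hN7 : N7 = 5461 := by
    have : (N7 : ℤ) = 5461 := by rw [hT.hN7]; norm_num
    exact_mod_cast this
  subst hN7
  have hc : Nat.card S = 111131458114940385379597233477884941280664199527155056307251745263504588800000000 := card_eq one_pos hcard (by norm_num [P7])
  intro p hp h5 hd
  have hb := bnd (by norm_num) hcard hp hd
  norm_num at hb
  refine reg_of_torus (m := 5461) (fun h => ?_) (hT.a7 (f := 2) (by norm_num) (Or.inl rfl) hcard hout dvd_rfl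
    (by norm_num) (by omega))
  rw [show 5461 = 43 * 127 by norm_num] at h
  rcases (Nat.Prime.dvd_mul hp).1 h with h | h
  · have := (Nat.prime_dvd_prime_iff_eq hp (by norm_num)).1 h
    subst this
    rw [hc] at hd
    exact absurd hd (by norm_num)
  · have := (Nat.prime_dvd_prime_iff_eq hp (by norm_num)).1 h
    omega

/-- the general case -/
theorem gen (hT : Tori S q g N7 N9 t7 t9) (hq : 2 ≤ q) (hg : g = 1 ∨ g = 2)
    (hcard : (g : ℤ) * Nat.card S = P7 q) (hout : Nat.card (Cfsg.Out S) = g * f)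
    {n7 n9 : ℕ} (h7 : n7 ∣ N7) (h7' : ¬ 7 ∣ n7) (h9 : n9 ∣ N9) (h9' : ¬ 3 ∣ n9)
    (hiA : (q ^ (3:ℕ) + q ^ (2:ℕ)) * (14 * (g * f)) < n7 - 1) (hiB : (q ^ (3:ℕ) + q ^ (2:ℕ)) * (18 * (g * f)) < n9 - 1) : Row S := by
  intro p hp h5 hd
  have hP : Prime (p : ℤ) := Nat.prime_iff_prime_int.1 hp
  have hb := bnd hq hcard hp hd
  by_cases h : p ∣ n7
  · have h' : ¬ p ∣ n9 := fun h' => coprime_7_9 hP (by rw [← hT.hN7]; exact_mod_cast h.trans h7)
      (by rw [← hT.hN9]; exact_mod_cast h'.trans h9)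
    refine reg_of_torus h' (hT.a9 hq hg hcard hout h9 h9' (lt_of_le_of_lt ?_ hiB))
    exact Nat.mul_le_mul_right _ (by omega)
  · refine reg_of_torus h (hT.a7 hq hg hcard hout h7 h7' (lt_of_le_of_lt ?_ hiA))
    exact Nat.mul_le_mul_right _ (by omega)

/-- the part prime to `r` -/
theorem exists_part {N r : ℕ} (hr : r.Prime) (h : ¬ r ^ (2:ℕ) ∣ N) : ∃ n c, n * c = N ∧ ¬ r ∣ n ∧ c ≤ r := by
  by_cases h1 : r ∣ N
  · obtain ⟨n, rfl⟩ := h1
    refine ⟨n, r, mul_comm _ _, fun h2 => h ?_, le_rfl⟩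
    rw [pow_two]
    exact Nat.mul_dvd_mul_left r h2
  · exact ⟨N, 1, mul_one N, h1, hr.one_lt.le⟩

/-- **the row of `E₇(q)`** -/
theorem row {q ℓ f N7 N9 t7 t9 : ℕ} (hℓ : ℓ.Prime) (hf : 1 ≤ f) (hq : q = ℓ ^ f)
    (hT : Tori S q (Nat.gcd 2 (q - 1)) N7 N9 t7 t9) (hcard : (Nat.gcd 2 (q - 1) : ℤ) * Nat.card S = P7 q)
    (hout : Nat.card (Cfsg.Out S) = Nat.gcd 2 (q - 1) * f) : Row S := by
  have hq2 := two_le_of hℓ hf hq
  have hfq : 2 ^ f ≤ q := by rw [hq]; exact Nat.pow_le_pow_left hℓ.two_le f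
  have hfq' : f + 1 ≤ q := (lt_two_pow' f).trans hfq
  have hN7 : N7 = 1 + q + q ^ (2:ℕ) + q ^ (3:ℕ) + q ^ (4:ℕ) + q ^ (5:ℕ) + q ^ (6:ℕ) := by
    have := hT.hN7
    exact_mod_cast this
  have hN9 : N9 = 1 + q ^ (3:ℕ) + q ^ (6:ℕ) := by
    have := hT.hN9
    exact_mod_cast this
  have hlog : ∀ k, q < 2 ^ k → f < k := fun k hk => by
    by_contra h
    push Not at h
    exact absurd ((Nat.pow_le_pow_right (by norm_num) h).trans hfq) (not_le.2 hk)
  by_cases h2 : q = 2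
  · subst h2
    have : f = 1 := by have := hlog 2 (by norm_num); omega
    subst this
    exact two hT hcard hout
  by_cases h3 : q = 3
  · subst h3
    have : f = 1 := by have := hlog 2 (by norm_num); omega
    subst this
    exact three hT hcard hout
  by_cases h4 : q = 4
  · subst h4
    have : f = 2 := by
      have := hlog 3 (by norm_num)
      have h1 : f ≠ 1 := by
        rintro rfl
        rw [pow_one] at hq
        rw [← hq] at hℓ
        exact absurd hℓ (by norm_num)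
      omega
    subst this
    exact four hT hcard hout
  by_cases h5 : q = 5
  · subst h5
    have : f = 1 := by
      have := hlog 3 (by norm_num)
      have h1 : f ≠ 2 := by
        rintro rfl
        have h6 : ℓ ≤ 2 := by
          by_contra h
          push Not at h
          nlinarith only [hq, h]
        interval_cases ℓ <;> omega
      omega
    subst this
    norm_num at hN7 hN9
    exact gen hT (by norm_num) (Or.inr rfl) hcard hout (n7 := 19531) (n9 := 15751) (by rw [hN7]) (by norm_num)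
      (by rw [hN9]) (by norm_num) (by norm_num) (by norm_num)
  have h6 : q ≠ 6 := by
    rintro rfl
    have h7 : 2 ∣ ℓ ^ f := by rw [← hq]; norm_num
    have h8 : 3 ∣ ℓ ^ f := by rw [← hq]; norm_num
    have h9 := (Nat.prime_dvd_prime_iff_eq Nat.prime_two hℓ).1 (Nat.prime_two.dvd_of_dvd_pow h7)
    have h10 := (Nat.prime_dvd_prime_iff_eq Nat.prime_three hℓ).1 (Nat.prime_three.dvd_of_dvd_pow h8)
    omega
  have hq7 : 7 ≤ q := by (clear * - hq2 h2 h3 h4 h5 h6; omega)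
  obtain ⟨n7, c7, e7, hn7, hc7⟩ := exists_part (N := N7) (r := 7) (by norm_num) (fun h => by
    have h4 := zmod_of hT.hN7 h
    push_cast at h4
    generalize (q : ZMod (7 ^ (2:ℕ))) = y at h4; revert h4; revert y; decide +kernel)
  obtain ⟨n9, c9, e9, hn9, hc9⟩ := exists_part (N := N9) (r := 3) (by norm_num) (fun h => by
    have h4 := zmod_of hT.hN9 h
    push_cast at h4
    generalize (q : ZMod (3 ^ (2:ℕ))) = y at h4; revert h4; revert y; decide +kernel)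
  -- it is enough to bound `7 (..)` and `3 (..)`
  have main : ∀ g, (7 * ((q ^ (3:ℕ) + q ^ (2:ℕ)) * (14 * (g * f))) + 7 < N7) →
      (3 * ((q ^ (3:ℕ) + q ^ (2:ℕ)) * (18 * (g * f))) + 3 < N9) →
      (q ^ (3:ℕ) + q ^ (2:ℕ)) * (14 * (g * f)) < n7 - 1 ∧ (q ^ (3:ℕ) + q ^ (2:ℕ)) * (18 * (g * f)) < n9 - 1 := by
    intro g hA hB
    constructor
    · have h1 : N7 ≤ 7 * n7 := by rw [← e7, mul_comm]; gcongr
      (clear * - hA h1; omega)
    · have h1 : N9 ≤ 3 * n9 := by rw [← e9, mul_comm]; gcongr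
      (clear * - hB h1; omega)
  have hgg : Nat.gcd 2 (q - 1) = 1 ∨ Nat.gcd 2 (q - 1) = 2 := by
    have := Nat.gcd_dvd_left 2 (q - 1)
    exact (Nat.dvd_prime Nat.prime_two).1 this
  suffices hs : 7 * ((q ^ (3:ℕ) + q ^ (2:ℕ)) * (14 * (Nat.gcd 2 (q - 1) * f))) + 7 < N7 ∧
      3 * ((q ^ (3:ℕ) + q ^ (2:ℕ)) * (18 * (Nat.gcd 2 (q - 1) * f))) + 3 < N9 by
    obtain ⟨hiA, hiB⟩ := main _ hs.1 hs.2
    exact gen hT hq2 hgg hcard hout ⟨c7, e7.symm⟩ hn7 ⟨c9, e9.symm⟩ hn9 hiA hiB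
  have hg2 : Nat.gcd 2 (q - 1) ≤ 2 := Nat.le_of_dvd (by norm_num) (Nat.gcd_dvd_left _ _)
  by_cases h7 : q = 7
  · subst h7
    have : f ≤ 1 := by
      have := hlog 3 (by norm_num)
      have h1 : f ≠ 2 := by
        rintro rfl
        have h6 : ℓ ≤ 2 := by
          by_contra h
          push Not at h
          nlinarith only [hq, h]
        interval_cases ℓ <;> omega
      omega
    have h8 : Nat.gcd 2 (7 - 1) * f ≤ 2 * 1 := Nat.mul_le_mul hg2 this
    rw [hN7, hN9]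
    norm_num only [_root_.mul_le_iff_le_one_right] at h8 ⊢
    omega
  by_cases h8 : q = 8
  · subst h8
    have : f ≤ 3 := by have := hlog 4 (by norm_num); omega
    rw [hN7, hN9]
    norm_num
    omega
  have hq9 : 9 ≤ q := by (clear * - hq7 h7 h8; omega)
  have e3 : 9 * q ^ (2:ℕ) ≤ q ^ (3:ℕ) := by
    calc 9 * q ^ (2:ℕ) ≤ q * q ^ (2:ℕ) := by gcongr
      _ = q ^ (3:ℕ) := by ring
  have e4 : 9 * q ^ (3:ℕ) ≤ q ^ (4:ℕ) := by
    calc 9 * q ^ (3:ℕ) ≤ q * q ^ (3:ℕ) := by gcongr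
      _ = q ^ (4:ℕ) := by ring
  have e5 : 9 * q ^ (4:ℕ) ≤ q ^ (5:ℕ) := by
    calc 9 * q ^ (4:ℕ) ≤ q * q ^ (4:ℕ) := by gcongr
      _ = q ^ (5:ℕ) := by ring
  have e6 : 9 * q ^ (5:ℕ) ≤ q ^ (6:ℕ) := by
    calc 9 * q ^ (5:ℕ) ≤ q * q ^ (5:ℕ) := by gcongr
      _ = q ^ (6:ℕ) := by ring
  have e2 : 81 ≤ q ^ (2:ℕ) := by
    calc 81 = 9 ^ (2:ℕ) := by norm_num
      _ ≤ q ^ (2:ℕ) := Nat.pow_le_pow_left hq9 2
  by_cases hf2 : f ≤ 2
  · have h8 : Nat.gcd 2 (q - 1) * f ≤ 2 * 2 := Nat.mul_le_mul hg2 hf2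
    have hA : (q ^ (3:ℕ) + q ^ (2:ℕ)) * (14 * (Nat.gcd 2 (q - 1) * f)) ≤ (q ^ (3:ℕ) + q ^ (2:ℕ)) * (14 * (2 * 2)) := by gcongr
    have hB : (q ^ (3:ℕ) + q ^ (2:ℕ)) * (18 * (Nat.gcd 2 (q - 1) * f)) ≤ (q ^ (3:ℕ) + q ^ (2:ℕ)) * (18 * (2 * 2)) := by gcongr
    rw [hN7, hN9]
    constructor <;> (clear * - hq9 e3 e4 e5 e6 hA e2 hB; omega)
  · have hq14 : 14 ≤ q := by
      by_contra hlt
      push Not at hlt
      have h1 : f = 3 := by have := hlog 4 (by omega); omega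
      subst h1
      have h2 : ℓ ≤ 2 := by
        by_contra h
        push Not at h
        have : 3 ^ (3:ℕ) ≤ ℓ ^ (3:ℕ) := Nat.pow_le_pow_left h 3
        omega
      have h3 : ℓ = 2 := by have := hℓ.two_le; omega
      subst h3
      omega
    obtain ⟨a, rfl⟩ : ∃ a, q = a + 1 := ⟨q - 1, by (clear * - hq14; omega)⟩
    have hfa : f ≤ a := by omega
    have h8 : Nat.gcd 2 (a + 1 - 1) * f ≤ 2 * a := Nat.mul_le_mul hg2 hfa
    have hA : ((a + 1) ^ (3:ℕ) + (a + 1) ^ (2:ℕ)) * (14 * (Nat.gcd 2 (a + 1 - 1) * f)) ≤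
        ((a + 1) ^ (3:ℕ) + (a + 1) ^ (2:ℕ)) * (14 * (2 * a)) := by gcongr
    have hB : ((a + 1) ^ (3:ℕ) + (a + 1) ^ (2:ℕ)) * (18 * (Nat.gcd 2 (a + 1 - 1) * f)) ≤
        ((a + 1) ^ (3:ℕ) + (a + 1) ^ (2:ℕ)) * (18 * (2 * a)) := by gcongr
    have hA' : ((a + 1) ^ (3:ℕ) + (a + 1) ^ (2:ℕ)) * (14 * (2 * a)) + 28 * (a + 1) ^ (2:ℕ) = 28 * (a + 1) ^ (4:ℕ) := by ring
    have hB' : ((a + 1) ^ (3:ℕ) + (a + 1) ^ (2:ℕ)) * (18 * (2 * a)) + 36 * (a + 1) ^ (2:ℕ) = 36 * (a + 1) ^ (4:ℕ) := by ring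
    have h46 : 196 * (a + 1) ^ (4:ℕ) ≤ (a + 1) ^ (6:ℕ) := by
      calc 196 * (a + 1) ^ (4:ℕ) = 14 * 14 * (a + 1) ^ (4:ℕ) := by norm_num
        _ ≤ (a + 1) * (a + 1) * (a + 1) ^ (4:ℕ) := by gcongr
        _ = (a + 1) ^ (6:ℕ) := by ring
    rw [hN7, hN9]
    constructor <;> omega

end Cfsg.Agent.H92.PRegE7
end

-- part: H92/PRegRows
section
/-!
# The rows `F₄`, `E₆`, `²E₆`, `E₇`, `E₈` of S4883 (helper92)
-/

set_option autoImplicit false
set_option linter.unusedSectionVars false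

namespace Cfsg.Agent.H92.PRegRows

open CoxeterSystem Cfsg Cfsg.Lie Cfsg.Lie.ChevalleyDatum
open Cfsg.Agent.ChevalleyStructure Cfsg.Agent.ChevalleyStructure.Elts Cfsg.Agent.ChevalleyStructure.CoxeterGeom
  Cfsg.Agent.ChevalleyStructure.CoxeterGeomTypes Cfsg.Agent.ChevalleyStructure.NPerm
open Cfsg.Agent.Tits.Roots Cfsg.Agent.Tits.Core Cfsg.Agent.Nodes Cfsg.Agent.Nodes.Reps Cfsg.Agent.Nodes.BNOf
  Cfsg.Agent.Nodes.RGDChev Cfsg.Agent.Nodes.Bruhat Cfsg.Agent.Nodes.SubComb Cfsg.Agent.Nodes.Coroot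
open Cfsg.Agent.H129 Cfsg.Agent.H129.TorusChar Cfsg.Agent.H129.TorusTw Cfsg.Agent.H129.WData Cfsg.Agent.H129.TorAct
  Cfsg.Agent.H129.RealT Cfsg.Agent.H129.CycT
open Cfsg.Agent.H93.PReg Cfsg.Agent.H92.PRegT Cfsg.Agent.H92.KTools Cfsg.Agent.H436

universe u

theorem iso_of_exact {G : Type*} [Group G] {m : ℕ} (h : CycExact G m) : Iso G m m := by
  obtain ⟨T, h1, h2, h3⟩ := h
  refine ⟨T, h1, h2, dvd_rfl, fun r hr _ y hy hyr => (h3 y hy ?_).le⟩
  rintro rfl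
  rw [orderOf_one] at hyr
  exact hr.one_lt.ne hyr

theorem exists_charP {F : Type u} [Field F] [Fintype F] : ∃ p n : ℕ, p.Prime ∧ CharP F p ∧ 1 ≤ n ∧ Fintype.card F = p ^ n := by
  obtain ⟨p, hp⟩ := CharP.exists F
  obtain ⟨n, hpr, hn⟩ := FiniteField.card F p
  exact ⟨p, n, hpr, hp, n.2, hn⟩

theorem cast_pow_sub {q : ℕ} (hq : 2 ≤ q) (d : ℕ) : ((q ^ d - 1 : ℕ) : ℤ) = (q : ℤ) ^ d - 1 := by
  rw [Nat.cast_sub (Nat.one_le_pow _ _ (by omega))]
  push_cast; rfl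

section Untw

variable {F : Type u} [Field F] [Fintype F] {q : ℕ}

/-! ### `F₄` -/

theorem iso_F4_8 (hq : Fintype.card F = q) :
    Iso ↥(chevF4.group F) (q ^ (4:ℕ) + 1) ((q ^ (4:ℕ) + 1) / Nat.gcd 2 (q - 1)) := by
  have hq2 : 2 ≤ q := by rw [← hq]; exact Fintype.one_lt_card
  have hN : ((q ^ (4:ℕ) + 1 : ℕ) : ℤ) = 1 + (q : ℤ) ^ (4:ℕ) := by push_cast; ring
  by_cases h2 : 2 ∣ q - 1
  · rw [Nat.gcd_eq_left h2]
    have : Finite CoxeterMatrix.F₄.Group := Nat.finite_of_card_ne_zero (by rw [cardW_F4]; norm_num)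
    obtain ⟨T, h1, h3, h4, h5, -⟩ := UntwT.untw_T typeF4 CoxeterMatrix.F₄.toCoxeterSystem (by norm_num) hq
      TorusChar.invC_F4 one_ne_zero DataF4.hA DataF4.chainOK DataF4.cycOK DataF4.rootOK (N := q ^ (4:ℕ) + 1)
      (by rw [DataF4.fN_eq, hN]) (UntwData.coprime_of_eq (a := (q : ℤ) ^ (3:ℕ)) (by rw [hN]; ring)) (d := 1) (Or.inl rfl)
    have hcard : Nat.card ↥T = q ^ (4:ℕ) + 1 := Nat.dvd_antisymm h3 (by rwa [one_mul] at h4)
    have h2N : 2 ∣ q ^ (4:ℕ) + 1 := by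
      obtain ⟨k, hk⟩ := h2
      have : q = 2 * k + 1 := by omega
      exact ⟨8 * k ^ (4:ℕ) + 16 * k ^ (3:ℕ) + 12 * k ^ (2:ℕ) + 4 * k + 1, by rw [this]; ring⟩
    refine ⟨T, h1, hcard, Nat.div_dvd_of_dvd h2N, fun r hr hrN y hy hyr => ?_⟩
    have hr2 : r ≠ 2 := by
      rintro rfl
      obtain ⟨k, hk⟩ := h2
      have h6 : q = 2 * k + 1 := by omega
      have h7 : (q ^ (4:ℕ) + 1) / 2 = 2 * (4 * k ^ (4:ℕ) + 8 * k ^ (3:ℕ) + 6 * k ^ (2:ℕ) + 2 * k) + 1 := by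
        rw [h6]
        apply Nat.div_eq_of_eq_mul_right (by norm_num)
        ring
      rw [h7] at hrN
      omega
    have hrN' : r ∣ q ^ (4:ℕ) + 1 := hrN.trans (Nat.div_dvd_of_dvd h2N)
    exact h5 r hr (good_F4_8 hN hr hrN' hr2).1 (good_F4_8 hN hr hrN' hr2).2 y hy hyr
  · have hg : Nat.gcd 2 (q - 1) = 1 := (Nat.Prime.coprime_iff_not_dvd Nat.prime_two).2 h2
    rw [hg, Nat.div_one]
    refine iso_of_exact (exact_F4_8 hq hN fun h => ?_)
    have h3 : q % 2 = 0 := by omega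
    obtain ⟨k, hk⟩ : ∃ k, q = 2 * k := ⟨q / 2, by omega⟩
    have h4 : q ^ (4:ℕ) + 1 = 2 * (8 * k ^ (4:ℕ)) + 1 := by rw [hk]; ring
    omega

theorem f4_aux (hF : Fintype.card F = q) : Row ↥(chevF4.group F) := by
  obtain ⟨p, f, hp, hc, hf, hcard⟩ := exists_charP (F := F)
  have : Fact p.Prime := ⟨hp⟩
  have hq : q = p ^ f := hF.symm.trans hcard
  have hq2 : 2 ≤ q := by rw [← hF]; exact Fintype.one_lt_card
  have h1 := S1062.result hF
  have h2 := S2122.result p f hcard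
  obtain ⟨N12, hN12⟩ : ∃ N12 : ℕ, (N12 : ℤ) = 1 - (q : ℤ) ^ (2:ℕ) + (q : ℤ) ^ (4:ℕ) := by
    refine ⟨(1 - (q : ℤ) ^ (2:ℕ) + (q : ℤ) ^ (4:ℕ)).toNat, Int.toNat_of_nonneg ?_⟩
    linarith only [sq_nonneg ((q : ℤ) ^ (2:ℕ) - 1), sq_nonneg (q : ℤ)]
  refine PRegF4.row hp hf hq ?_ h2 hN12 (iso_of_exact (exact_F4_12 hF hN12)) (iso_F4_8 hF) ?_
  · rw [h1]
    simp only [Nat.cast_mul, cast_pow_sub hq2]
    unfold PRegF4.P4
    push_cast; ring
  · intro h
    have h2 : p = 2 := by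
      have : p ∣ q := by rw [hq]; exact dvd_pow_self p (by omega)
      rw [h] at this
      exact (Nat.prime_dvd_prime_iff_eq hp Nat.prime_two).1 this
    subst h2
    exact (ExcF4Two.hasOrd (F := F) ExcF4Two.o20).of_dvd (by norm_num) (by norm_num)

/-! ### `E₆` -/

theorem five_12 {N : ℕ} (hN : (N : ℤ) = 1 - (q : ℤ) ^ (2:ℕ) + (q : ℤ) ^ (4:ℕ)) {r : ℕ} (hrN : r ∣ N) : r ≠ 5 := by
  rintro rfl
  have hz : (1 - (q : ZMod 5) ^ (2:ℕ) + (q : ZMod 5) ^ (4:ℕ) = 0) := by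
    have := zmod_of_dvd hN hrN
    push_cast at this
    exact this
  generalize (q : ZMod 5) = x at hz; revert hz; revert x; decide

theorem cox_E6 (hq : Fintype.card F = q) {N3 N12 : ℕ} (hN3 : (N3 : ℤ) = (q : ℤ) ^ (2:ℕ) + (q : ℤ) + 1)
    (hN12 : (N12 : ℤ) = (q : ℤ) ^ (4:ℕ) - (q : ℤ) ^ (2:ℕ) + 1) :
    ∃ t, N3 * N12 ∣ Nat.gcd 3 (q - 1) * t ∧ t ∣ N3 * N12 ∧ Iso ↥(chevE6.group F) t N12 := by
  have := TwT.finite_W6
  have hq2 : 2 ≤ q := by rw [← hq]; exact Fintype.one_lt_card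
  have hN12' : (N12 : ℤ) = 1 - (q : ℤ) ^ (2:ℕ) + (q : ℤ) ^ (4:ℕ) := by rw [hN12]; ring
  have hN : ((N3 * N12 : ℕ) : ℤ) = 1 + (q : ℤ) - (q : ℤ) ^ (3:ℕ) + (q : ℤ) ^ (5:ℕ) + (q : ℤ) ^ (6:ℕ) := by
    push_cast; rw [hN3, hN12]; ring
  obtain ⟨T, h1, h3, h4, h5, -⟩ := UntwT.untw_T typeE6 CoxeterMatrix.E₆.toCoxeterSystem (by norm_num) hq
    TorusChar.invC_E6 (by norm_num) DataE6.hA DataE6.chainOK DataE6.cycOK DataE6.rootOK (N := N3 * N12)
    (by rw [DataE6.fN_eq, hN])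
    (UntwData.coprime_of_eq (a := 1 - (q : ℤ) ^ (2:ℕ) + (q : ℤ) ^ (4:ℕ) + (q : ℤ) ^ (5:ℕ)) (by rw [hN]; ring)) (d := 3)
    (Or.inl rfl)
  have h312 : Nat.Coprime N12 3 := coprime_of_ne Nat.prime_three fun h => (primes_12 hN12' h).2 rfl
  have h12t : N12 ∣ Nat.card ↥T := h312.dvd_of_dvd_mul_left ((dvd_mul_left N12 N3).trans h4)
  refine ⟨Nat.card ↥T, ?_, h3, T, h1, rfl, h12t, fun r hr hrN y hy hyr => ?_⟩
  · by_cases hd : 3 ∣ q - 1
    · rw [Nat.gcd_eq_left hd]; exact h4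
    · rw [(Nat.Prime.coprime_iff_not_dvd Nat.prime_three).2 hd, one_mul]
      refine Nat.Coprime.dvd_of_dvd_mul_left (coprime_of_ne Nat.prime_three fun h => ?_) h4
      have h6 : (1 + (q : ZMod 3) - (q : ZMod 3) ^ (3:ℕ) + (q : ZMod 3) ^ (5:ℕ) + (q : ZMod 3) ^ (6:ℕ) = 0) := by
        have := zmod_of_dvd hN h
        push_cast at this
        exact this
      have h7 : (q : ZMod 3) = 1 := by
        generalize (q : ZMod 3) = x at h6 ⊢; revert h6; revert x; decide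
      apply hd
      rw [← ZMod.natCast_eq_zero_iff, Nat.cast_sub (by omega), h7]
      norm_num
  · obtain ⟨hr2, hr3⟩ := primes_12 hN12' hrN
    refine h5 r hr (not_dvd_W_E6 hr hr2 hr3 (five_12 hN12' hrN)) (fun s hs => ?_) y hy hyr
    rcases DataE6.dvd_of_G (cast_dvd hN12' hrN) s hs with h | h
    · exact not_one hr h
    · exact not_prime hr Nat.prime_two hr2 h

theorem e6_aux (hF : Fintype.card F = q) : Row ↥(chevE6.group F) := by
  obtain ⟨p, f, hp, hc, hf, hcard⟩ := exists_charP (F := F)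
  have : Fact p.Prime := ⟨hp⟩
  have hq : q = p ^ f := hF.symm.trans hcard
  have hq2 : 2 ≤ q := by rw [← hF]; exact Fintype.one_lt_card
  have h1 := S1063.result hF
  have h2 := S2123.result p f hcard
  rw [← hq] at h2
  obtain ⟨N3, hN3⟩ : ∃ N3 : ℕ, (N3 : ℤ) = (q : ℤ) ^ (2:ℕ) + (q : ℤ) + 1 := ⟨q ^ (2:ℕ) + q + 1, by push_cast; ring⟩
  obtain ⟨N12, hN12⟩ : ∃ N12 : ℕ, (N12 : ℤ) = (q : ℤ) ^ (4:ℕ) - (q : ℤ) ^ (2:ℕ) + 1 := by
    refine ⟨((q : ℤ) ^ (4:ℕ) - (q : ℤ) ^ (2:ℕ) + 1).toNat, Int.toNat_of_nonneg ?_⟩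
    linarith only [sq_nonneg ((q : ℤ) ^ (2:ℕ) - 1), sq_nonneg (q : ℤ)]
  obtain ⟨t, ht1, ht2, ht3⟩ := cox_E6 hF hN3 hN12
  have hN9 : ((q ^ (6:ℕ) + q ^ (3:ℕ) + 1 : ℕ) : ℤ) = 1 + (q : ℤ) ^ (3:ℕ) + (q : ℤ) ^ (6:ℕ) := by push_cast; ring
  have h9 := iso_of_exact (exact_E6_9 hF hN9)
  have hg : Nat.gcd 3 (q - 1) ∣ q ^ (6:ℕ) + q ^ (3:ℕ) + 1 := by
    by_cases hd : 3 ∣ q - 1
    · rw [Nat.gcd_eq_left hd]
      obtain ⟨k, hk⟩ := hd
      have h3 : q = 3 * k + 1 := by (clear * - hq2 hk; omega)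
      rw [← Nat.modEq_zero_iff_dvd, h3]
      have h4 : 3 * k + 1 ≡ 1 [MOD 3] := by
        unfold Nat.ModEq; omega
      calc (3 * k + 1) ^ (6:ℕ) + (3 * k + 1) ^ (3:ℕ) + 1 ≡ 1 ^ (6:ℕ) + 1 ^ (3:ℕ) + 1 [MOD 3] :=
            ((h4.pow 6).add (h4.pow 3)).add rfl
        _ ≡ 0 [MOD 3] := by decide
    · rw [(Nat.Prime.coprime_iff_not_dvd Nat.prime_three).2 hd]; exact one_dvd _
  refine PRegE6.e6_row hp hf hq ?_ h2 ?_ h9 hN3 hN12 ht1 ht2 ht3
  · have h3 := congrArg (Nat.cast : ℕ → ℤ) h1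
    simp only [Nat.cast_mul, cast_pow_sub hq2] at h3
    rw [h3]
    unfold PRegE6.P6
    push_cast; (set_option synthInstance.maxSize 99999 in exact Cfsg.Agent.Lib.RingK.eq (by decide +kernel))
  · rw [Nat.mul_div_cancel' hg]
    push_cast; ring

/-! ### `E₇` -/

theorem iso_E7_7 (hq : Fintype.card F = q) {N : ℕ} (hN : (N : ℤ) = 1 + (q : ℤ) + (q : ℤ) ^ (2:ℕ) + (q : ℤ) ^ (3:ℕ) +
    (q : ℤ) ^ (4:ℕ) + (q : ℤ) ^ (5:ℕ) + (q : ℤ) ^ (6:ℕ)) :
    ∃ t, (q - 1) * N ∣ Nat.gcd 2 (q - 1) * t ∧ t ∣ (q - 1) * N ∧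
      ∀ n, n ∣ N → ¬ 7 ∣ n → Iso ↥(chevE7.group F) t n := by
  have := finite_W7
  have hq2 : 2 ≤ q := by rw [← hq]; exact Fintype.one_lt_card
  obtain ⟨h1, h2⟩ := fN_7 hq2 hN
  obtain ⟨T, h3, h4, h5, h6, -⟩ := UntwT.untw_T typeE7 CoxeterMatrix.E₇.toCoxeterSystem (by norm_num) hq
    TorusChar.invC_E7 (by norm_num) DataE7s.hA DataE7s.chainOK DataE7s.cycOK DataE7s.rootOK h1 h2 (d := 2) (Or.inl rfl)
  have hodd : Nat.Coprime N 2 := coprime_of_ne Nat.prime_two fun h => (primes_7 hN h).1 rfl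
  refine ⟨Nat.card ↥T, ?_, h4, fun n hn hn7 => ⟨T, h3, rfl, ?_, fun r hr hrn y hy hyr => ?_⟩⟩
  · by_cases hd : 2 ∣ q - 1
    · rw [Nat.gcd_eq_left hd]; exact h5
    · rw [(Nat.Prime.coprime_iff_not_dvd Nat.prime_two).2 hd, one_mul]
      exact Nat.Coprime.dvd_of_dvd_mul_left (Nat.Coprime.mul_left (coprime_of_ne Nat.prime_two hd) hodd) h5
  · exact (Nat.Coprime.coprime_dvd_left hn hodd).dvd_of_dvd_mul_left ((hn.mul_left _).trans h5)
  · have hr7 : r ≠ 7 := by rintro rfl; exact hn7 hrn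
    have hrN := hrn.trans hn
    exact h6 r hr (good_E7_7 hN hr hrN hr7).1 (good_E7_7 hN hr hrN hr7).2 y hy hyr

theorem iso_E7_9 (hq : Fintype.card F = q) {N : ℕ} (hN : (N : ℤ) = 1 + (q : ℤ) ^ (3:ℕ) + (q : ℤ) ^ (6:ℕ)) :
    ∃ t, (q - 1) * N ∣ Nat.gcd 2 (q - 1) * t ∧ t ∣ (q - 1) * N ∧
      ∀ n, n ∣ N → ¬ 3 ∣ n → Iso ↥(chevE7.group F) t n := by
  have := finite_W7
  have hq2 : 2 ≤ q := by rw [← hq]; exact Fintype.one_lt_card
  obtain ⟨h1, h2⟩ := fN_9 hq2 hN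
  obtain ⟨T, h3, h4, h5, h6, -⟩ := UntwT.untw_T typeE7 CoxeterMatrix.E₇.toCoxeterSystem (by norm_num) hq
    TorusChar.invC_E7 (by norm_num) DataE7n.hA DataE7n.chainOK DataE7n.cycOK DataE7n.rootOK h1 h2 (d := 2) (Or.inl rfl)
  have hodd : Nat.Coprime N 2 := coprime_of_ne Nat.prime_two fun h => ((primes_9 hN).2 h).1 rfl
  refine ⟨Nat.card ↥T, ?_, h4, fun n hn hn7 => ⟨T, h3, rfl, ?_, fun r hr hrn y hy hyr => ?_⟩⟩
  · by_cases hd : 2 ∣ q - 1
    · rw [Nat.gcd_eq_left hd]; exact h5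
    · rw [(Nat.Prime.coprime_iff_not_dvd Nat.prime_two).2 hd, one_mul]
      exact Nat.Coprime.dvd_of_dvd_mul_left (Nat.Coprime.mul_left (coprime_of_ne Nat.prime_two hd) hodd) h5
  · exact (Nat.Coprime.coprime_dvd_left hn hodd).dvd_of_dvd_mul_left ((hn.mul_left _).trans h5)
  · have hr3 : r ≠ 3 := by rintro rfl; exact hn7 hrn
    have hrN := hrn.trans hn
    exact h6 r hr (good_E7_9 hN hr hrN hr3).1 (good_E7_9 hN hr hrN hr3).2 y hy hyr

theorem e7_aux (hF : Fintype.card F = q) : Row ↥(chevE7.group F) := by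
  obtain ⟨p, f, hp, hc, hf, hcard⟩ := exists_charP (F := F)
  have : Fact p.Prime := ⟨hp⟩
  have hq : q = p ^ f := hF.symm.trans hcard
  have hq2 : 2 ≤ q := by rw [← hF]; exact Fintype.one_lt_card
  have h1 := S1064.result hF
  have h2 := S2124.result p f hcard
  rw [← hq] at h2
  have hN7 : ((1 + q + q ^ (2:ℕ) + q ^ (3:ℕ) + q ^ (4:ℕ) + q ^ (5:ℕ) + q ^ 6 : ℕ) : ℤ) = 1 + (q : ℤ) + (q : ℤ) ^ (2:ℕ) + (q : ℤ) ^ (3:ℕ) +
    (q : ℤ) ^ (4:ℕ) + (q : ℤ) ^ (5:ℕ) + (q : ℤ) ^ (6:ℕ) := by push_cast; ring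
  have hN9 : ((1 + q ^ (3:ℕ) + q ^ 6 : ℕ) : ℤ) = 1 + (q : ℤ) ^ (3:ℕ) + (q : ℤ) ^ (6:ℕ) := by push_cast; ring
  obtain ⟨t7, a1, a2, a3⟩ := iso_E7_7 hF hN7
  obtain ⟨t9, b1, b2, b3⟩ := iso_E7_9 hF hN9
  refine PRegE7.row hp hf hq ⟨hN7, hN9, a1, a2, a3, b1, b2, b3⟩ ?_ h2
  have h3 := congrArg (Nat.cast : ℕ → ℤ) h1
  simp only [Nat.cast_mul, cast_pow_sub hq2] at h3
  rw [h3]
  unfold PRegE7.P7
  push_cast; (set_option synthInstance.maxSize 99999 in exact Cfsg.Agent.Lib.RingK.eq (by decide +kernel))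

/-! ### `E₈` -/

theorem e8_aux (hF : Fintype.card F = q) : Row ↥(chevE8.group F) := by
  obtain ⟨p, f, hp, hc, hf, hcard⟩ := exists_charP (F := F)
  have : Fact p.Prime := ⟨hp⟩
  have hq : q = p ^ f := hF.symm.trans hcard
  have hq2 : 2 ≤ q := by rw [← hF]; exact Fintype.one_lt_card
  have h1 := S1065.result hF
  have h2 := S2125.result p f hcard
  have hz : (2 : ℤ) ≤ q := by exact_mod_cast hq2
  obtain ⟨a, ha⟩ : ∃ a : ℤ, (q : ℤ) = a + 2 := ⟨q - 2, by ring⟩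
  have ha0 : 0 ≤ a := by omega
  obtain ⟨N24, hN24⟩ : ∃ N : ℕ, (N : ℤ) = 1 - (q : ℤ) ^ (4:ℕ) + (q : ℤ) ^ (8:ℕ) := by
    refine ⟨(1 - (q : ℤ) ^ (4:ℕ) + (q : ℤ) ^ (8:ℕ)).toNat, Int.toNat_of_nonneg ?_⟩
    rw [ha]; ring_nf; (clear * - ha0; positivity)
  obtain ⟨N30, hN30⟩ : ∃ N : ℕ, (N : ℤ) = 1 + (q : ℤ) - (q : ℤ) ^ (3:ℕ) - (q : ℤ) ^ (4:ℕ) - (q : ℤ) ^ (5:ℕ) + (q : ℤ) ^ (7:ℕ) + (q : ℤ) ^ (8:ℕ) := by
    refine ⟨(1 + (q : ℤ) - (q : ℤ) ^ (3:ℕ) - (q : ℤ) ^ (4:ℕ) - (q : ℤ) ^ (5:ℕ) + (q : ℤ) ^ (7:ℕ) + (q : ℤ) ^ (8:ℕ)).toNat, Int.toNat_of_nonneg ?_⟩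
    rw [ha]; ring_nf; (clear * - ha0; positivity)
  obtain ⟨N15, hN15⟩ : ∃ N : ℕ, (N : ℤ) = 1 - (q : ℤ) + (q : ℤ) ^ (3:ℕ) - (q : ℤ) ^ (4:ℕ) + (q : ℤ) ^ (5:ℕ) - (q : ℤ) ^ (7:ℕ) + (q : ℤ) ^ (8:ℕ) := by
    refine ⟨(1 - (q : ℤ) + (q : ℤ) ^ (3:ℕ) - (q : ℤ) ^ (4:ℕ) + (q : ℤ) ^ (5:ℕ) - (q : ℤ) ^ (7:ℕ) + (q : ℤ) ^ (8:ℕ)).toNat, Int.toNat_of_nonneg ?_⟩
    rw [ha]; ring_nf; (clear * - ha0; positivity)
  refine PRegE8.row hp hf hq ?_ h2 hN24 hN30 hN15 (iso_of_exact (exact_E8_24 hF hN24))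
    (iso_of_exact (exact_E8_30 hF hN30)) (iso_of_exact (exact_E8_15 hF hN15))
  rw [h1]
  simp only [Nat.cast_mul, cast_pow_sub hq2]
  unfold PRegE8.P8
  push_cast; (set_option synthInstance.maxSize 99999 in exact Cfsg.Agent.Lib.RingK.eq (by decide +kernel))

end Untw

/-! ### `²E₆` -/

section Tw

variable {K : Type u} [Field K] [Fintype K] {q : ℕ}

theorem cox_tE6 (hq : IsPrimePow q) (hK : Fintype.card K = q ^ (2:ℕ)) {N3 N12 : ℕ}
    (hN3 : (N3 : ℤ) = (-(q : ℤ)) ^ (2:ℕ) + (-(q : ℤ)) + 1) (hN12 : (N12 : ℤ) = (-(q : ℤ)) ^ (4:ℕ) - (-(q : ℤ)) ^ (2:ℕ) + 1) :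
    ∃ t, N3 * N12 ∣ Nat.gcd 3 (q + 1) * t ∧ t ∣ N3 * N12 ∧ Iso ↥(twistedE6 K q) t N12 := by
  have hN12' : (N12 : ℤ) = 1 - (q : ℤ) ^ (2:ℕ) + (q : ℤ) ^ (4:ℕ) := by rw [hN12]; ring
  have hM : ((N3 * N12 : ℕ) : ℤ) = 1 - (q : ℤ) + (q : ℤ) ^ (3:ℕ) - (q : ℤ) ^ (5:ℕ) + (q : ℤ) ^ (6:ℕ) := by
    push_cast; rw [hN3, hN12]; ring
  obtain ⟨T, h1, h3, h4, h5, -⟩ := TwT.flip_T hq hK DataTE6c.hA DataTE6c.chainOK DataTE6c.hd_pi DataTE6c.cycOK
    DataTE6c.rootOK DataTE6c.chain2OK DataTE6c.hd2_eq (N := N3 * N12) (by rw [DataTE6c.fN_eq, hM])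
    (UntwData.coprime_of_eq (a := -1 + (q : ℤ) ^ (2:ℕ) - (q : ℤ) ^ (4:ℕ) + (q : ℤ) ^ (5:ℕ)) (by rw [hM]; ring))
  have h312 : Nat.Coprime N12 3 := coprime_of_ne Nat.prime_three fun h => (primes_12 hN12' h).2 rfl
  have h12t : N12 ∣ Nat.card ↥T :=
    (Nat.Coprime.coprime_dvd_right (Nat.gcd_dvd_left 3 (q + 1)) h312).dvd_of_dvd_mul_left
      ((dvd_mul_left N12 N3).trans h4)
  refine ⟨Nat.card ↥T, h4, h3, T, h1, rfl, h12t, fun r hr hrN y hy hyr => ?_⟩
  obtain ⟨hr2, hr3⟩ := primes_12 hN12' hrN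
  refine h5 r hr (not_dvd_W_E6 hr hr2 hr3 (five_12 hN12' hrN)) (fun s hs => ?_) y hy hyr
  rcases DataTE6c.dvd_of_G (cast_dvd hN12' hrN) s hs with h | h
  · exact not_one hr h
  · exact not_prime hr Nat.prime_two hr2 h

theorem te6_aux (hpp : IsPrimePow q) (hF : Fintype.card K = q ^ (2:ℕ)) : Row ↥(twistedE6 K q) := by
  obtain ⟨p, f, hp, hf, hq⟩ := hpp
  rw [← Nat.prime_iff] at hp
  have hq' : q = p ^ f := hq.symm
  have : Fact p.Prime := ⟨hp⟩
  have hcard : Fintype.card K = p ^ (2 * f) := by rw [hF, hq', ← pow_mul, mul_comm]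
  have hc : CharP K p := by
    obtain ⟨p', f', hp', hc', hf', hcard'⟩ := exists_charP (F := K)
    have h1 : p' ∣ p ^ (2 * f) := by rw [← hcard, hcard']; exact dvd_pow_self p' (by omega)
    have h2 := (Nat.prime_dvd_prime_iff_eq hp' hp).1 (hp'.dvd_of_dvd_pow h1)
    rwa [h2] at hc'
  have hpp : IsPrimePow q := ⟨p, f, Nat.prime_iff.1 hp, hf, hq⟩
  have hq2 : 2 ≤ q := hpp.two_le
  have h1 := S1066.result hpp hF
  have h2 := S2130.result (K := K) p f hcard hf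
  rw [hq] at h2
  have hz : (2 : ℤ) ≤ q := by exact_mod_cast hq2
  obtain ⟨N3, hN3⟩ : ∃ N3 : ℕ, (N3 : ℤ) = (-(q : ℤ)) ^ (2:ℕ) + (-(q : ℤ)) + 1 := by
    refine ⟨((-(q : ℤ)) ^ (2:ℕ) + (-(q : ℤ)) + 1).toNat, Int.toNat_of_nonneg ?_⟩
    nlinarith only []
  obtain ⟨N12, hN12⟩ : ∃ N12 : ℕ, (N12 : ℤ) = (-(q : ℤ)) ^ (4:ℕ) - (-(q : ℤ)) ^ (2:ℕ) + 1 := by
    refine ⟨((-(q : ℤ)) ^ (4:ℕ) - (-(q : ℤ)) ^ (2:ℕ) + 1).toNat, Int.toNat_of_nonneg ?_⟩
    linarith only [hq2, hN3, sq_nonneg ((q : ℤ) ^ (2:ℕ) - 1)]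
  obtain ⟨t, ht1, ht2, ht3⟩ := cox_tE6 hpp hF hN3 hN12
  obtain ⟨N9, hN9⟩ : ∃ N : ℕ, (N : ℤ) = 1 - (q : ℤ) ^ (3:ℕ) + (q : ℤ) ^ (6:ℕ) := by
    refine ⟨(1 - (q : ℤ) ^ (3:ℕ) + (q : ℤ) ^ (6:ℕ)).toNat, Int.toNat_of_nonneg ?_⟩
    obtain ⟨a, ha⟩ : ∃ a : ℤ, (q : ℤ) = a + 2 := ⟨q - 2, by ring⟩
    have ha0 : 0 ≤ a := by omega
    rw [ha]; ring_nf; (clear * - ha0; positivity)
  have h9 := iso_of_exact (exact_tE6_18 hpp hF hN9)
  have hg : Nat.gcd 3 (q + 1) ∣ N9 := by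
    by_cases hd : 3 ∣ q + 1
    · rw [Nat.gcd_eq_left hd]
      have hq3 : (q : ZMod 3) = 2 := by
        have h7 := (ZMod.natCast_eq_zero_iff (q + 1) 3).2 hd
        push_cast at h7
        rw [eq_neg_of_add_eq_zero_left h7]
        decide
      rw [← ZMod.natCast_eq_zero_iff]
      have h7 : ((N9 : ℤ) : ZMod 3) = 0 := by
        rw [hN9]
        push_cast
        rw [hq3]
        decide
      exact_mod_cast h7
    · rw [(Nat.Prime.coprime_iff_not_dvd Nat.prime_three).2 hd]; exact one_dvd _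
  refine PRegE6.te6_row hp hf hq' ?_ h2 ?_ h9 hN3 hN12 ht1 ht2 ht3
  · have h3 := congrArg (Nat.cast : ℕ → ℤ) h1
    simp only [Nat.cast_mul, cast_pow_sub hq2, Nat.cast_add, Nat.cast_one, Nat.cast_pow] at h3
    rw [h3]
    unfold PRegE6.P6
    (set_option synthInstance.maxSize 99999 in exact Cfsg.Agent.Lib.RingK.eq (by decide +kernel))
  · rw [Nat.mul_div_cancel' hg, hN9]
    ring

end Tw

theorem row_f4 {S : Type u} [Group S] [Finite S] {q : ℕ} (h : IsNamed (.f4 q) S) : Row S := by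
  obtain ⟨F, _, _, hF, ⟨e⟩⟩ := h.real
  exact (f4_aux hF).congr e.symm

theorem row_e6 {S : Type u} [Group S] [Finite S] {q : ℕ} (h : IsNamed (.e6 q) S) : Row S := by
  obtain ⟨F, _, _, hF, ⟨e⟩⟩ := h.real
  exact (e6_aux hF).congr e.symm

theorem row_te6 {S : Type u} [Group S] [Finite S] {q : ℕ} (h : IsNamed (.te6 q) S) : Row S := by
  obtain ⟨F, _, _, hF, ⟨e⟩⟩ := h.real
  exact (te6_aux h.cond hF).congr e.symm

theorem row_e7 {S : Type u} [Group S] [Finite S] {q : ℕ} (h : IsNamed (.e7 q) S) : Row S := by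
  obtain ⟨F, _, _, hF, ⟨e⟩⟩ := h.real
  exact (e7_aux hF).congr e.symm

theorem row_e8 {S : Type u} [Group S] [Finite S] {q : ℕ} (h : IsNamed (.e8 q) S) : Row S := by
  obtain ⟨F, _, _, hF, ⟨e⟩⟩ := h.real
  exact (e8_aux hF).congr e.symm

end Cfsg.Agent.H92.PRegRows
end

private theorem dce_6d2b2fc1323e : _root_.True := by
  try have : _root_.True := by simp only [_root_.Cfsg.Agent.H92.PRegE6.P6.eq_1]
  try have : _root_.True := by simp only [_root_.Cfsg.Agent.H92.PRegE7.P7.eq_1]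
  try have : _root_.True := by simp only [_root_.Cfsg.Agent.H92.PRegF4.P4.eq_1]
  exact _root_.True.intro
end
end
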